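import Groth.Agent.Lib.Tame.Symbol
import Groth.Agent.Lib.CycPush.Algebra
import Mathlib.RingTheory.Localization.LocalizationLocalization
import Mathlib.RingTheory.Localization.Finiteness

/-!
Data on the localization of a finite algebra at a prime of the base.
-/

set_option autoImplicit false
universe u

namespace GrothLib.Tame

open IsLocalRing CycAlg GrothLib.LengthDet

section point

variable {C E : Type u} [CommRing C] [CommRing E] [Algebra C E] {Q : Ideal C} {Q' : Ideal E}
  (hQ : Q'.comap (algebraMap C E) = Q) {π x : C} {e : ℕ}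

include hQ in
theorem PowAt.map (h : PowAt Q π x e) : PowAt Q' (algebraMap C E π) (algebraMap C E x) e := by
  obtain ⟨s, c, hs, hc, h⟩ := h
  refine ⟨algebraMap C E s, algebraMap C E c, fun h' => hs (hQ ▸ Ideal.mem_comap.2 h'),
    fun h' => hc (hQ ▸ Ideal.mem_comap.2 h'), ?_⟩
  rw [← map_pow, ← map_mul, ← map_mul, h]

variable (M : Submonoid C) [IsLocalization M E] [Q.IsPrime] [Q'.IsPrime]

include M hQ in
theorem isLocalization_point :
    IsLocalization.AtPrime (Localization.AtPrime Q') Q := by
  subst hQ
  exact IsLocalization.isLocalization_isLocalization_atPrime_isLocalization M (Localization.AtPrime Q') Q'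

include M hQ in
theorem regular_point {y : C} (hy : algebraMap C (Localization.AtPrime Q) y ∈ nonZeroDivisors (Localization.AtPrime Q)) :
    algebraMap E (Localization.AtPrime Q') (algebraMap C E y) ∈ nonZeroDivisors (Localization.AtPrime Q') := by
  haveI := isLocalization_point hQ M
  rw [← IsScalarTower.algebraMap_apply, mem_nonZeroDivisors_iff_right]
  intro z hz
  let e := IsLocalization.algEquiv Q.primeCompl (Localization.AtPrime Q') (Localization.AtPrime Q)
  refine e.injective ?_
  rw [map_zero]
  refine (mul_right_mem_nonZeroDivisors_eq_zero_iff hy).1 ?_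
  rw [← e.commutes y, ← map_mul, hz, map_zero]

include M hQ in
theorem ord_point (y : C) :
    Ring.ord (Localization.AtPrime Q') (algebraMap E (Localization.AtPrime Q') (algebraMap C E y)) =
      Ring.ord (Localization.AtPrime Q) (algebraMap C (Localization.AtPrime Q) y) := by
  haveI := isLocalization_point hQ M
  rw [← IsScalarTower.algebraMap_apply, ← CycPush.locLen_eq_ord ⟨Q, inferInstance⟩,
    ← CycPush.locLen_eq_ord ⟨Q, inferInstance⟩]

end point

/-- A finite extension with cokernel killed by a regular element. -/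
theorem isFinExt_of_smul_mem {S : Type u} [CommRing S] [IsNoetherianRing S] [IsLocalRing S] [Ring.KrullDimLE 1 S]
    {E : Type u} [CommRing E] [Algebra S E] (hinj : Function.Injective (algebraMap S E)) [Module.Finite S E]
    {d : S} (hd : d ∈ nonZeroDivisors S) (h : ∀ x : E, d • x ∈ (algebraMap S E).range) :
    IsFinExt S E (maximalIdeal S) := by
  obtain ⟨n, hn⟩ := exists_pow_le_span hd
  refine ⟨hinj, inferInstance, n, fun r hr b => ?_⟩
  obtain ⟨r', rfl⟩ := Ideal.mem_span_singleton'.1 (hn hr)
  obtain ⟨y, hy⟩ := h b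
  exact ⟨r' * y, by rw [map_mul, hy, mul_smul, Algebra.smul_def r']⟩

section base

variable {A₀ S C E : Type u} [CommRing A₀] [CommRing S] [Algebra A₀ S] {p : Ideal A₀} [p.IsPrime]
  [IsLocalization.AtPrime S p] [CommRing C] [Algebra A₀ C] [Module.Finite A₀ C] [CommRing E] [Algebra C E]
  [IsLocalization (Algebra.algebraMapSubmonoid C p.primeCompl) E] [Algebra A₀ E] [Algebra S E]
  [IsScalarTower A₀ S E] [IsScalarTower A₀ C E] [IsLocalRing S]

include p S C

variable (p S) in
theorem finite_base : Module.Finite S E :=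
  Module.Finite.of_isLocalization A₀ C p.primeCompl

variable (p S C) in
theorem injective_base (hinj : Function.Injective (algebraMap A₀ C)) : Function.Injective (algebraMap S E) := by
  rw [injective_iff_map_eq_zero]
  intro x hx
  obtain ⟨⟨a, s⟩, has⟩ := IsLocalization.surj p.primeCompl x
  have h0 : algebraMap C E (algebraMap A₀ C a) = 0 := by
    rw [← IsScalarTower.algebraMap_apply, IsScalarTower.algebraMap_apply A₀ S E, ← has, map_mul, hx, zero_mul]
  obtain ⟨⟨_, t, ht, rfl⟩, hta⟩ := (IsLocalization.map_eq_zero_iff (Algebra.algebraMapSubmonoid C p.primeCompl) E _).1 h0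
  have h1 : t * a = 0 := hinj (by rw [map_mul, map_zero]; exact hta)
  have hs : IsUnit (algebraMap A₀ S s) := IsLocalization.map_units S s
  refine hs.mul_left_eq_zero.1 (has.trans ?_)
  exact (IsLocalization.map_units S (⟨t, ht⟩ : p.primeCompl)).mul_right_eq_zero.1 (by rw [← map_mul, h1, map_zero])

variable (p S) in
theorem comap_comap_eq (Q' : Ideal E) [Q'.IsMaximal] :
    (Q'.comap (algebraMap C E)).comap (algebraMap A₀ C) = p := by
  haveI : Module.Finite S E := finite_base S p (C := C)
  have h := IsLocalRing.eq_maximalIdeal (Ideal.isMaximal_comap_of_isIntegral_of_isMaximal (R := S) Q')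
  rw [Ideal.comap_comap, ← IsScalarTower.algebraMap_eq, IsScalarTower.algebraMap_eq A₀ S E, ← Ideal.comap_comap, h]
  exact IsLocalization.AtPrime.under_maximalIdeal S p

omit p S C in
variable (C) in
/-- The point of `C` under a maximal ideal of the localization. -/
abbrev down (Q' : MaximalSpectrum E) : PrimeSpectrum C :=
  ⟨Q'.asIdeal.comap (algebraMap C E), Ideal.IsPrime.comap _⟩

variable (p S) in
theorem down_injective : Function.Injective (down C : MaximalSpectrum E → PrimeSpectrum C) := fun Q Q' h =>
  MaximalSpectrum.ext (by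
    rw [← IsLocalization.map_under (Algebra.algebraMapSubmonoid C p.primeCompl) E Q.asIdeal,
      ← IsLocalization.map_under (Algebra.algebraMapSubmonoid C p.primeCompl) E Q'.asIdeal]
    exact congrArg (Ideal.map (algebraMap C E)) (congrArg PrimeSpectrum.asIdeal h))

variable (p S E) in
theorem exists_down_eq (Q : PrimeSpectrum C) (hQ : Q.asIdeal.comap (algebraMap A₀ C) = p) :
    ∃ Q' : MaximalSpectrum E, down C Q' = Q := by
  haveI : Module.Finite S E := finite_base S p (C := C)
  have hd : Disjoint (Algebra.algebraMapSubmonoid C p.primeCompl : Set C) Q.asIdeal := by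
    rw [Set.disjoint_left]
    rintro _ ⟨t, ht, rfl⟩ htQ
    exact ht (hQ ▸ Ideal.mem_comap.2 htQ)
  haveI hP := IsLocalization.isPrime_of_isPrime_disjoint (Algebra.algebraMapSubmonoid C p.primeCompl) E Q.asIdeal Q.isPrime hd
  have hu := IsLocalization.under_map_of_isPrime_disjoint (Algebra.algebraMapSubmonoid C p.primeCompl) E Q.isPrime hd
  have hm : (Q.asIdeal.map (algebraMap C E)).IsMaximal := by
    refine Ideal.isMaximal_of_isIntegral_of_isMaximal_comap (R := S) _ ?_
    have hle := IsLocalRing.le_maximalIdeal (Ideal.IsPrime.ne_top (Ideal.IsPrime.comap (algebraMap S E) (K := Q.asIdeal.map (algebraMap C E))))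
    have heq : (Q.asIdeal.map (algebraMap C E)).comap (algebraMap S E) = maximalIdeal S := by
      refine le_antisymm hle fun x hx => ?_
      obtain ⟨⟨a, s⟩, has⟩ := IsLocalization.surj p.primeCompl x
      have hap : a ∈ p := by
        rw [← IsLocalization.AtPrime.under_maximalIdeal S p]
        exact Ideal.mem_comap.2 (has ▸ Ideal.mul_mem_right _ _ hx)
      have hs : IsUnit (algebraMap S E (algebraMap A₀ S s)) := (IsLocalization.map_units S s).map _
      refine Ideal.mem_comap.2 ((Ideal.mul_unit_mem_iff_mem _ hs).1 ?_)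
      rw [← map_mul, has, ← IsScalarTower.algebraMap_apply, IsScalarTower.algebraMap_apply A₀ C E]
      exact Ideal.mem_map_of_mem _ (Ideal.mem_comap.1 (hQ.symm ▸ hap))
    rw [heq]
    infer_instance
  exact ⟨⟨_, hm⟩, PrimeSpectrum.ext hu⟩

variable [Module.Finite S E]

/-- Data on the localization from factorizations at the primes over `p`. -/
noncomputable def localData {a₁ a₂ : A₀} (π : PrimeSpectrum C → C) (e₁ e₂ : PrimeSpectrum C → ℕ)
    (hreg : ∀ Q : PrimeSpectrum C, Q.asIdeal.comap (algebraMap A₀ C) = p →
      algebraMap C (Localization.AtPrime Q.asIdeal) (π Q) ∈ nonZeroDivisors (Localization.AtPrime Q.asIdeal))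
    (h₁ : ∀ Q : PrimeSpectrum C, Q.asIdeal.comap (algebraMap A₀ C) = p → PowAt Q.asIdeal (π Q) (algebraMap A₀ C a₁) (e₁ Q))
    (h₂ : ∀ Q : PrimeSpectrum C, Q.asIdeal.comap (algebraMap A₀ C) = p → PowAt Q.asIdeal (π Q) (algebraMap A₀ C a₂) (e₂ Q)) :
    Data S E (algebraMap A₀ S a₁) (algebraMap A₀ S a₂) where
  π Q' := algebraMap C E (π (down C Q'))
  reg Q' := regular_point (Q := (down C Q').asIdeal) rfl (Algebra.algebraMapSubmonoid C p.primeCompl)
    (hreg _ (comap_comap_eq S p Q'.asIdeal))
  e₁ Q' := e₁ (down C Q')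
  e₂ Q' := e₂ (down C Q')
  h₁ Q' := by
    rw [← IsScalarTower.algebraMap_apply, IsScalarTower.algebraMap_apply A₀ C E]
    exact PowAt.map (Q := (down C Q').asIdeal) rfl (h₁ _ (comap_comap_eq S p Q'.asIdeal))
  h₂ Q' := by
    rw [← IsScalarTower.algebraMap_apply, IsScalarTower.algebraMap_apply A₀ C E]
    exact PowAt.map (Q := (down C Q').asIdeal) rfl (h₂ _ (comap_comap_eq S p Q'.asIdeal))

end base

end GrothLib.Tame
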