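import Groth.Agent.Lib.Tame.Dim2Global
import Groth.Agent.Lib.Tame.Transport
import Groth.Agent.S14503
import Mathlib.RingTheory.Ideal.Height
import Mathlib.RingTheory.Localization.Integral
import Mathlib.RingTheory.Polynomial.ScaleRoots

/-!
Spreading local extensions of a two-dimensional base and comparing orders of norms with lengths.
-/

set_option autoImplicit false
universe u

namespace GrothLib.Tame

open IsLocalRing GrothLib.LengthDet CycAlg Polynomial

section dim

variable {B : Type u} [CommRing B] [IsNoetherianRing B]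

theorem curveRing_of_dim (hB : ringKrullDim B ≤ 2) : CurveRing B := by
  intro d hd P hP hdP
  have hle : ∀ (I : Ideal B) [I.IsPrime], I.height ≤ 2 := fun I _ =>
    WithBot.coe_le_coe.1 ((Ideal.height_le_ringKrullDim_of_isPrime).trans hB)
  have hfh : ∀ (I : Ideal B) [I.IsPrime], I.FiniteHeight := fun I _ =>
    I.finiteHeight_iff.2 (Or.inr (ne_top_of_le_ne_top (by decide) (hle I)))
  haveI := hfh P.asIdeal
  have h1 : (1 : ℕ∞) ≤ P.asIdeal.height := by
    rw [ENat.one_le_iff_ne_zero, Ne, Ideal.height_eq_zero_iff]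
    exact fun h => Set.disjoint_left.1 (Ideal.disjoint_nonZeroDivisors_of_mem_minimalPrimes h) hdP hd
  obtain ⟨M, hM, hPM⟩ := Ideal.exists_le_maximal P.asIdeal P.isPrime.ne_top
  haveI := hfh M
  have hlt : P.asIdeal.height < M.height :=
    Ideal.height_strict_mono_of_isPrime (lt_of_le_of_ne hPM fun h => hP (h ▸ hM))
  refine ⟨hP, Ring.krullDimLE_iff.2 ?_, fun Q hQ => ?_⟩
  · rw [IsLocalization.AtPrime.ringKrullDim_eq_height P.asIdeal]
    exact WithBot.coe_le_coe.2 (Order.le_of_lt_add_one (hlt.trans_le (hle M)))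
  · by_contra hQm
    obtain ⟨N, hN, hQN⟩ := Ideal.exists_le_maximal Q.asIdeal Q.isPrime.ne_top
    haveI := hfh Q.asIdeal
    have h2 : P.asIdeal.height < Q.asIdeal.height := Ideal.height_strict_mono_of_isPrime hQ
    have h3 : Q.asIdeal.height < N.height :=
      Ideal.height_strict_mono_of_isPrime (lt_of_le_of_ne hQN fun h => hQm (h ▸ hN))
    have h2' : (2 : ℕ∞) ≤ Q.asIdeal.height := Order.add_one_le_of_lt (h1.trans_lt h2)
    exact absurd ((h2'.trans_lt h3).trans_le (hle N)) (lt_irrefl _)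

end dim

section lift

variable {A S L Lq : Type u} [CommRing A] [CommRing S] [Algebra A S] [CommRing L] [Algebra A L] [CommRing Lq]
  [Algebra A Lq] [Algebra S Lq] [IsScalarTower A S Lq] [Algebra L Lq] [IsScalarTower A L Lq]
  (p : Ideal A) [p.IsPrime] [IsLocalization.AtPrime S p]
  [IsLocalization (Algebra.algebraMapSubmonoid L p.primeCompl) Lq]

include p in
/-- An integral element of the localization lifts up to a denominator. -/
theorem exists_lift {x : Lq} (hx : IsIntegral S x) :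
    ∃ y : L, IsIntegral A y ∧ ∃ w, w ∉ p ∧ algebraMap L Lq y = algebraMap A Lq w * x := by
  obtain ⟨⟨s, hs⟩, hsx⟩ := IsIntegral.exists_multiple_integral_of_isLocalization p.primeCompl x hx
  obtain ⟨⟨y₀, ⟨_, t, ht, rfl⟩⟩, hy₀⟩ := IsLocalization.surj (Algebra.algebraMapSubmonoid L p.primeCompl) x
  obtain ⟨P, hP, hPx⟩ := hsx
  set y₁ := algebraMap A L s * y₀ with hy₁def
  have hy₁ : algebraMap L Lq y₁ = algebraMap A Lq t * (algebraMap A Lq s * x) := by
    rw [hy₁def, map_mul, ← hy₀, ← IsScalarTower.algebraMap_apply, ← IsScalarTower.algebraMap_apply]; ring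
  have hP1 : (P.scaleRoots t * X).Monic := ((monic_scaleRoots_iff t).2 hP).mul monic_X
  set P' := P.scaleRoots t * X with hP'
  have h0 : algebraMap L Lq (aeval y₁ P') = 0 := by
    rw [← aeval_algebraMap_apply, hP', map_mul, hy₁, scaleRoots_aeval_eq_zero, zero_mul]
    rwa [Submonoid.smul_def, Algebra.smul_def] at hPx
  obtain ⟨⟨_, v, hv, rfl⟩, hv0⟩ := (IsLocalization.map_eq_zero_iff (Algebra.algebraMapSubmonoid L p.primeCompl) Lq _).1 h0
  refine ⟨algebraMap A L v * y₁, ⟨P'.scaleRoots v, (monic_scaleRoots_iff v).2 hP1, ?_⟩, v * t * s,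
    p.primeCompl.mul_mem (p.primeCompl.mul_mem hv ht) hs, ?_⟩
  · rw [scaleRoots_eval₂_mul]
    have hn : 1 ≤ P'.natDegree := by
      rcases subsingleton_or_nontrivial A with h | h
      · exact absurd (Subsingleton.elim (1 : A) 0 ▸ p.zero_mem) fun h' => Ideal.IsPrime.ne_top ‹_› ((Ideal.eq_top_iff_one p).2 h')
      · rw [hP', ((monic_scaleRoots_iff t).2 hP).natDegree_mul monic_X, natDegree_X]; omega
    obtain ⟨k, hk⟩ := Nat.exists_eq_add_of_le' hn
    rw [hk, pow_succ, mul_assoc, ← aeval_def, hv0, mul_zero]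
  · rw [map_mul, hy₁, ← IsScalarTower.algebraMap_apply, map_mul, map_mul]; ring

end lift

section point

variable {A S B C Lq : Type u} [CommRing A] [CommRing S] [IsLocalRing S] [Algebra A S] [CommRing B] [Algebra A B]
  [CommRing C] [Algebra S C] [Algebra A C] [IsScalarTower A S C] [CommRing Lq]
  [Algebra A Lq] [Algebra B Lq] [IsScalarTower A B Lq] [Algebra C Lq] [IsScalarTower A C Lq]
  (p : Ideal A) [p.IsPrime] [IsLocalization.AtPrime S p] (Q : Ideal B) [Q.IsPrime]
  (hQ : Q.comap (algebraMap A B) = p)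
  (hkill : ∀ β : B, algebraMap B Lq β = 0 → ∃ w, w ∉ p ∧ algebraMap A B w * β = 0)
  (hdense : ∀ c : C, ∃ w β, w ∉ p ∧ algebraMap B Lq β = algebraMap A Lq w * algebraMap C Lq c)

include hQ hkill hdense in
/-- The point of the local extension under a point of the global one. -/
theorem exists_point [Module.Finite S C] :
    ∃ q : Ideal C, q.IsMaximal ∧ ∀ (c : C) (w : A) (β : B), w ∉ p →
      algebraMap B Lq β = algebraMap A Lq w * algebraMap C Lq c → (c ∈ q ↔ β ∈ Q) := by
  have hw : ∀ {w : A}, w ∉ p → algebraMap A B w ∉ Q := fun hw h => hw (hQ ▸ Ideal.mem_comap.2 h)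
  have wd : ∀ {c : C} {w w' : A} {β β' : B}, w ∉ p → w' ∉ p →
      algebraMap B Lq β = algebraMap A Lq w * algebraMap C Lq c →
      algebraMap B Lq β' = algebraMap A Lq w' * algebraMap C Lq c → β ∈ Q → β' ∈ Q := by
    intro c w w' β β' hw₁ hw₁' h h' hβ
    obtain ⟨v, hv, hv0⟩ := hkill (algebraMap A B w' * β - algebraMap A B w * β') (by
      rw [map_sub, map_mul, map_mul, h, h', ← IsScalarTower.algebraMap_apply, ← IsScalarTower.algebraMap_apply]; ring)
    have h1 := (Ideal.IsPrime.mem_or_mem ‹Q.IsPrime› (show algebraMap A B v * _ ∈ Q by rw [hv0]; exact Q.zero_mem)).resolve_left (hw hv)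
    exact (Ideal.IsPrime.mem_or_mem ‹Q.IsPrime›
      (show algebraMap A B w * β' ∈ Q by simpa using Q.sub_mem (Q.mul_mem_left (algebraMap A B w') hβ) h1)).resolve_left (hw hw₁)
  choose w β hwc hβ using hdense
  let q : Ideal C :=
    { carrier := {c | β c ∈ Q}
      zero_mem' := wd (β := 0) (show (1 : A) ∉ p from fun h => Ideal.IsPrime.ne_top ‹_› ((Ideal.eq_top_iff_one _).2 h))
        (hwc 0) (by simp) (hβ 0) Q.zero_mem
      add_mem' := fun {c d} hc hd => wd (p.primeCompl.mul_mem (hwc c) (hwc d)) (hwc (c + d))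
        (β := algebraMap A B (w d) * β c + algebraMap A B (w c) * β d)
        (by rw [map_add, map_mul, map_mul, hβ, hβ, ← IsScalarTower.algebraMap_apply, ← IsScalarTower.algebraMap_apply,
          map_mul, map_add]; ring)
        (hβ (c + d)) (Q.add_mem (Q.mul_mem_left _ hc) (Q.mul_mem_left _ hd))
      smul_mem' := fun r c hc => wd (p.primeCompl.mul_mem (hwc r) (hwc c)) (hwc (r • c)) (β := β r * β c)
        (by rw [map_mul, map_mul, hβ, hβ, smul_eq_mul, map_mul]; ring) (hβ (r • c)) (Q.mul_mem_left _ hc) }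
  have hmem : ∀ (c : C) (w' : A) (β' : B), w' ∉ p →
      algebraMap B Lq β' = algebraMap A Lq w' * algebraMap C Lq c → (c ∈ q ↔ β' ∈ Q) := fun c w' β' hw' h =>
    ⟨wd (hwc c) hw' (hβ c) h, wd hw' (hwc c) h (hβ c)⟩
  haveI hq : q.IsPrime := by
    refine ⟨fun h => ?_, fun {c d} hcd => ?_⟩
    · have h1 := (hmem 1 1 1 (fun h => Ideal.IsPrime.ne_top ‹_› ((Ideal.eq_top_iff_one _).2 h)) (by simp)).1 (h ▸ Submodule.mem_top)
      exact Ideal.IsPrime.ne_top ‹Q.IsPrime› ((Ideal.eq_top_iff_one _).2 h1)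
    · exact Ideal.IsPrime.mem_or_mem ‹Q.IsPrime› ((hmem (c * d) (w c * w d) (β c * β d) (p.primeCompl.mul_mem (hwc c) (hwc d))
        (by rw [map_mul, map_mul, hβ, hβ, map_mul]; ring)).1 hcd)
  refine ⟨q, ?_, hmem⟩
  refine Ideal.isMaximal_of_isIntegral_of_isMaximal_comap (R := S) q ?_
  have h1 : maximalIdeal S ≤ q.comap (algebraMap S C) := fun x hx => by
    obtain ⟨⟨a, s⟩, has⟩ := IsLocalization.surj p.primeCompl x
    have hap : a ∈ p := by
      rw [← IsLocalization.AtPrime.under_maximalIdeal S p]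
      exact Ideal.mem_comap.2 (has ▸ Ideal.mul_mem_right _ _ hx)
    have hs : IsUnit (algebraMap S C (algebraMap A S s)) := (IsLocalization.map_units S s).map _
    refine Ideal.mem_comap.2 ((Ideal.mul_unit_mem_iff_mem _ hs).1 ?_)
    rw [← map_mul, has, ← IsScalarTower.algebraMap_apply]
    refine (hmem _ 1 (algebraMap A B a) (fun h => Ideal.IsPrime.ne_top ‹_› ((Ideal.eq_top_iff_one _).2 h)) ?_).2
      (Ideal.mem_comap.1 (hQ.symm ▸ hap))
    rw [map_one, one_mul, ← IsScalarTower.algebraMap_apply, ← IsScalarTower.algebraMap_apply]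
  rw [← (IsLocalRing.maximalIdeal.isMaximal S).eq_of_le (Ideal.IsPrime.ne_top inferInstance) h1]
  infer_instance

include hQ hkill hdense in
theorem powAt_point {q : Ideal C} (hq : ∀ (c : C) (w : A) (β : B), w ∉ p →
      algebraMap B Lq β = algebraMap A Lq w * algebraMap C Lq c → (c ∈ q ↔ β ∈ Q))
    {π : C} {x : A} {e : ℕ} (h : PowAt q π (algebraMap A C x) e) {w : A} {β : B} (hw : w ∉ p)
    (hβ : algebraMap B Lq β = algebraMap A Lq w * algebraMap C Lq π) : PowAt Q β (algebraMap A B x) e := by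
  obtain ⟨s, c, hs, hc, h⟩ := h
  obtain ⟨ws, βs, hws, hβs⟩ := hdense s
  obtain ⟨wc, βc, hwc, hβc⟩ := hdense c
  have hA : ∀ {v : A}, v ∉ p → algebraMap A B v ∉ Q := fun hv h' => hv (hQ ▸ Ideal.mem_comap.2 h')
  obtain ⟨v, hv, hv0⟩ := hkill (algebraMap A B (wc * w ^ e) * βs * algebraMap A B x - algebraMap A B ws * βc * β ^ e) (by
    have := congrArg (algebraMap C Lq) h
    rw [map_mul, map_mul, map_pow, ← IsScalarTower.algebraMap_apply] at this
    simp only [map_sub, map_mul, map_pow, hβs, hβc, hβ, ← IsScalarTower.algebraMap_apply, mul_pow]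
    linear_combination (algebraMap A Lq wc * algebraMap A Lq w ^ e * algebraMap A Lq ws) * this)
  refine ⟨algebraMap A B v * (algebraMap A B (wc * w ^ e) * βs), algebraMap A B v * (algebraMap A B ws * βc), ?_, ?_, ?_⟩
  · exact Q.primeCompl.mul_mem (hA hv) (Q.primeCompl.mul_mem (hA (p.primeCompl.mul_mem hwc (pow_mem hw e)))
      fun h' => hs ((hq s ws βs hws hβs).2 h'))
  · exact Q.primeCompl.mul_mem (hA hv) (Q.primeCompl.mul_mem (hA hws) fun h' => hc ((hq c wc βc hwc hβc).2 h'))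
  · linear_combination hv0

end point

section bridge

/-- The order of the norm of a class on a curve is a length over the base. -/
theorem ordFrac_norm_eq_delta {A B : Type u} [CommRing A] [IsNoetherianRing A] [IsLocalRing A] [CommRing B] [Algebra A B]
    [Module.Finite A B] (q : Ideal A) [q.IsPrime] (hdim : ringKrullDim (A ⧸ q) = 1)
    (Q : PrimeSpectrum B) (hQ : Q.asIdeal.comap (algebraMap A B) = q) (K L : Type u) [Field K] [Field L]
    [Algebra (A ⧸ q) K] [IsFractionRing (A ⧸ q) K] [Algebra K L] [FiniteDimensional K L] (g : B →+* L)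
    (hker : RingHom.ker g = Q.asIdeal) (hsurj : ∀ z : L, ∃ x y, y ∉ Q.asIdeal ∧ z * g y = g x)
    (hg : ∀ a : A, g (algebraMap A B a) = algebraMap K L (algebraMap (A ⧸ q) K (Ideal.Quotient.mk q a)))
    {y : B} (hy : y ∉ Q.asIdeal) :
    CycAlg.ordFrac (A ⧸ q) K (Algebra.norm K (g y)) = delta A Q y := by
  haveI : IsLocalRing (A ⧸ q) := IsLocalRing.of_surjective' (Ideal.Quotient.mk q) Ideal.Quotient.mk_surjective
  letI : Algebra (A ⧸ q) (B ⧸ Q.asIdeal) := Ideal.Quotient.algebraQuotientOfLEComap hQ.ge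
  haveI : IsScalarTower A (A ⧸ q) (B ⧸ Q.asIdeal) := IsScalarTower.of_algebraMap_eq fun _ => rfl
  haveI : Module.Finite (A ⧸ q) (B ⧸ Q.asIdeal) := Module.Finite.of_restrictScalars_finite A _ _
  have hinj : Function.Injective (algebraMap (A ⧸ q) (B ⧸ Q.asIdeal)) := Ideal.quotientMap_injective' hQ.le
  let f : B ⧸ Q.asIdeal →+* L := Ideal.Quotient.lift Q.asIdeal g fun x hx => RingHom.mem_ker.1 (hker ▸ hx)
  letI : Algebra (B ⧸ Q.asIdeal) L := f.toAlgebra
  have hf : Function.Injective (algebraMap (B ⧸ Q.asIdeal) L) := by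
    rw [injective_iff_map_eq_zero]
    intro x hx
    obtain ⟨x, rfl⟩ := Ideal.Quotient.mk_surjective x
    exact Ideal.Quotient.eq_zero_iff_mem.2 (hker ▸ RingHom.mem_ker.2 hx)
  haveI : FaithfulSMul (B ⧸ Q.asIdeal) L := (faithfulSMul_iff_algebraMap_injective _ _).2 hf
  haveI : IsFractionRing (B ⧸ Q.asIdeal) L := IsFractionRing.of_field _ _ fun z => by
    obtain ⟨x, y, hy, hz⟩ := hsurj z
    exact ⟨Ideal.Quotient.mk _ x, Ideal.Quotient.mk _ y,
      (eq_div_iff (fun h => hy (hker ▸ RingHom.mem_ker.2 h))).2 hz⟩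
  letI : Algebra (A ⧸ q) L := ((algebraMap K L).comp (algebraMap (A ⧸ q) K)).toAlgebra
  haveI : IsScalarTower (A ⧸ q) K L := IsScalarTower.of_algebraMap_eq fun _ => rfl
  haveI : IsScalarTower (A ⧸ q) (B ⧸ Q.asIdeal) L := IsScalarTower.of_algebraMap_eq fun a => by
    obtain ⟨a, rfl⟩ := Ideal.Quotient.mk_surjective a
    exact (hg a).symm
  have hy0 : Ideal.Quotient.mk Q.asIdeal y ≠ 0 := fun h => hy (Ideal.Quotient.eq_zero_iff_mem.1 h)
  obtain ⟨-, h⟩ := Groth.Agent.S14503.result (A ⧸ q) hdim (B ⧸ Q.asIdeal) hinj K L _ hy0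
  rw [show g y = algebraMap (B ⧸ Q.asIdeal) L (Ideal.Quotient.mk Q.asIdeal y) from rfl, ← h, delta, lenA,
    ← Module.length_eq_of_surjective (S := A) (R := A ⧸ q) Ideal.Quotient.mk_surjective,
    show Ideal.span {Ideal.Quotient.mk Q.asIdeal y} = (Ideal.span {y}).map (Ideal.Quotient.mk Q.asIdeal) by
      rw [Ideal.map_span, Set.image_singleton],
    show Module.length A ((B ⧸ Q.asIdeal) ⧸ (Ideal.span {y}).map (Ideal.Quotient.mk Q.asIdeal)) =
      Module.length A (B ⧸ Q.asIdeal ⊔ Ideal.span {y}) from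
      (DoubleQuot.quotQuotEquivQuotSupₐ A Q.asIdeal (Ideal.span {y})).toLinearEquiv.length_eq]

end bridge

end GrothLib.Tame
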