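import Groth.Agent.Lib.Tame.Dim2Key

/-!
Bilinearity and the decomposition into pairs with simple common zeros.
-/

set_option autoImplicit false
universe u

namespace GrothLib.Tame

open IsLocalRing GrothLib.LengthDet CycAlg

variable {A : Type u} [CommRing A] [IsNoetherianRing A] [IsLocalRing A]
  {B : Type u} [CommRing B] [Algebra A B] [Module.Finite A B] [IsNoetherianRing B]

/-- Nonmaximal primes through a regular element form curves. -/
def CurveRing (B : Type u) [CommRing B] : Prop :=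
  ∀ (d : B), d ∈ nonZeroDivisors B → ∀ P : PrimeSpectrum B, ¬ P.asIdeal.IsMaximal → d ∈ P.asIdeal → IsCurvePt P

theorem exists_curves (hB : CurveRing B) {d : B} (hd : d ∈ nonZeroDivisors B) :
    ∃ T : Finset (PrimeSpectrum B), ∀ P, P ∈ T ↔ ¬ P.asIdeal.IsMaximal ∧ d ∈ P.asIdeal := by
  classical
  have hfin : {P : PrimeSpectrum B | ¬ P.asIdeal.IsMaximal ∧ d ∈ P.asIdeal}.Finite := by
    refine Set.Finite.subset ((Ideal.finite_minimalPrimes_of_isNoetherianRing B (Ideal.span {d})).preimage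
      (f := PrimeSpectrum.asIdeal) (Set.injOn_of_injective (fun _ _ h => PrimeSpectrum.ext h))) ?_
    rintro P ⟨hP, hdP⟩
    obtain ⟨p, hp, hle⟩ := Ideal.exists_minimalPrimes_le (J := P.asIdeal) ((Ideal.span_singleton_le_iff_mem _).2 hdP)
    rcases eq_or_ne p P.asIdeal with h | h
    · exact Set.mem_preimage.2 (h ▸ hp)
    · exfalso
      have hdp : d ∈ p := hp.1.2 (Ideal.mem_span_singleton_self d)
      have hpm : ¬ p.IsMaximal := fun hm => h (hm.eq_of_le P.isPrime.ne_top hle)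
      exact hP ((hB d hd ⟨p, hp.1.1⟩ hpm hdp).2.2 P (lt_of_le_of_ne hle fun e => h (congrArg PrimeSpectrum.asIdeal e)))
  exact ⟨hfin.toFinset, fun P => by rw [Set.Finite.mem_toFinset]; rfl⟩

theorem delta_finite {Q : PrimeSpectrum B} (hQ : IsCurvePt Q) {y : B} (hy : y ∉ Q.asIdeal) :
    Module.length A (B ⧸ (Q.asIdeal ⊔ Ideal.span {y})) ≠ ⊤ :=
  lengthA_ne_top (B := B) _ fun r hr => by
    have hle := support_of_mem _ hr
    refine hQ.2.2 r (lt_of_le_of_ne ((le_sup_left (b := Ideal.span {y})).trans hle : Q.asIdeal ≤ r.asIdeal) fun he => hy ?_)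
    rw [he]
    exact hle (Ideal.mem_sup_right (Ideal.mem_span_singleton_self y))

theorem delta_mul {Q : PrimeSpectrum B} (hQ : IsCurvePt Q) {y y' : B} (hy : y ∉ Q.asIdeal) (hy' : y' ∉ Q.asIdeal) :
    delta A Q (y * y') = delta A Q y + delta A Q y' := by
  have hyy : y * y' ∉ Q.asIdeal := fun h => (Q.isPrime.mem_or_mem h).elim hy hy'
  set P₁ := Q.asIdeal ⊔ Ideal.span {y * y'}
  have h1 : P₁ ≤ Q.asIdeal ⊔ Ideal.span {y} := sup_le_sup_left (Ideal.span_singleton_le_span_singleton.2 (dvd_mul_right _ _)) _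
  have hadd := dlen_add (A := A) (P := P₁) (Q := Q.asIdeal ⊔ Ideal.span {y}) (R := ⊤) h1 le_top
  have htop : ∀ P : Ideal B, dlen A P ⊤ = Module.length A (B ⧸ P) := fun P => by
    rw [dlen, Submodule.map_top, Submodule.range_mkQ]
    exact ((Submodule.topEquiv : (⊤ : Submodule B (B ⧸ P)) ≃ₗ[B] B ⧸ P).restrictScalars A).length_eq
  have hmid : dlen A P₁ (Q.asIdeal ⊔ Ideal.span {y}) = Module.length A (B ⧸ (Q.asIdeal ⊔ Ideal.span {y'})) := by
    let g : B →ₗ[B] B ⧸ P₁ := P₁.mkQ.comp (LinearMap.mulLeft B y)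
    have hr : LinearMap.range g = Submodule.map P₁.mkQ (Q.asIdeal ⊔ Ideal.span {y}) := by
      rw [Submodule.map_sup, show Submodule.map P₁.mkQ Q.asIdeal = ⊥ from by
        rw [eq_bot_iff]; rintro _ ⟨i, hi, rfl⟩
        exact (Submodule.Quotient.mk_eq_zero _).2 (Submodule.mem_sup_left hi), bot_sup_eq, LinearMap.range_comp]
      congr 1
      ext z
      simp only [LinearMap.mem_range, LinearMap.mulLeft_apply, Ideal.mem_span_singleton, dvd_iff_exists_eq_mul_right, eq_comm]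
    have hk : LinearMap.ker g = Q.asIdeal ⊔ Ideal.span {y'} := by
      ext b
      simp only [g, LinearMap.mem_ker, LinearMap.comp_apply, LinearMap.mulLeft_apply, Submodule.mkQ_apply,
        Submodule.Quotient.mk_eq_zero]
      constructor
      · intro h
        obtain ⟨p, hp, q, hq, hpq⟩ := Submodule.mem_sup.1 h
        obtain ⟨c, rfl⟩ := Ideal.mem_span_singleton.1 hq
        have : b - y' * c ∈ Q.asIdeal := (Q.isPrime.mem_or_mem
          (show y * (b - y' * c) ∈ Q.asIdeal by rwa [show y * (b - y' * c) = p by linear_combination -hpq])).resolve_left hy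
        simpa using Ideal.add_mem _ (Submodule.mem_sup_left this)
          (Submodule.mem_sup_right (Ideal.mul_mem_right c _ (Ideal.mem_span_singleton_self y')) : y' * c ∈ Q.asIdeal ⊔ Ideal.span {y'})
      · intro h
        obtain ⟨p, hp, q, hq, rfl⟩ := Submodule.mem_sup.1 h
        obtain ⟨c, rfl⟩ := Ideal.mem_span_singleton.1 hq
        rw [mul_add, ← mul_assoc]
        exact Submodule.add_mem _ (Submodule.mem_sup_left (Q.asIdeal.mul_mem_left _ hp))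
          (Submodule.mem_sup_right (Ideal.mul_mem_right c _ (Ideal.mem_span_singleton_self _)))
    rw [dlen, ← hr, ← (g.quotKerEquivRange.restrictScalars A).length_eq, hk]
  rw [htop, htop, hmid] at hadd
  rw [delta, delta, delta, lenA, lenA, lenA, hadd, ENat.toNat_add (delta_finite hQ hy') (delta_finite hQ hy)]
  push_cast
  ring

theorem delta_one (Q : PrimeSpectrum B) : delta A Q 1 = 0 := by
  have h : Q.asIdeal ⊔ Ideal.span {(1 : B)} = ⊤ := by simp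
  haveI : Subsingleton (B ⧸ (Q.asIdeal ⊔ Ideal.span {(1 : B)})) := Ideal.Quotient.subsingleton_iff.2 h
  rw [delta, lenA, Module.length_eq_zero, ENat.toNat_zero, Nat.cast_zero]

theorem delta_sub_congr {Q : PrimeSpectrum B} (hQ : IsCurvePt Q) {x y x' y' d : B} (hd : d ∈ nonZeroDivisors B)
    (hx : x ∉ Q.asIdeal) (hy : y ∉ Q.asIdeal) (hx' : x' ∉ Q.asIdeal) (hy' : y' ∉ Q.asIdeal)
    (h : d * (x * y') = d * (x' * y)) : delta A Q x - delta A Q y = delta A Q x' - delta A Q y' := by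
  have := congrArg (delta A Q) ((mul_cancel_left_mem_nonZeroDivisors hd).1 h)
  rw [delta_mul hQ hx hy', delta_mul hQ hx' hy] at this
  linarith

omit [IsNoetherianRing A] [IsLocalRing A] [Algebra A B] [Module.Finite A B] in
theorem lloc_of_notMem {Q : PrimeSpectrum B} {y : B} (hy : y ∉ Q.asIdeal) : lloc Q y = 0 := by
  rw [lloc, show locLen Q (B ⧸ Ideal.span {y}) = _ from locLen_eq_ord' Q.asIdeal y,
    Ring.ord_of_isUnit (IsLocalization.map_units (Localization.AtPrime Q.asIdeal) (⟨y, hy⟩ : Q.asIdeal.primeCompl))]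
  rfl

omit [IsNoetherianRing A] [IsLocalRing A] [Algebra A B] [Module.Finite A B] in
theorem lloc_mul {Q : PrimeSpectrum B} (hQ : IsCurvePt Q) {f f' : B} (hf : f ∈ nonZeroDivisors B) (hf' : f' ∈ nonZeroDivisors B) :
    lloc Q (f * f') = lloc Q f + lloc Q f' := by
  haveI := hQ.2.1
  haveI : IsNoetherianRing (Localization.AtPrime Q.asIdeal) :=
    IsLocalization.isNoetherianRing Q.asIdeal.primeCompl _ inferInstance
  have hr : ∀ {d : B}, d ∈ nonZeroDivisors B → algebraMap B (Localization.AtPrime Q.asIdeal) d ∈ nonZeroDivisors _ :=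
    fun hd => IsLocalization.map_nonZeroDivisors_le Q.asIdeal.primeCompl _ (Submonoid.mem_map_of_mem _ hd)
  simp only [lloc]
  rw [show locLen Q (B ⧸ Ideal.span {f * f'}) = _ from locLen_eq_ord' Q.asIdeal (f * f'),
    show locLen Q (B ⧸ Ideal.span {f}) = _ from locLen_eq_ord' Q.asIdeal f,
    show locLen Q (B ⧸ Ideal.span {f'}) = _ from locLen_eq_ord' Q.asIdeal f', map_mul, Ring.ord_mul _ (hr hf'),
    ENat.toNat_add (Ring.ord_ne_top (hr hf)) (Ring.ord_ne_top (hr hf'))]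
  push_cast; ring

omit [IsNoetherianRing A] [IsLocalRing A] [Algebra A B] [Module.Finite A B] in
theorem lloc_one (Q : PrimeSpectrum B) : lloc Q (1 : B) = 0 :=
  lloc_of_notMem fun h => Q.isPrime.ne_top ((Ideal.eq_top_iff_one _).2 h)

section psi

variable (A) (T : Finset (PrimeSpectrum B)) (π : PrimeSpectrum B → B)

open Classical in
/-- The exponent at a point. -/
noncomputable def expo (Q : PrimeSpectrum B) (f : B) : ℕ :=
  if h : ∃ e, PowAt Q.asIdeal (π Q) f e then h.choose else 0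

open Classical in
/-- The order of the unit part at a point. -/
noncomputable def rho (Q : PrimeSpectrum B) (f : B) : ℤ :=
  if h : ∃ s c : B, s ∉ Q.asIdeal ∧ c ∉ Q.asIdeal ∧ s * f = c * π Q ^ expo π Q f then
    delta A Q h.choose_spec.choose - delta A Q h.choose else 0

open Classical in
/-- The contribution of a pair at a curve. -/
noncomputable def psi (Q : PrimeSpectrum B) (f g : B) : ℤ :=
  if Q ∈ T then lloc Q (π Q) * ((expo π Q g : ℤ) * rho A π Q f - (expo π Q f : ℤ) * rho A π Q g)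
  else lloc Q g * delta A Q f - lloc Q f * delta A Q g

variable {A T π}

/-- The conditions on the parameters. -/
structure Params (T : Finset (PrimeSpectrum B)) (π : PrimeSpectrum B → B) : Prop where
  curve : ∀ Q ∈ T, IsCurvePt Q
  mem : ∀ Q ∈ T, π Q ∈ Q.asIdeal
  reg : ∀ Q ∈ T, algebraMap B (Localization.AtPrime Q.asIdeal) (π Q) ∈ nonZeroDivisors (Localization.AtPrime Q.asIdeal)

variable (T π) in
/-- Regular elements representable at every point of `T`. -/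
def Good (f : B) : Prop :=
  f ∈ nonZeroDivisors B ∧ ∀ Q ∈ T, ∃ e, PowAt Q.asIdeal (π Q) f e

omit [IsNoetherianRing B] in
theorem expo_eq (hP : Params T π) {Q : PrimeSpectrum B} (hQ : Q ∈ T) {f : B} {e : ℕ}
    (h : PowAt Q.asIdeal (π Q) f e) : expo π Q f = e := by
  have hex : ∃ e, PowAt Q.asIdeal (π Q) f e := ⟨e, h⟩
  rw [expo, dif_pos hex]
  exact powAt_unique (hP.mem Q hQ) (hP.reg Q hQ) hex.choose_spec h

theorem rho_eq (hP : Params T π) {Q : PrimeSpectrum B} (hQ : Q ∈ T) {f : B} {e : ℕ} {s c : B}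
    (hs : s ∉ Q.asIdeal) (hc : c ∉ Q.asIdeal) (h : s * f = c * π Q ^ e) :
    expo π Q f = e ∧ rho A π Q f = delta A Q c - delta A Q s := by
  have he := expo_eq hP hQ ⟨s, c, hs, hc, h⟩
  refine ⟨he, ?_⟩
  have hex : ∃ s c : B, s ∉ Q.asIdeal ∧ c ∉ Q.asIdeal ∧ s * f = c * π Q ^ expo π Q f := ⟨s, c, hs, hc, he ▸ h⟩
  rw [rho, dif_pos hex]
  obtain ⟨hs', hc', h''⟩ := hex.choose_spec.choose_spec
  have h' : hex.choose * f = hex.choose_spec.choose * π Q ^ e := h''.trans (congrArg (fun k : ℕ => hex.choose_spec.choose * π Q ^ k) he)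
  clear h''
  set s' := hex.choose
  set c' := hex.choose_spec.choose
  have heq : algebraMap B (Localization.AtPrime Q.asIdeal) (c' * s) = algebraMap B (Localization.AtPrime Q.asIdeal) (c * s') := by
    refine (mul_cancel_right_mem_nonZeroDivisors (pow_mem (hP.reg Q hQ) e)).1 ?_
    rw [← map_pow, ← map_mul, ← map_mul]
    refine congrArg _ ?_
    linear_combination s' * h - s * h'
  obtain ⟨⟨w, hw⟩, hwe⟩ := (IsLocalization.eq_iff_exists Q.asIdeal.primeCompl _).1 heq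
  have hm : ∀ {u v : B}, u ∉ Q.asIdeal → v ∉ Q.asIdeal → u * v ∉ Q.asIdeal := fun hu hv => (Q.asIdeal.primeCompl.mul_mem hu hv)
  have := congrArg (delta A Q) hwe
  rw [delta_mul (hP.curve Q hQ) hw (hm hc' hs), delta_mul (hP.curve Q hQ) hw (hm hc hs'),
    delta_mul (hP.curve Q hQ) hc' hs, delta_mul (hP.curve Q hQ) hc hs'] at this
  linarith

theorem rho_of_notMem (hP : Params T π) {Q : PrimeSpectrum B} (hQ : Q ∈ T) {f : B} (hf : f ∉ Q.asIdeal) :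
    expo π Q f = 0 ∧ rho A π Q f = delta A Q f := by
  obtain ⟨h1, h2⟩ := rho_eq (A := A) hP hQ (e := 0) (s := 1) (c := f) (fun h => Q.isPrime.ne_top ((Ideal.eq_top_iff_one _).2 h)) hf (by rw [one_mul, pow_zero, mul_one])
  exact ⟨h1, by rw [h2, delta_one, sub_zero]⟩

omit [IsNoetherianRing B] in
theorem Good.one : Good T π (1 : B) := ⟨one_mem _, fun _ _ => ⟨0, PowAt.of_isUnit _ isUnit_one⟩⟩

omit [IsNoetherianRing B] in
theorem Good.mul {f f' : B} (hf : Good T π f) (hf' : Good T π f') : Good T π (f * f') :=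
  ⟨mul_mem hf.1 hf'.1, fun Q hQ => by
    obtain ⟨e, he⟩ := hf.2 Q hQ
    obtain ⟨e', he'⟩ := hf'.2 Q hQ
    exact ⟨e + e', he.mul he'⟩⟩

theorem rho_mul (hP : Params T π) {Q : PrimeSpectrum B} (hQ : Q ∈ T) {f f' : B} (hf : Good T π f) (hf' : Good T π f') :
    expo π Q (f * f') = expo π Q f + expo π Q f' ∧ rho A π Q (f * f') = rho A π Q f + rho A π Q f' := by
  obtain ⟨e, s, c, hs, hc, h⟩ := hf.2 Q hQ
  obtain ⟨e', s', c', hs', hc', h'⟩ := hf'.2 Q hQ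
  obtain ⟨h1, h2⟩ := rho_eq (A := A) hP hQ hs hc h
  obtain ⟨h1', h2'⟩ := rho_eq (A := A) hP hQ hs' hc' h'
  obtain ⟨h3, h4⟩ := rho_eq (A := A) hP hQ (f := f * f') (e := e + e') (s := s * s') (c := c * c')
    (Q.asIdeal.primeCompl.mul_mem hs hs') (Q.asIdeal.primeCompl.mul_mem hc hc')
    (by rw [pow_add]; linear_combination (s' * f') * h + (c * π Q ^ e) * h')
  refine ⟨by rw [h3, h1, h1'], ?_⟩
  rw [h4, h2, h2', delta_mul (hP.curve Q hQ) hc hc', delta_mul (hP.curve Q hQ) hs hs']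
  ring

theorem psi_swap (Q : PrimeSpectrum B) (f g : B) : psi A T π Q f g = - psi A T π Q g f := by
  unfold psi
  split_ifs <;> ring

theorem psi_mul_left (hP : Params T π) {Q : PrimeSpectrum B} (hQ : IsCurvePt Q) {f f' g : B} (hf : Good T π f)
    (hf' : Good T π f') (hg : Q ∉ T → g ∉ Q.asIdeal ∨ (f ∉ Q.asIdeal ∧ f' ∉ Q.asIdeal)) :
    psi A T π Q (f * f') g = psi A T π Q f g + psi A T π Q f' g := by
  unfold psi
  split_ifs with h
  · obtain ⟨h1, h2⟩ := rho_mul (A := A) hP h hf hf'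
    rw [h1, h2]; push_cast; ring
  · rcases hg h with hu | ⟨hu, hu'⟩
    · rw [lloc_of_notMem hu, lloc_mul hQ hf.1 hf'.1]; ring
    · rw [lloc_of_notMem hu, lloc_of_notMem hu', lloc_of_notMem (fun hm => (Q.isPrime.mem_or_mem hm).elim hu hu'),
        delta_mul hQ hu hu']
      ring

theorem psi_mul_right (hP : Params T π) {Q : PrimeSpectrum B} (hQ : IsCurvePt Q) {f g g' : B} (hg : Good T π g)
    (hg' : Good T π g') (hgu : Q ∉ T → f ∉ Q.asIdeal ∨ (g ∉ Q.asIdeal ∧ g' ∉ Q.asIdeal)) :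
    psi A T π Q f (g * g') = psi A T π Q f g + psi A T π Q f g' := by
  rw [psi_swap (A := A), psi_mul_left hP hQ hg hg' hgu, psi_swap (A := A) (f := g), psi_swap (A := A) (f := g')]
  ring

theorem psi_one_left (hP : Params T π) (Q : PrimeSpectrum B) (g : B) (hg : Q ∉ T → g ∉ Q.asIdeal) :
    psi A T π Q 1 g = 0 := by
  have h1 : (1 : B) ∉ Q.asIdeal := fun h => Q.isPrime.ne_top ((Ideal.eq_top_iff_one _).2 h)
  unfold psi
  split_ifs with h
  · obtain ⟨he, hr⟩ := rho_of_notMem (A := A) hP h h1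
    rw [he, hr, delta_one]; simp
  · rw [lloc_one, delta_one]; simp

/-- A pair with simple common zeros. -/
theorem psi_good (hP : Params T π) (T' : Finset (PrimeSpectrum B)) (hT' : ∀ Q ∈ T', IsCurvePt Q) {f g : B}
    (hf : f ∈ nonZeroDivisors B) (hg : g ∈ nonZeroDivisors B)
    (hcov : ∀ P : PrimeSpectrum B, ¬ P.asIdeal.IsMaximal → f * g ∈ P.asIdeal → P ∈ T')
    (hgood : ∀ Q ∈ T', f ∈ Q.asIdeal → g ∈ Q.asIdeal →
      Q ∈ T ∧ PowAt Q.asIdeal (π Q) f 1 ∧ PowAt Q.asIdeal (π Q) g 1)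
    (hpow : ∀ Q ∈ T', Q ∈ T → (∃ e, PowAt Q.asIdeal (π Q) f e) ∧ ∃ e, PowAt Q.asIdeal (π Q) g e) :
    ∑ Q ∈ T', psi A T π Q f g = 0 := by
  classical
  set C := T'.filter (fun Q => f ∈ Q.asIdeal ∧ g ∈ Q.asIdeal) with hC
  have hCmem : ∀ Q, Q ∈ C ↔ Q ∈ T' ∧ f ∈ Q.asIdeal ∧ g ∈ Q.asIdeal := fun Q => Finset.mem_filter
  have hCc : ∀ Q ∈ C, IsCurvePt Q := fun Q hQ => hT' Q ((hCmem Q).1 hQ).1
  have hloc : ∀ Q ∈ C, ∃ x y : B, x ∉ Q.asIdeal ∧ y ∉ Q.asIdeal ∧ f * y = g * x ∧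
      psi A T π Q f g = lloc Q f * (delta A Q x - delta A Q y) := by
    intro Q hQ
    obtain ⟨hQT', hfQ, hgQ⟩ := (hCmem Q).1 hQ
    obtain ⟨hQT, ⟨s1, c1, hs1, hc1, h1⟩, ⟨s2, c2, hs2, hc2, h2⟩⟩ := hgood Q hQT' hfQ hgQ
    obtain ⟨e1, r1⟩ := rho_eq (A := A) hP hQT hs1 hc1 h1
    obtain ⟨e2, r2⟩ := rho_eq (A := A) hP hQT hs2 hc2 h2
    refine ⟨s2 * c1, s1 * c2, Q.asIdeal.primeCompl.mul_mem hs2 hc1, Q.asIdeal.primeCompl.mul_mem hs1 hc2, ?_, ?_⟩
    · rw [pow_one] at h1 h2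
      linear_combination c2 * h1 - c1 * h2
    · have hm : lloc Q f = lloc Q (π Q) := by
        obtain ⟨v, hv⟩ := PowAt.image (show PowAt Q.asIdeal (π Q) f 1 from ⟨s1, c1, hs1, hc1, h1⟩)
        simp only [lloc]
        rw [show locLen Q (B ⧸ Ideal.span {f}) = _ from locLen_eq_ord' Q.asIdeal f,
          show locLen Q (B ⧸ Ideal.span {π Q}) = _ from locLen_eq_ord' Q.asIdeal (π Q), hv, pow_one,
          Ring.ord_mul_of_isUnit_left v.isUnit]
      rw [psi, if_pos hQT, e1, e2, r1, r2, delta_mul (hCc Q hQ) hs2 hc1, delta_mul (hCc Q hQ) hs1 hc2, hm]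
      push_cast; ring
  choose! x' y' hx' hy' hxy' hpsi using hloc
  obtain ⟨gs, hgs⟩ := exists_separators hCc
  have hsum : ∀ w : PrimeSpectrum B → B, (∀ Q ∈ C, w Q ∉ Q.asIdeal) → ∀ Q ∈ C, ∑ R ∈ C, gs R * w R ∉ Q.asIdeal := by
    intro w hw Q hQ h
    rw [← Finset.add_sum_erase C (fun R => gs R * w R) hQ] at h
    have hrest : ∑ R ∈ C.erase Q, gs R * w R ∈ Q.asIdeal := Ideal.sum_mem _ fun R hR =>
      Ideal.mul_mem_right _ _ ((hgs R (Finset.mem_of_mem_erase hR)).2 Q hQ (Finset.ne_of_mem_erase hR).symm)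
    exact (Q.asIdeal.primeCompl.mul_mem (hgs Q hQ).1 (hw Q hQ)) ((Ideal.add_mem_iff_left _ hrest).1 h)
  set x := ∑ R ∈ C, gs R * x' R
  set y := ∑ R ∈ C, gs R * y' R
  have hxy : f * y = g * x := by
    simp only [x, y, Finset.mul_sum]
    exact Finset.sum_congr rfl fun R hR => by linear_combination gs R * hxy' R hR
  have hkey := key_pair (A := A) hf hg T' C hT' hcov hCmem (hsum x' hx') (hsum y' hy') hxy
  rw [← hkey, ← Finset.sum_sdiff (show C ⊆ T' from Finset.filter_subset _ _)]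
  congr 1
  · refine Finset.sum_congr rfl fun Q hQ => ?_
    obtain ⟨hQT', hQC⟩ := Finset.mem_sdiff.1 hQ
    rw [psi]
    split_ifs with hQT
    · have hor : f ∉ Q.asIdeal ∨ g ∉ Q.asIdeal := by
        by_contra! h; exact hQC ((hCmem Q).2 ⟨hQT', h⟩)
      obtain ⟨⟨ef, hef⟩, ⟨eg, heg⟩⟩ := hpow Q hQT' hQT
      have hlen : ∀ {d : B} {e : ℕ}, PowAt Q.asIdeal (π Q) d e → lloc Q d = (e : ℤ) * lloc Q (π Q) := fun {d e} hd => by
        haveI := (hP.curve Q hQT).2.1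
        obtain ⟨v, hv⟩ := hd.image
        simp only [lloc]
        rw [show locLen Q (B ⧸ Ideal.span {d}) = _ from locLen_eq_ord' Q.asIdeal d,
          show locLen Q (B ⧸ Ideal.span {π Q}) = _ from locLen_eq_ord' Q.asIdeal (π Q), hv,
          Ring.ord_mul_of_isUnit_left v.isUnit, Ring.ord_pow (hP.reg Q hQT), nsmul_eq_mul, ENat.toNat_mul, ENat.toNat_coe]
        push_cast; ring
      rw [expo_eq hP hQT hef, expo_eq hP hQT heg]
      rcases hor with hfn | hgn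
      · obtain ⟨he, hr⟩ := rho_of_notMem (A := A) hP hQT hfn
        rw [hr, ← expo_eq hP hQT hef, he, hlen heg, lloc_of_notMem hfn]
        push_cast; ring
      · obtain ⟨he, hr⟩ := rho_of_notMem (A := A) hP hQT hgn
        rw [hr, ← expo_eq hP hQT heg, he, hlen hef, lloc_of_notMem hgn]
        push_cast; ring
    · rfl
  · refine Finset.sum_congr rfl fun Q hQ => ?_
    rw [hpsi Q hQ]
    congr 1
    refine delta_sub_congr (hCc Q hQ) hg (hx' Q hQ) (hy' Q hQ) (hsum x' hx' Q hQ) (hsum y' hy' Q hQ) ?_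
    linear_combination y' Q * hxy - y * hxy' Q hQ

end psi

section construct

/-- An element which is a parameter at one point and a unit at the others. -/
theorem exists_local_gen (S : Finset (PrimeSpectrum B)) (hS : ∀ Q ∈ S, IsCurvePt Q) {W : B} (hW : W ∈ nonZeroDivisors B)
    (hWS : ∀ Q ∈ S, W ∈ Q.asIdeal) {Q : PrimeSpectrum B} (hQ : Q ∈ S) {π : B}
    (hπ : π ∈ Q.asIdeal) (hreg : algebraMap B (Localization.AtPrime Q.asIdeal) π ∈ nonZeroDivisors (Localization.AtPrime Q.asIdeal))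
    (hWπ : ∃ s, s ∉ Q.asIdeal ∧ π ∣ s * W) :
    ∃ t : B, t ∈ nonZeroDivisors B ∧ PowAt Q.asIdeal π t 1 ∧ ∀ Q' ∈ S, Q' ≠ Q → t ∉ Q'.asIdeal := by
  classical
  obtain ⟨g, hg⟩ := exists_separators hS
  set r := ∑ R ∈ S.erase Q, g R
  have hrQ : r ∈ Q.asIdeal := Ideal.sum_mem _ fun R hR =>
    (hg R (Finset.mem_of_mem_erase hR)).2 Q hQ (Finset.ne_of_mem_erase hR).symm
  have hr' : ∀ Q' ∈ S, Q' ≠ Q → r ∉ Q'.asIdeal := fun Q' hQ' hne h => by
    rw [show r = _ from (Finset.add_sum_erase (S.erase Q) g (Finset.mem_erase.2 ⟨hne, hQ'⟩)).symm] at h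
    have hrest : ∑ R ∈ (S.erase Q).erase Q', g R ∈ Q'.asIdeal := Ideal.sum_mem _ fun R hR =>
      (hg R (Finset.mem_of_mem_erase (Finset.mem_of_mem_erase hR))).2 Q' hQ' (Finset.ne_of_mem_erase hR).symm
    exact (hg Q' hQ').1 ((Ideal.add_mem_iff_left _ hrest).1 h)
  haveI := (hS Q hQ).2.1
  haveI : IsNoetherianRing (Localization.AtPrime Q.asIdeal) :=
    IsLocalization.isNoetherianRing Q.asIdeal.primeCompl _ inferInstance
  obtain ⟨n, hn⟩ := exists_pow_le_span (pow_mem hreg 2)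
  have hmem := hn (Ideal.pow_mem_pow ((IsLocalization.AtPrime.to_map_mem_maximal_iff _ Q.asIdeal r).2 hrQ) n)
  obtain ⟨k, hk⟩ := Ideal.mem_span_singleton'.1 hmem
  obtain ⟨⟨c, s⟩, hcs⟩ := IsLocalization.surj Q.asIdeal.primeCompl k
  have heq : algebraMap B (Localization.AtPrime Q.asIdeal) ((s : B) * r ^ n) = algebraMap B _ (c * π ^ 2) := by
    rw [map_mul, map_pow, ← hk, map_mul, map_pow, ← hcs]; ring
  obtain ⟨⟨u, hu⟩, hue⟩ := (IsLocalization.eq_iff_exists Q.asIdeal.primeCompl _).1 heq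
  set t₀ := π * g Q + r ^ n
  have ht0 : ∀ Q' ∈ S, Q' ≠ Q → t₀ ∉ Q'.asIdeal := fun Q' hQ' hne h => by
    have h1 : π * g Q ∈ Q'.asIdeal := Q'.asIdeal.mul_mem_left _ ((hg Q hQ).2 Q' hQ' hne)
    exact hr' Q' hQ' hne (Q'.isPrime.mem_of_pow_mem n ((Ideal.add_mem_iff_right _ h1).1 h))
  have hJ : ∀ P ∈ associatedPrimes B B, ¬ (t₀ ∈ P ∧ Ideal.span {W * W} ≤ P) := fun P hP ⟨_, hle⟩ => by
    have hmem : W * W ∈ ⋃ P ∈ associatedPrimes B B, (P : Set B) := Set.mem_iUnion₂.2 ⟨P, hP, hle (Ideal.mem_span_singleton_self _)⟩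
    rw [biUnion_associatedPrimes_eq_compl_nonZeroDivisors] at hmem
    exact hmem (mul_mem hW hW)
  obtain ⟨w, hw, hnz⟩ := LengthDet.exists_add_mem_nonZeroDivisors t₀ _ hJ
  obtain ⟨l, rfl⟩ := Ideal.mem_span_singleton.1 hw
  refine ⟨_, hnz, ?_, fun Q' hQ' hne h => ht0 Q' hQ' hne ((Ideal.add_mem_iff_left _
    (Q'.asIdeal.mul_mem_right _ (Q'.asIdeal.mul_mem_left _ (hWS Q' hQ')))).1 h)⟩
  obtain ⟨sW, hsW, d, hd⟩ := hWπ
  refine ⟨u * (s : B) * sW * sW, u * (s : B) * sW * sW * g Q + (sW * sW * u * c + u * (s : B) * d * d * l) * π, ?_, ?_, ?_⟩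
  · exact Q.asIdeal.primeCompl.mul_mem (Q.asIdeal.primeCompl.mul_mem (Q.asIdeal.primeCompl.mul_mem hu s.2) hsW) hsW
  · intro h
    exact (Q.asIdeal.primeCompl.mul_mem (Q.asIdeal.primeCompl.mul_mem (Q.asIdeal.primeCompl.mul_mem
      (Q.asIdeal.primeCompl.mul_mem hu s.2) hsW) hsW) (hg Q hQ).1)
      ((Ideal.add_mem_iff_left _ (Q.asIdeal.mul_mem_left _ hπ)).1 h)
  · simp only [t₀]
    linear_combination (sW * sW) * hue + (u * (s : B) * l * (sW * W + π * d)) * hd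

/-- A ratio with regular terms which are units at all the given points. -/
theorem exists_ratio (S : Finset (PrimeSpectrum B)) (hS : ∀ Q ∈ S, IsCurvePt Q) {f g W : B}
    (hf : f ∈ nonZeroDivisors B) (hg : g ∈ nonZeroDivisors B) (hW : W ∈ nonZeroDivisors B)
    (hWS : ∀ Q ∈ S, W ∈ Q.asIdeal) (h : ∀ Q ∈ S, ∃ u v, u ∉ Q.asIdeal ∧ v ∉ Q.asIdeal ∧ f * u = g * v) :
    ∃ y x, y ∈ nonZeroDivisors B ∧ x ∈ nonZeroDivisors B ∧ f * y = g * x ∧ ∀ Q ∈ S, y ∉ Q.asIdeal ∧ x ∉ Q.asIdeal := by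
  classical
  obtain ⟨gs, hgs⟩ := exists_separators hS
  choose! u v hu hv huv using h
  have hsum : ∀ w : PrimeSpectrum B → B, (∀ Q ∈ S, w Q ∉ Q.asIdeal) → ∀ Q ∈ S, ∑ R ∈ S, gs R * w R ∉ Q.asIdeal := by
    intro w hw Q hQ h
    rw [← Finset.add_sum_erase S (fun R => gs R * w R) hQ] at h
    have hrest : ∑ R ∈ S.erase Q, gs R * w R ∈ Q.asIdeal := Ideal.sum_mem _ fun R hR =>
      Ideal.mul_mem_right _ _ ((hgs R (Finset.mem_of_mem_erase hR)).2 Q hQ (Finset.ne_of_mem_erase hR).symm)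
    exact (Q.asIdeal.primeCompl.mul_mem (hgs Q hQ).1 (hw Q hQ)) ((Ideal.add_mem_iff_left _ hrest).1 h)
  set y₀ := ∑ R ∈ S, gs R * u R
  set x₀ := ∑ R ∈ S, gs R * v R
  have h₀ : f * y₀ = g * x₀ := by
    simp only [x₀, y₀, Finset.mul_sum]
    exact Finset.sum_congr rfl fun R hR => by linear_combination gs R * huv R hR
  have hJ : ∀ P ∈ associatedPrimes B B, ¬ (y₀ ∈ P ∧ Ideal.span {g * W} ≤ P) := fun P hP ⟨_, hle⟩ => by
    have hmem : g * W ∈ ⋃ P ∈ associatedPrimes B B, (P : Set B) := Set.mem_iUnion₂.2 ⟨P, hP, hle (Ideal.mem_span_singleton_self _)⟩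
    rw [biUnion_associatedPrimes_eq_compl_nonZeroDivisors] at hmem
    exact hmem (mul_mem hg hW)
  obtain ⟨w, hw, hnz⟩ := LengthDet.exists_add_mem_nonZeroDivisors y₀ _ hJ
  obtain ⟨l, rfl⟩ := Ideal.mem_span_singleton.1 hw
  have heq : f * (y₀ + g * W * l) = g * (x₀ + f * W * l) := by linear_combination h₀
  refine ⟨_, x₀ + f * W * l, hnz, ?_, heq, fun Q hQ => ⟨fun hm => hsum u hu Q hQ ((Ideal.add_mem_iff_left _
    (Q.asIdeal.mul_mem_right _ (Q.asIdeal.mul_mem_left _ (hWS Q hQ)))).1 hm), fun hm => hsum v hv Q hQ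
      ((Ideal.add_mem_iff_left _ (Q.asIdeal.mul_mem_right _ (Q.asIdeal.mul_mem_left _ (hWS Q hQ)))).1 hm)⟩⟩
  exact (mul_mem_nonZeroDivisors.1 (heq ▸ mul_mem hf hnz)).2

end construct

/-- The vanishing. -/
theorem sum_psi_eq_zero (hB : CurveRing B) {T : Finset (PrimeSpectrum B)} {π : PrimeSpectrum B → B} (hP : Params T π)
    {a b : B} (ha : Good T π a) (hb : Good T π b)
    (hT : ∀ P, P ∈ T ↔ ¬ P.asIdeal.IsMaximal ∧ a * b ∈ P.asIdeal) :
    ∑ Q ∈ T, psi A T π Q a b = 0 := by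
  classical
  have hone : ∀ Q : PrimeSpectrum B, (1 : B) ∉ Q.asIdeal := fun Q h => Q.isPrime.ne_top ((Ideal.eq_top_iff_one _).2 h)
  have hπW : ∀ {d : B}, a * b ∣ d → ∀ R ∈ T, ∃ s, s ∉ R.asIdeal ∧ π R ∣ s * d := by
    intro d hd R hR
    obtain ⟨e, he⟩ := (ha.mul hb).2 R hR
    obtain ⟨hne, -⟩ := he.ne_zero_exp ((hT R).1 hR).2
    obtain ⟨s, c, hs, -, h⟩ := he
    exact ⟨s, hs, (h ▸ (dvd_pow_self _ hne).mul_left c : π R ∣ s * (a * b)).trans (mul_dvd_mul_left s hd)⟩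
  choose! t htnz ht1 ht0 using fun R (hR : R ∈ T) => exists_local_gen T hP.curve (mul_mem ha.1 hb.1)
    (fun Q hQ => ((hT Q).1 hQ).2) hR (hP.mem R hR) (hP.reg R hR) (hπW dvd_rfl R hR)
  have hrep : ∀ (w : PrimeSpectrum B → B), (∀ R ∈ T, PowAt R.asIdeal (π R) (w R) 1) →
      (∀ R ∈ T, ∀ Q ∈ T, Q ≠ R → w R ∉ Q.asIdeal) → (e : PrimeSpectrum B → ℕ) →
      ∀ Q ∈ T, PowAt Q.asIdeal (π Q) (∏ R ∈ T, w R ^ e R) (e Q) := by
    intro w h1 h0 e Q hQ
    rw [← Finset.mul_prod_erase T (fun R => w R ^ e R) hQ]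
    have hp : PowAt Q.asIdeal (π Q) (w Q ^ e Q) (e Q) := by
      induction e Q with
      | zero => simpa using PowAt.of_isUnit (π Q) isUnit_one
      | succ n ih => rw [pow_succ]; exact ih.mul (h1 Q hQ)
    have hr : ∏ R ∈ T.erase Q, w R ^ e R ∉ Q.asIdeal := fun hm => by
      obtain ⟨R, hR, hRm⟩ := Ideal.IsPrime.prod_mem_iff.1 hm
      exact h0 R (Finset.mem_of_mem_erase hR) Q hQ (Finset.ne_of_mem_erase hR).symm (Q.isPrime.mem_of_pow_mem _ hRm)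
    simpa using hp.mul (⟨1, _, hone Q, hr, by simp⟩ : PowAt Q.asIdeal (π Q) (∏ R ∈ T.erase Q, w R ^ e R) 0)
  choose! eA heA using ha.2
  choose! eB heB using hb.2
  set tt := ∏ R ∈ T, t R ^ eA R
  have httnz : tt ∈ nonZeroDivisors B := prod_mem fun R hR => pow_mem (htnz R hR) _
  obtain ⟨y, x, hy, hx, haxy, hxyT⟩ := exists_ratio T hP.curve ha.1 httnz (mul_mem ha.1 hb.1)
    (fun Q hQ => ((hT Q).1 hQ).2) (fun Q hQ => by
      obtain ⟨sa, ca, hsa, hca, h⟩ := heA Q hQ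
      obtain ⟨st, ct, hst, hct, h'⟩ := hrep t ht1 (fun R hR Q hQ hne => ht0 R hR Q hQ hne) eA Q hQ
      exact ⟨sa * ct, ca * st, Q.asIdeal.primeCompl.mul_mem hsa hct, Q.asIdeal.primeCompl.mul_mem hca hst, by
        linear_combination ct * h - ca * h'⟩)
  set W := a * b * (∏ R ∈ T, t R) * x * y
  have hWnz : W ∈ nonZeroDivisors B := mul_mem (mul_mem (mul_mem (mul_mem ha.1 hb.1) (prod_mem fun R hR => htnz R hR)) hx) hy
  have hWab : a * b ∣ W := ⟨(∏ R ∈ T, t R) * x * y, by simp only [W]; ring⟩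
  obtain ⟨T', hT'⟩ := exists_curves hB hWnz
  have hT'c : ∀ Q ∈ T', IsCurvePt Q := fun Q hQ => hB W hWnz Q ((hT' Q).1 hQ).1 ((hT' Q).1 hQ).2
  have hTT' : T ⊆ T' := fun Q hQ => (hT' Q).2 ⟨((hT Q).1 hQ).1, Q.asIdeal.mem_of_dvd hWab ((hT Q).1 hQ).2⟩
  have habE : ∀ Q ∈ T', Q ∉ T → a ∉ Q.asIdeal ∧ b ∉ Q.asIdeal := fun Q hQ hQT =>
    ⟨fun h => hQT ((hT Q).2 ⟨((hT' Q).1 hQ).1, Q.asIdeal.mul_mem_right b h⟩),
      fun h => hQT ((hT Q).2 ⟨((hT' Q).1 hQ).1, Q.asIdeal.mul_mem_left a h⟩)⟩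
  choose! s hsnz hs1 hs0 using fun R (hR : R ∈ T) => exists_local_gen T' hT'c hWnz
    (fun Q hQ => ((hT' Q).1 hQ).2) (hTT' hR) (hP.mem R hR) (hP.reg R hR) (hπW hWab R hR)
  set ss := ∏ R ∈ T, s R ^ eB R
  have hssnz : ss ∈ nonZeroDivisors B := prod_mem fun R hR => pow_mem (hsnz R hR) _
  obtain ⟨y', x', hy', hx', hbxy, hxyT'⟩ := exists_ratio T' hT'c hb.1 hssnz hWnz (fun Q hQ => ((hT' Q).1 hQ).2)
    (fun Q hQ => by
      by_cases hQT : Q ∈ T
      · obtain ⟨sb, cb, hsb, hcb, h⟩ := heB Q hQT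
        obtain ⟨st, ct, hst, hct, h'⟩ := hrep s hs1 (fun R hR Q hQ hne => hs0 R hR Q (hTT' hQ) hne) eB Q hQT
        exact ⟨sb * ct, cb * st, Q.asIdeal.primeCompl.mul_mem hsb hct, Q.asIdeal.primeCompl.mul_mem hcb hst, by
          linear_combination ct * h - cb * h'⟩
      · have hss : ss ∉ Q.asIdeal := fun hm => by
          obtain ⟨R, hR, hRm⟩ := Ideal.IsPrime.prod_mem_iff.1 hm
          exact hs0 R hR Q hQ (fun h => hQT (h ▸ hR)) (Q.isPrime.mem_of_pow_mem _ hRm)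
        exact ⟨ss, b, hss, (habE Q hQ hQT).2, mul_comm b ss⟩)
  have gunit : ∀ {w : B}, w ∈ nonZeroDivisors B → (∀ Q ∈ T, w ∉ Q.asIdeal) → Good T π w := fun hw h =>
    ⟨hw, fun Q hQ => ⟨0, 1, _, hone Q, h Q hQ, by simp⟩⟩
  have gloc : ∀ (w : PrimeSpectrum B → B), (∀ R ∈ T, w R ∈ nonZeroDivisors B) → (∀ R ∈ T, PowAt R.asIdeal (π R) (w R) 1) →
      (∀ R ∈ T, ∀ Q ∈ T, Q ≠ R → w R ∉ Q.asIdeal) → ∀ R ∈ T, Good T π (w R) := fun w hw h1 h0 R hR =>
    ⟨hw R hR, fun Q hQ => by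
      rcases eq_or_ne Q R with rfl | hne
      · exact ⟨1, h1 Q hR⟩
      · exact ⟨0, 1, _, hone Q, h0 R hR Q hQ hne, by simp⟩⟩
  have gt : ∀ R ∈ T, Good T π (t R) := gloc t htnz ht1 fun R hR Q hQ hne => ht0 R hR Q hQ hne
  have gs' : ∀ R ∈ T, Good T π (s R) := gloc s hsnz hs1 fun R hR Q hQ hne => hs0 R hR Q (hTT' hQ) hne
  have gy : Good T π y := gunit hy fun Q hQ => (hxyT Q hQ).1
  have gx : Good T π x := gunit hx fun Q hQ => (hxyT Q hQ).2
  have gy' : Good T π y' := gunit hy' fun Q hQ => (hxyT' Q (hTT' hQ)).1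
  have gx' : Good T π x' := gunit hx' fun Q hQ => (hxyT' Q (hTT' hQ)).2
  -- everything downstairs is enlarged once more
  set W' := W * (∏ R ∈ T, s R) * x' * y'
  have hW'nz : W' ∈ nonZeroDivisors B := mul_mem (mul_mem (mul_mem hWnz (prod_mem fun R hR => hsnz R hR)) hx') hy'
  obtain ⟨T'', hT''⟩ := exists_curves hB hW'nz
  have hT''c : ∀ Q ∈ T'', IsCurvePt Q := fun Q hQ => hB W' hW'nz Q ((hT'' Q).1 hQ).1 ((hT'' Q).1 hQ).2
  have hsub : T' ⊆ T'' := fun Q hQ => (hT'' Q).2 ⟨((hT' Q).1 hQ).1,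
    Q.asIdeal.mem_of_dvd ⟨(∏ R ∈ T, s R) * x' * y', by simp only [W']; ring⟩ ((hT' Q).1 hQ).2⟩
  have hWT' : ∀ {f : B}, f ∣ W → ∀ Q ∈ T'', Q ∉ T' → f ∉ Q.asIdeal := fun hf Q hQ hQT h =>
    hQT ((hT' Q).2 ⟨((hT'' Q).1 hQ).1, Q.asIdeal.mem_of_dvd hf h⟩)
  let Φ : B → B → ℤ := fun f g => ∑ Q ∈ T'', psi A T π Q f g
  -- right-hand elements are units on `T' \ T`, left-hand ones outside `T'`
  let GA : B → Prop := fun f => Good T π f ∧ ∀ Q ∈ T'', Q ∉ T' → f ∉ Q.asIdeal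
  let GB : B → Prop := fun g => Good T π g ∧ ∀ Q ∈ T', Q ∉ T → g ∉ Q.asIdeal
  have hcase : ∀ {f f' g : B}, GA f → GA f' → GB g → ∀ Q ∈ T'', Q ∉ T →
      g ∉ Q.asIdeal ∨ (f ∉ Q.asIdeal ∧ f' ∉ Q.asIdeal) := fun {f f' g} hf hf' hg Q hQ hQT => by
    by_cases hQT' : Q ∈ T'
    · exact Or.inl (hg.2 Q hQT' hQT)
    · exact Or.inr ⟨hf.2 Q hQ hQT', hf'.2 Q hQ hQT'⟩
  have hcase' : ∀ {f g g' : B}, GA f → GB g → GB g' → ∀ Q ∈ T'', Q ∉ T →
      f ∉ Q.asIdeal ∨ (g ∉ Q.asIdeal ∧ g' ∉ Q.asIdeal) := fun {f g g'} hf hg hg' Q hQ hQT => by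
    by_cases hQT' : Q ∈ T'
    · exact Or.inr ⟨hg.2 Q hQT' hQT, hg'.2 Q hQT' hQT⟩
    · exact Or.inl (hf.2 Q hQ hQT')
  have mulL : ∀ {f f' g : B}, GA f → GA f' → GB g → Φ (f * f') g = Φ f g + Φ f' g := fun hf hf' hg => by
    simp only [Φ, ← Finset.sum_add_distrib]
    exact Finset.sum_congr rfl fun Q hQ => psi_mul_left hP (hT''c Q hQ) hf.1 hf'.1 (hcase hf hf' hg Q hQ)
  have mulR : ∀ {f g g' : B}, GA f → GB g → GB g' → Φ f (g * g') = Φ f g + Φ f g' := fun hf hg hg' => by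
    simp only [Φ, ← Finset.sum_add_distrib]
    exact Finset.sum_congr rfl fun Q hQ => psi_mul_right hP (hT''c Q hQ) hg.1 hg'.1 (hcase' hf hg hg' Q hQ)
  have gaone : GA 1 := ⟨Good.one, fun Q _ _ => hone Q⟩
  have gbone : GB 1 := ⟨Good.one, fun Q _ _ => hone Q⟩
  have gamul : ∀ {f f' : B}, GA f → GA f' → GA (f * f') := fun hf hf' =>
    ⟨hf.1.mul hf'.1, fun Q hQ hQT => fun hm => (Q.isPrime.mem_or_mem hm).elim (hf.2 Q hQ hQT) (hf'.2 Q hQ hQT)⟩
  have gbmul : ∀ {f f' : B}, GB f → GB f' → GB (f * f') := fun hf hf' =>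
    ⟨hf.1.mul hf'.1, fun Q hQ hQT => fun hm => (Q.isPrime.mem_or_mem hm).elim (hf.2 Q hQ hQT) (hf'.2 Q hQ hQT)⟩
  have zeroL : ∀ g, GB g → Φ 1 g = 0 := fun g hg => by
    have := mulL gaone gaone hg
    rw [one_mul] at this; linarith
  have zeroR : ∀ f, GA f → Φ f 1 = 0 := fun f hf => by
    have := mulR hf gbone gbone
    rw [one_mul] at this; linarith
  have hprodL : ∀ (w : PrimeSpectrum B → B) (e : PrimeSpectrum B → ℕ) (g : B), GB g → (∀ R ∈ T, GA (w R) ∧ Φ (w R) g = 0) →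
      GA (∏ R ∈ T, w R ^ e R) ∧ Φ (∏ R ∈ T, w R ^ e R) g = 0 := fun w e g hg h =>
    Finset.prod_induction (fun R => w R ^ e R) (fun f => GA f ∧ Φ f g = 0)
      (fun f f' hf hf' => ⟨gamul hf.1 hf'.1, by rw [mulL hf.1 hf'.1 hg, hf.2, hf'.2, add_zero]⟩) ⟨gaone, zeroL g hg⟩
      fun R hR => by
        induction e R with
        | zero => simpa using ⟨gaone, zeroL g hg⟩
        | succ n ih => rw [pow_succ]; exact ⟨gamul ih.1 (h R hR).1, by rw [mulL ih.1 (h R hR).1 hg, ih.2, (h R hR).2, add_zero]⟩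
  have hprodR : ∀ (w : PrimeSpectrum B → B) (e : PrimeSpectrum B → ℕ) (f : B), GA f → (∀ R ∈ T, GB (w R) ∧ Φ f (w R) = 0) →
      GB (∏ R ∈ T, w R ^ e R) ∧ Φ f (∏ R ∈ T, w R ^ e R) = 0 := fun w e f hf h =>
    Finset.prod_induction (fun R => w R ^ e R) (fun g => GB g ∧ Φ f g = 0)
      (fun g g' hg hg' => ⟨gbmul hg.1 hg'.1, by rw [mulR hf hg.1 hg'.1, hg.2, hg'.2, add_zero]⟩) ⟨gbone, zeroR f hf⟩
      fun R hR => by
        induction e R with
        | zero => simpa using ⟨gbone, zeroR f hf⟩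
        | succ n ih => rw [pow_succ]; exact ⟨gbmul ih.1 (h R hR).1, by rw [mulR hf ih.1 (h R hR).1, ih.2, (h R hR).2, add_zero]⟩
  have hdt : ∀ R ∈ T, t R ∣ W := fun R hR =>
    (Finset.dvd_prod_of_mem t hR).trans ⟨a * b * x * y, by simp only [W]; ring⟩
  have hdx : x ∣ W := ⟨a * b * (∏ R ∈ T, t R) * y, by simp only [W]; ring⟩
  have hdy : y ∣ W := ⟨a * b * (∏ R ∈ T, t R) * x, by simp only [W]; ring⟩
  have Ga : GA a := ⟨ha, hWT' ((dvd_mul_right a b).trans hWab)⟩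
  have Gt : ∀ R ∈ T, GA (t R) := fun R hR => ⟨gt R hR, hWT' (hdt R hR)⟩
  have Gx : GA x := ⟨gx, hWT' hdx⟩
  have Gy : GA y := ⟨gy, hWT' hdy⟩
  have Gs : ∀ R ∈ T, GB (s R) := fun R hR => ⟨gs' R hR, fun Q hQ hQT => hs0 R hR Q hQ (fun h => hQT (h ▸ hR))⟩
  have Gb : GB b := ⟨hb, fun Q hQ hQT => (habE Q hQ hQT).2⟩
  have Gx' : GB x' := ⟨gx', fun Q hQ _ => (hxyT' Q hQ).2⟩
  have Gy' : GB y' := ⟨gy', fun Q hQ _ => (hxyT' Q hQ).1⟩
  have hgood : ∀ {f g : B}, f ∣ W → g ∣ W' → GA f → GB g →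
      (∀ Q ∈ T, f ∈ Q.asIdeal → g ∈ Q.asIdeal → PowAt Q.asIdeal (π Q) f 1 ∧ PowAt Q.asIdeal (π Q) g 1) →
      Φ f g = 0 := fun {f g} hfW hgW hf hg h =>
    psi_good hP T'' hT''c hf.1.1 hg.1.1 (fun P hPm hm => (hT'' P).2 ⟨hPm, (P.isPrime.mem_or_mem hm).elim
      (fun h => P.asIdeal.mem_of_dvd (hfW.trans ⟨(∏ R ∈ T, s R) * x' * y', by simp only [W']; ring⟩) h)
      (fun h => P.asIdeal.mem_of_dvd hgW h)⟩)
      (fun Q hQ hfQ hgQ => by
        have hQT' : Q ∈ T' := by_contra fun hn => hf.2 Q hQ hn hfQ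
        have hQT : Q ∈ T := by_contra fun hn => hg.2 Q hQT' hn hgQ
        exact ⟨hQT, h Q hQT hfQ hgQ⟩)
      (fun Q _ hQT => ⟨hf.1.2 Q hQT, hg.1.2 Q hQT⟩)
  have hds : ∀ R ∈ T, s R ∣ W' := fun R hR => (Finset.dvd_prod_of_mem s hR).trans ⟨W * x' * y', by simp only [W']; ring⟩
  have hdx' : x' ∣ W' := ⟨W * (∏ R ∈ T, s R) * y', by simp only [W']; ring⟩
  have hdy' : y' ∣ W' := ⟨W * (∏ R ∈ T, s R) * x', by simp only [W']; ring⟩
  have hts : ∀ R ∈ T, ∀ R' ∈ T, Φ (t R) (s R') = 0 := fun R hR R' hR' =>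
    hgood (hdt R hR) (hds R' hR') (Gt R hR) (Gs R' hR') fun Q hQ hf hg => by
      have h1 : Q = R := by_contra fun hn => ht0 R hR Q hQ hn hf
      have h2 : Q = R' := by_contra fun hn => hs0 R' hR' Q (hTT' hQ) hn hg
      exact ⟨h1 ▸ ht1 R hR, h2 ▸ hs1 R' hR'⟩
  have hxs : ∀ {f : B}, f ∣ W → GA f → (∀ Q ∈ T, f ∉ Q.asIdeal) → ∀ R' ∈ T, Φ f (s R') = 0 := fun {f} hfW hf hfu R' hR' =>
    hgood hfW (hds R' hR') hf (Gs R' hR') fun Q hQ hfQ _ => absurd hfQ (hfu Q hQ)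
  have hanyu : ∀ {f g : B}, f ∣ W → g ∣ W' → GA f → GB g → (∀ Q ∈ T, g ∉ Q.asIdeal) → Φ f g = 0 :=
    fun {f g} hfW hgW hf hg hgu => hgood hfW hgW hf hg fun Q hQ _ hgQ => absurd hgQ (hgu Q hQ)
  have hag : ∀ g, GB g → (∀ R ∈ T, Φ (t R) g = 0) → Φ x g = 0 → Φ y g = 0 → Φ a g = 0 := fun g hg h1 h2 h3 => by
    obtain ⟨htt, htt0⟩ := hprodL t eA g hg fun R hR => ⟨Gt R hR, h1 R hR⟩
    have e := mulL Ga Gy hg
    rw [haxy, mulL htt Gx hg, htt0, h2, h3] at e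
    linarith
  have has : ∀ R' ∈ T, Φ a (s R') = 0 := fun R' hR' => hag _ (Gs R' hR') (fun R hR => hts R hR R' hR')
    (hxs hdx Gx (fun Q hQ => (hxyT Q hQ).2) R' hR') (hxs hdy Gy (fun Q hQ => (hxyT Q hQ).1) R' hR')
  have hax' : Φ a x' = 0 := hanyu ((dvd_mul_right a b).trans hWab) hdx' Ga Gx' fun Q hQ => (hxyT' Q (hTT' hQ)).2
  have hay' : Φ a y' = 0 := hanyu ((dvd_mul_right a b).trans hWab) hdy' Ga Gy' fun Q hQ => (hxyT' Q (hTT' hQ)).1
  obtain ⟨hss, hss0⟩ := hprodR s eB a Ga fun R hR => ⟨Gs R hR, has R hR⟩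
  have hab : Φ a b = 0 := by
    have e := mulR Ga Gb Gy'
    rw [hbxy, mulR Ga hss Gx', hss0, hax', hay'] at e
    linarith
  rw [← hab]
  refine Finset.sum_subset (hTT'.trans hsub) fun Q hQ hQT => ?_
  rw [psi, if_neg hQT, lloc_of_notMem fun h => hQT ((hT Q).2 ⟨((hT'' Q).1 hQ).1, Q.asIdeal.mul_mem_left a h⟩),
    lloc_of_notMem fun h => hQT ((hT Q).2 ⟨((hT'' Q).1 hQ).1, Q.asIdeal.mul_mem_right b h⟩)]
  ring

end GrothLib.Tame
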