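import Groth.Agent.Lib.Tame.Laws
import Groth.Agent.Lib.Herbrand
import Groth.Agent.S6464
import Mathlib.RingTheory.HopkinsLevitzki
import Mathlib.RingTheory.LocalRing.Quotient

/-!
The vanishing of the boundary of a symbol on a finite algebra over a two-dimensional local ring, for a
pair of elements with simple common zeros.
-/

set_option autoImplicit false
universe u

namespace GrothLib.Tame

open IsLocalRing GrothLib.LengthDet CycAlg

variable {A : Type u} [CommRing A] [IsNoetherianRing A] [IsLocalRing A]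
  {B : Type u} [CommRing B] [Algebra A B] [Module.Finite A B] [IsNoetherianRing B]

/-- A module supported at maximal ideals has finite length over the base. -/
theorem lengthA_ne_top (M : Type u) [AddCommGroup M] [Module A M] [Module B M] [IsScalarTower A B M]
    [Module.Finite B M] (h : ∀ P ∈ Module.support B M, P.asIdeal.IsMaximal) : Module.length A M ≠ ⊤ := by
  haveI : Module.Finite A M := Module.Finite.trans B M
  have hle : maximalIdeal A ≤ ((Module.annihilator B M).comap (algebraMap A B)).radical := by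
    intro r hr
    rw [← Ideal.comap_radical, Ideal.mem_comap, Ideal.radical_eq_sInf, Submodule.mem_sInf]
    rintro P ⟨hP, hPp⟩
    have hmem : (⟨P, hPp⟩ : PrimeSpectrum B) ∈ Module.support B M := by
      rw [Module.support_eq_zeroLocus]; exact hP
    haveI := h _ hmem
    exact algebraMap_mem_of_mem P hr
  obtain ⟨n, hn⟩ := ((Module.annihilator B M).comap (algebraMap A B)).exists_radical_pow_le_of_fg (IsNoetherian.noetherian _)
  have hann : ∀ r ∈ maximalIdeal A ^ n, ∀ m : M, r • m = 0 := fun r hr m => by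
    rw [← algebraMap_smul B r m]
    exact Module.mem_annihilator.1 (Ideal.mem_comap.1 (hn (Ideal.pow_right_mono hle n hr))) m
  haveI : Ring.KrullDimLE 0 (A ⧸ maximalIdeal A ^ n) := Ring.KrullDimLE.mk₀ fun P hP => by
    have hP' := Ideal.comap_isPrime (Ideal.Quotient.mk (maximalIdeal A ^ n)) P
    have hm : P.comap (Ideal.Quotient.mk (maximalIdeal A ^ n)) = maximalIdeal A :=
      le_antisymm (le_maximalIdeal hP'.ne_top) fun r hr => hP'.mem_of_pow_mem n (by
        rw [Ideal.mem_comap, Ideal.Quotient.eq_zero_iff_mem.2 (Ideal.pow_mem_pow hr n)]; exact P.zero_mem)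
    rw [← Ideal.map_comap_of_surjective _ Ideal.Quotient.mk_surjective P]
    exact (Ideal.map_eq_top_or_isMaximal_of_surjective _ Ideal.Quotient.mk_surjective
      (hm.symm ▸ maximalIdeal.isMaximal A)).resolve_left
      (by rw [Ideal.map_comap_of_surjective _ Ideal.Quotient.mk_surjective P]; exact hP.ne_top)
  haveI : IsArtinianRing (A ⧸ maximalIdeal A ^ n) :=
    isArtinianRing_iff_krullDimLE_zero.2 inferInstance
  have hM : Module.IsTorsionBySet A M (maximalIdeal A ^ n : Ideal A) := fun m r => hann r r.2 m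
  letI : Module (A ⧸ maximalIdeal A ^ n) M := hM.module
  haveI : IsScalarTower A (A ⧸ maximalIdeal A ^ n) M := hM.isScalarTower
  haveI : Module.Finite (A ⧸ maximalIdeal A ^ n) M := Module.Finite.of_restrictScalars_finite A _ _
  rw [Module.length_eq_of_surjective (S := A) (R := A ⧸ maximalIdeal A ^ n) Ideal.Quotient.mk_surjective]
  exact Module.length_ne_top_iff.2 (isFiniteLength_iff_isNoetherian_isArtinian.2 ⟨inferInstance, inferInstance⟩)

/-- The length over `A` as a natural number. -/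
noncomputable abbrev lenA (A : Type u) [CommRing A] (M : Type u) [AddCommGroup M] [Module A M] : ℕ :=
  (Module.length A M).toNat

variable (A) in
/-- The order of `y` along a curve. -/
noncomputable def delta (Q : PrimeSpectrum B) (y : B) : ℤ :=
  lenA A (B ⧸ (Q.asIdeal ⊔ Ideal.span {y}))

/-- The local length at a point. -/
noncomputable def lloc (Q : PrimeSpectrum B) (y : B) : ℤ :=
  ((locLen Q (B ⧸ Ideal.span {y})).toNat : ℤ)

variable (A) in
/-- Multiplication by `x`, linear over the base. -/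
def mulA (x : B) (M : Type u) [AddCommGroup M] [Module A M] [Module B M] [IsScalarTower A B M] : M →ₗ[A] M :=
  (LinearMap.lsmul B M x).restrictScalars A

theorem length_perH_ker {R M : Type u} [CommRing R] [AddCommGroup M] [Module R M] (f : M →ₗ[R] M) :
    Module.length R (perH f (0 : M →ₗ[R] M)) = Module.length R (LinearMap.ker f) :=
  (Submodule.quotEquivOfEqBot _ (by
    rw [eq_bot_iff]
    intro a ha
    obtain ⟨b, hb⟩ := Submodule.mem_comap.mp ha
    rw [Submodule.mem_bot]
    exact Subtype.ext (by simpa using hb.symm))).length_eq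

theorem length_perH_coker {R M : Type u} [CommRing R] [AddCommGroup M] [Module R M] (f : M →ₗ[R] M) :
    Module.length R (perH (0 : M →ₗ[R] M) f) = Module.length R (M ⧸ LinearMap.range f) := by
  refine (Submodule.Quotient.equiv _ _ ((LinearEquiv.ofEq _ _ LinearMap.ker_zero).trans Submodule.topEquiv) ?_).length_eq
  ext a
  rw [Submodule.mem_map]
  constructor
  · rintro ⟨b, hb, rfl⟩
    obtain ⟨c, hc⟩ := Submodule.mem_comap.mp hb
    exact ⟨c, hc⟩
  · rintro ⟨c, rfl⟩
    exact ⟨⟨f c, by simp⟩, Submodule.mem_comap.mpr ⟨c, rfl⟩, rfl⟩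

variable (A) in
/-- The Euler characteristic of multiplication by `x`. -/
noncomputable def chi (x : B) (M : Type u) [AddCommGroup M] [Module A M] [Module B M] [IsScalarTower A B M] : ℤ :=
  (lenA A (M ⧸ LinearMap.range (mulA A x M)) : ℤ) - lenA A (LinearMap.ker (mulA A x M))

/-- Additivity of the Euler characteristic. -/
theorem euler (x : B) (T : Finset (PrimeSpectrum B))
    (hT : ∀ Q ∈ T, ∀ P : PrimeSpectrum B, Q < P → P.asIdeal.IsMaximal)
    (hTm : ∀ Q ∈ T, ¬ Q.asIdeal.IsMaximal)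
    (M : Type u) [AddCommGroup M] [Module A M] [Module B M] [IsScalarTower A B M] [Module.Finite B M]
    (h : ∀ P ∈ Module.support B M, ¬ P.asIdeal.IsMaximal → P ∈ T ∧ x ∉ P.asIdeal) :
    Module.length A (M ⧸ LinearMap.range (mulA A x M)) < ⊤ ∧ Module.length A (LinearMap.ker (mulA A x M)) < ⊤ ∧
      chi A x M = ∑ Q ∈ T, ((locLen Q M).toNat : ℤ) * delta A Q x ∧ ∀ Q ∈ T, locLen Q M ≠ ⊤ := by
  classical
  revert h
  revert ‹Module A M›
  induction ‹Module.Finite B M› using IsNoetherianRing.induction_on_isQuotientEquivQuotientPrime B with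
  | subsingleton N =>
    intros
    simp only [chi, lenA, Module.length_eq_zero, ENat.toNat_zero, locLen_zero]
    simp
  | quotient N P e =>
    intro _ _ h
    have hs : ∀ r, r ∈ Module.support B N ↔ P ≤ r := fun r => by
      rw [e.support_eq, Module.support_eq_zeroLocus, Ideal.annihilator_quotient]
      rfl
    have hzero : ∀ Q, Q ∉ Module.support B N → locLen Q N = 0 := fun Q hQ => by
      haveI := Module.notMem_support_iff.1 hQ
      exact Module.length_eq_zero
    by_cases hP : P.asIdeal.IsMaximal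
    · have hfin : Module.length A N ≠ ⊤ := lengthA_ne_top N fun r hr => by
        have := PrimeSpectrum.ext (hP.eq_of_le r.isPrime.ne_top ((hs r).1 hr))
        exact this ▸ hP
      have hout : ∀ Q ∈ T, Q ∉ Module.support B N := fun Q hQ hQs =>
        hTm Q hQ (hP.eq_of_le Q.isPrime.ne_top ((hs Q).1 hQs) ▸ hP)
      obtain ⟨h1, h2⟩ := Groth.Agent.S6464.result (R := A) (0 : N →ₗ[A] N) (mulA A x N) ⟨by simp, by simp⟩ hfin.lt_top hfin.lt_top
      rw [FinCoh, length_perH_coker, length_perH_ker] at h1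
      rw [herbrand, length_perH_coker, length_perH_ker, sub_self] at h2
      refine ⟨h1.1, h1.2, ?_, fun Q hQ => by simp [hzero Q (hout Q hQ)]⟩
      rw [chi, Finset.sum_eq_zero fun Q hQ => by simp [hzero Q (hout Q hQ)]]
      exact h2
    · obtain ⟨hPT, hxP⟩ := h P ((hs P).2 le_rfl) hP
      have hinj : ∀ n : N, mulA A x N n = 0 → n = 0 := fun n hn => by
        obtain ⟨c, hc⟩ := Ideal.Quotient.mk_surjective (e n)
        have h1 : x • e n = 0 := by rw [← map_smul]; exact (congrArg e hn).trans (map_zero e)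
        rw [← hc, Algebra.smul_def, Ideal.Quotient.algebraMap_eq, ← map_mul, Ideal.Quotient.eq_zero_iff_mem] at h1
        refine e.injective ?_
        rw [map_zero, ← hc, Ideal.Quotient.eq_zero_iff_mem]
        exact (P.isPrime.mem_or_mem h1).resolve_left hxP
      let g : N →ₗ[A] B ⧸ (P.asIdeal ⊔ Ideal.span {x}) :=
        ((Submodule.factor (le_sup_left : P.asIdeal ≤ P.asIdeal ⊔ Ideal.span {x})).comp e.toLinearMap).restrictScalars A
      have hg : Function.Surjective g := fun z => by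
        obtain ⟨w, hw⟩ := Submodule.factor_surjective (le_sup_left : P.asIdeal ≤ P.asIdeal ⊔ Ideal.span {x}) z
        obtain ⟨n, hn⟩ := e.surjective w
        exact ⟨n, (congrArg (Submodule.factor (le_sup_left : P.asIdeal ≤ P.asIdeal ⊔ Ideal.span {x})) hn).trans hw⟩
      have hgk : LinearMap.ker g = LinearMap.range (mulA A x N) := by
        ext n
        obtain ⟨c, hc⟩ := Ideal.Quotient.mk_surjective (e n)
        constructor
        · intro hn
          have hn' : Submodule.factor (le_sup_left : P.asIdeal ≤ P.asIdeal ⊔ Ideal.span {x}) (e n) = 0 := hn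
          rw [← hc] at hn'
          have hmem : c ∈ P.asIdeal ⊔ Ideal.span {x} := (Submodule.Quotient.mk_eq_zero _).1 hn'
          obtain ⟨p, hp, q, hq, rfl⟩ := Submodule.mem_sup.1 hmem
          obtain ⟨d, rfl⟩ := Ideal.mem_span_singleton.1 hq
          obtain ⟨m, hm⟩ := e.surjective (Ideal.Quotient.mk P.asIdeal d)
          refine ⟨m, e.injective ?_⟩
          show e (x • m) = e n
          rw [map_smul, hm, ← hc, Algebra.smul_def, Ideal.Quotient.algebraMap_eq, map_add,
            Ideal.Quotient.eq_zero_iff_mem.2 hp, zero_add, map_mul]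
        · rintro ⟨m, rfl⟩
          obtain ⟨d, hd⟩ := Ideal.Quotient.mk_surjective (e m)
          show Submodule.factor (le_sup_left : P.asIdeal ≤ P.asIdeal ⊔ Ideal.span {x}) (e (x • m)) = 0
          rw [map_smul, ← hd, Algebra.smul_def, Ideal.Quotient.algebraMap_eq, ← map_mul]
          exact (Submodule.Quotient.mk_eq_zero _).2 (Ideal.mem_sup_right (Ideal.mul_mem_right _ _ (Ideal.mem_span_singleton_self x)))
      have hcoker : Module.length A (N ⧸ LinearMap.range (mulA A x N)) = Module.length A (B ⧸ (P.asIdeal ⊔ Ideal.span {x})) := by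
        rw [← hgk]; exact (g.quotKerEquivOfSurjective hg).length_eq
      haveI : Subsingleton (LinearMap.ker (mulA A x N)) :=
        ⟨fun u v => Subtype.ext ((hinj u u.2).trans (hinj v v.2).symm)⟩
      have hfin : Module.length A (B ⧸ (P.asIdeal ⊔ Ideal.span {x})) ≠ ⊤ := lengthA_ne_top (B := B) _ fun r hr => by
        rw [Module.support_eq_zeroLocus, Ideal.annihilator_quotient] at hr
        refine hT P hPT r (lt_of_le_of_ne ((le_sup_left (b := Ideal.span {x})).trans hr : P.asIdeal ≤ r.asIdeal) fun he => hxP ?_)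
        rw [he]; exact hr (Ideal.mem_sup_right (Ideal.mem_span_singleton_self x))
      have hloc : locLen P N = 1 := by rw [locLen_congr P e, locLen_quot_self]
      have hout : ∀ Q ∈ T, Q ≠ P → locLen Q N = 0 := fun Q hQ hne => hzero Q fun hQs =>
        hTm Q hQ (hT P hPT Q (lt_of_le_of_ne ((hs Q).1 hQs) (Ne.symm hne)))
      refine ⟨hcoker ▸ hfin.lt_top, by simp [Module.length_eq_zero], ?_, fun Q hQ => ?_⟩
      · rw [Finset.sum_eq_single P (fun Q hQ hne => by simp [hout Q hQ hne]) (fun hn => absurd hPT hn), hloc, chi,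
          lenA, hcoker]
        simp [delta, Module.length_eq_zero]
      · rcases eq_or_ne Q P with rfl | hne
        · simp [hloc]
        · simp [hout Q hQ hne]
  | exact B₁ B₂ B₃ f g hf hg hfg ih₁ ih₃ =>
    intro mA st h
    have hsup := Module.support_of_exact hfg hf hg
    letI m1 : Module A B₁ := Module.compHom B₁ (algebraMap A B)
    haveI : IsScalarTower A B B₁ := .of_algebraMap_smul fun _ _ => rfl
    letI m3 : Module A B₃ := Module.compHom B₃ (algebraMap A B)
    haveI : IsScalarTower A B B₃ := .of_algebraMap_smul fun _ _ => rfl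
    obtain ⟨a1, a2, a3, a4⟩ := @ih₁ m1 inferInstance fun P hP => h P (hsup ▸ Set.mem_union_left _ hP)
    obtain ⟨c1, c2, c3, c4⟩ := @ih₃ m3 inferInstance fun P hP => h P (hsup ▸ Set.mem_union_right _ hP)
    obtain ⟨-, hb, -, hadd⟩ := GrothLib.Herbrand.shortExact (0 : B₁ →ₗ[A] B₁) (mulA A x B₁) 0 (mulA A x B₂) 0 (mulA A x B₃)
      ⟨by simp, by simp⟩ ⟨by simp, by simp⟩ (f.restrictScalars A) (f.restrictScalars A) (g.restrictScalars A)
      (g.restrictScalars A) (by simp) (LinearMap.ext fun m => (map_smul f x m).symm) (by simp)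
      (LinearMap.ext fun m => (map_smul g x m).symm) hf hf hg hg
      (SetLike.ext fun z => (hfg z).symm)
      (SetLike.ext fun z => (hfg z).symm)
      (Or.inr (Or.inl ⟨⟨by rwa [length_perH_coker], by rwa [length_perH_ker]⟩,
        ⟨by rwa [length_perH_coker], by rwa [length_perH_ker]⟩⟩))
    rw [FinCoh, length_perH_coker, length_perH_ker] at hb
    simp only [herbrand, length_perH_coker, length_perH_ker] at hadd
    refine ⟨hb.1, hb.2, ?_, fun Q hQ => ?_⟩
    · simp only [chi, lenA] at a3 c3 ⊢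
      rw [hadd, a3, c3, ← Finset.sum_add_distrib]
      refine Finset.sum_congr rfl fun Q hQ => ?_
      rw [locLen_add Q f g hf hg hfg, ENat.toNat_add (a4 Q hQ) (c4 Q hQ)]
      push_cast
      ring
    · rw [locLen_add Q f g hf hg hfg]
      exact WithTop.add_ne_top.2 ⟨a4 Q hQ, c4 Q hQ⟩

section relLen

variable (A) in
/-- The length of the image of `R` modulo `P`. -/
noncomputable def dlen (P R : Ideal B) : ℕ∞ := Module.length A ((Submodule.map P.mkQ R))

theorem dlen_add {P Q R : Ideal B} (h₁ : P ≤ Q) (h₂ : Q ≤ R) : dlen A P R = dlen A P Q + dlen A Q R := by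
  let f : (Submodule.map P.mkQ Q) →ₗ[A] (Submodule.map P.mkQ R) := (Submodule.inclusion (Submodule.map_mono h₂)).restrictScalars A
  let g : (Submodule.map P.mkQ R) →ₗ[A] (Submodule.map Q.mkQ R) :=
    (LinearMap.restrict (Submodule.factor h₁) (p := (Submodule.map P.mkQ R)) (q := (Submodule.map Q.mkQ R)) (by
      rintro _ ⟨r, hr, rfl⟩; exact ⟨r, hr, rfl⟩)).restrictScalars A
  refine Module.length_eq_add_of_exact f g (Submodule.inclusion_injective (Submodule.map_mono h₂)) ?_ ?_
  · rintro ⟨_, r, hr, rfl⟩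
    exact ⟨⟨P.mkQ r, r, hr, rfl⟩, Subtype.ext rfl⟩
  · rw [LinearMap.exact_iff]
    ext ⟨z, r, hr, hz⟩
    subst hz
    constructor
    · intro h
      have h' : Submodule.factor h₁ (P.mkQ r) = 0 := congrArg Subtype.val h
      exact ⟨⟨P.mkQ r, r, (Submodule.Quotient.mk_eq_zero Q).1 h', rfl⟩, Subtype.ext rfl⟩
    · rintro ⟨⟨_, q, hq, rfl⟩, hq'⟩
      refine Subtype.ext ?_
      show Submodule.factor h₁ (P.mkQ r) = 0
      have hq'' : P.mkQ q = P.mkQ r := congrArg Subtype.val hq'
      rw [← hq'']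
      exact (Submodule.Quotient.mk_eq_zero Q).2 hq

theorem dlen_eq_quot (P R : Ideal B) : dlen A P R = Module.length A (R ⧸ P.submoduleOf R) := by
  let g : R →ₗ[B] B ⧸ P := P.mkQ.comp R.subtype
  have hr : LinearMap.range g = (Submodule.map P.mkQ R) := by rw [LinearMap.range_comp, Submodule.range_subtype]
  have hk : LinearMap.ker g = P.submoduleOf R := by rw [LinearMap.ker_comp, Submodule.ker_mkQ]; rfl
  rw [dlen, ← hr, ← hk]
  exact (g.quotKerEquivRange.restrictScalars A).length_eq.symm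

theorem dlen_inter (P R : Ideal B) : dlen A P R = dlen A (P ⊓ R) R := by
  rw [dlen_eq_quot, dlen_eq_quot]
  refine ((Submodule.quotEquivOfEq _ _ ?_).restrictScalars A).length_eq
  ext x
  simp [Submodule.submoduleOf]

theorem dlen_sup (P R : Ideal B) : dlen A P (P ⊔ R) = dlen A P R := by
  rw [dlen, dlen, Submodule.map_sup, Submodule.mkQ_map_self, bot_sup_eq]

/-- The relative length from a linear map out of an ideal. -/
theorem dlen_eq_of_map {P R : Ideal B} {P' R' : Ideal B} (g : R →ₗ[B] B ⧸ P') (hr : LinearMap.range g = (Submodule.map P'.mkQ R'))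
    (hk : LinearMap.ker g = P.submoduleOf R) : dlen A P R = dlen A P' R' := by
  rw [dlen_eq_quot, dlen, ← hk, ← hr]
  exact (g.quotKerEquivRange.restrictScalars A).length_eq

theorem length_quot_map (P R : Ideal B) (x : B) :
    Module.length A ((Submodule.map P.mkQ R) ⧸ LinearMap.range (mulA A x ((Submodule.map P.mkQ R)))) = dlen A (P ⊔ Ideal.span {x} * R) (P ⊔ R) := by
  have h1 : P ⊔ Ideal.span {x} * R ≤ P ⊔ R := sup_le_sup_left Ideal.mul_le_right P
  have hN : (Submodule.map P.mkQ R) = (Submodule.map P.mkQ (P ⊔ R)) := by rw [Submodule.map_sup, Submodule.mkQ_map_self, bot_sup_eq]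
  let g : (Submodule.map P.mkQ R) →ₗ[A] (Submodule.map (P ⊔ Ideal.span {x} * R).mkQ (P ⊔ R)) :=
    (LinearMap.restrict (Submodule.factor (le_sup_left : P ≤ P ⊔ Ideal.span {x} * R))
      (p := (Submodule.map P.mkQ R)) (q := (Submodule.map (P ⊔ Ideal.span {x} * R).mkQ (P ⊔ R))) (by
        rintro _ ⟨r, hr, rfl⟩; exact ⟨r, Submodule.mem_sup_right hr, rfl⟩)).restrictScalars A
  have hg : Function.Surjective g := by
    rintro ⟨_, r, hr, rfl⟩
    obtain ⟨p, hp, r', hr', rfl⟩ := Submodule.mem_sup.1 hr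
    refine ⟨⟨P.mkQ r', r', hr', rfl⟩, Subtype.ext ?_⟩
    show Submodule.factor le_sup_left (P.mkQ r') = (P ⊔ Ideal.span {x} * R).mkQ (p + r')
    rw [map_add, show (P ⊔ Ideal.span {x} * R).mkQ p = 0 from (Submodule.Quotient.mk_eq_zero _).2 (Submodule.mem_sup_left hp),
      zero_add]
    rfl
  rw [dlen, ← (g.quotKerEquivOfSurjective hg).length_eq]
  refine (Submodule.quotEquivOfEq _ _ ?_).length_eq
  ext ⟨z, r, hr, hz⟩
  subst hz
  constructor
  · rintro ⟨⟨_, r', hr', rfl⟩, h⟩
    refine Subtype.ext ?_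
    show Submodule.factor le_sup_left (P.mkQ r) = 0
    have h'' : x • P.mkQ r' = P.mkQ r := congrArg Subtype.val h
    rw [← h'', ← map_smul P.mkQ]
    exact (Submodule.Quotient.mk_eq_zero _).2 (Submodule.mem_sup_right (Ideal.mul_mem_mul (Ideal.mem_span_singleton_self x) hr'))
  · intro h
    have h' : r ∈ P ⊔ Ideal.span {x} * R := (Submodule.Quotient.mk_eq_zero _).1 (congrArg Subtype.val h)
    obtain ⟨p, hp, q, hq, hpq⟩ := Submodule.mem_sup.1 h'
    obtain ⟨r', hr', rfl⟩ := Ideal.mem_span_singleton_mul.1 hq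
    refine ⟨⟨P.mkQ r', r', hr', rfl⟩, Subtype.ext ?_⟩
    show x • P.mkQ r' = P.mkQ r
    rw [← hpq, map_add, show P.mkQ p = 0 from (Submodule.Quotient.mk_eq_zero _).2 hp, zero_add, ← map_smul, smul_eq_mul]

theorem length_ker_map (P R : Ideal B) (x : B) :
    Module.length A (LinearMap.ker (mulA A x ((Submodule.map P.mkQ R)))) = dlen A P (R ⊓ P.colon (Ideal.span {x})) := by
  let g : ((Submodule.map P.mkQ (R ⊓ P.colon (Ideal.span {x})))) →ₗ[A] LinearMap.ker (mulA A x ((Submodule.map P.mkQ R))) :=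
    { toFun := fun z => ⟨⟨z.1, Submodule.map_mono inf_le_left z.2⟩, by
        obtain ⟨r, hr, hrz⟩ := z.2
        refine Subtype.ext ?_
        show x • z.1 = 0
        rw [← hrz, ← map_smul]
        exact (Submodule.Quotient.mk_eq_zero _).2 (by
          have := Submodule.mem_colon.1 hr.2 x (Ideal.mem_span_singleton_self x)
          simpa [mul_comm] using this)⟩
      map_add' := fun _ _ => rfl
      map_smul' := fun _ _ => rfl }
  refine (LinearEquiv.ofBijective g ⟨fun u v h => Subtype.ext (congrArg (fun w => ((w.1).1)) h), ?_⟩).length_eq.symm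
  rintro ⟨⟨_, r, hr, rfl⟩, hz⟩
  have hz' : P.mkQ (x • r) = 0 := (map_smul P.mkQ x r).trans (congrArg Subtype.val (LinearMap.mem_ker.1 hz))
  refine ⟨⟨P.mkQ r, r, ⟨hr, Submodule.mem_colon.2 fun p hp => ?_⟩, rfl⟩, rfl⟩
  obtain ⟨d, rfl⟩ := Ideal.mem_span_singleton.1 hp
  have h2 := P.mul_mem_right d ((Submodule.Quotient.mk_eq_zero P).1 hz')
  simpa [mul_comm, mul_assoc, mul_left_comm] using h2

end relLen

/-- One-dimensional at the points considered. -/
def IsCurvePt (Q : PrimeSpectrum B) : Prop :=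
  ¬ Q.asIdeal.IsMaximal ∧ Ring.KrullDimLE 1 (Localization.AtPrime Q.asIdeal) ∧
    ∀ P : PrimeSpectrum B, Q < P → P.asIdeal.IsMaximal

theorem incomparable {S : Finset (PrimeSpectrum B)} (hS : ∀ Q ∈ S, IsCurvePt Q) :
    ∀ P ∈ S, ∀ Q ∈ S, P ≤ Q → P = Q := fun P hP Q hQ hle => by
  by_contra hne
  exact (hS Q hQ).1 ((hS P hP).2.2 Q (lt_of_le_of_ne hle hne))

theorem exists_separators {S : Finset (PrimeSpectrum B)} (hS : ∀ Q ∈ S, IsCurvePt Q) :
    ∃ g : PrimeSpectrum B → B, ∀ P ∈ S, g P ∉ P.asIdeal ∧ ∀ Q ∈ S, Q ≠ P → g P ∈ Q.asIdeal := by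
  classical
  obtain ⟨g, hg⟩ := exists_separating_family (S.image PrimeSpectrum.asIdeal)
    (fun P hP => by obtain ⟨q, -, rfl⟩ := Finset.mem_image.1 hP; exact q.isPrime)
    (fun P hP Q hQ hle => by
      obtain ⟨q, hq, rfl⟩ := Finset.mem_image.1 hP
      obtain ⟨q', hq', rfl⟩ := Finset.mem_image.1 hQ
      rw [incomparable hS q hq q' hq' hle])
  exact ⟨fun P => g P.asIdeal, fun P hP => ⟨(hg _ (Finset.mem_image_of_mem _ hP)).1,
    fun Q hQ hne => (hg _ (Finset.mem_image_of_mem _ hP)).2 _ (Finset.mem_image_of_mem _ hQ)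
      fun h => hne (PrimeSpectrum.ext h)⟩⟩

/-- Elements divisible by `d` at each point of `S`. -/
noncomputable def locIdeal (S : Finset (PrimeSpectrum B)) (d : B) : Ideal B :=
  ⨅ Q ∈ S, (Ideal.span {algebraMap B (Localization.AtPrime Q.asIdeal) d}).comap (algebraMap B (Localization.AtPrime Q.asIdeal))

theorem mem_locIdeal {S : Finset (PrimeSpectrum B)} {d b : B} : b ∈ locIdeal S d ↔
    ∀ Q ∈ S, algebraMap B (Localization.AtPrime Q.asIdeal) d ∣ algebraMap B (Localization.AtPrime Q.asIdeal) b := by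
  simp [locIdeal, Submodule.mem_iInf, Ideal.mem_span_singleton]

/-- An element divisible by `d` at the points of `S` and a unit at another point. -/
theorem exists_mem_locIdeal_notMem {S : Finset (PrimeSpectrum B)} (hS : ∀ Q ∈ S, IsCurvePt Q) {d : B}
    (hd : ∀ Q ∈ S, algebraMap B (Localization.AtPrime Q.asIdeal) d ∈ nonZeroDivisors (Localization.AtPrime Q.asIdeal))
    (P : PrimeSpectrum B) (hP : ∀ Q ∈ S, ¬ Q ≤ P) : ∃ r ∈ locIdeal S d, r ∉ P.asIdeal := by
  classical
  have : ∀ Q ∈ S, ∃ r : B, r ∉ P.asIdeal ∧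
      algebraMap B (Localization.AtPrime Q.asIdeal) d ∣ algebraMap B (Localization.AtPrime Q.asIdeal) r := by
    intro Q hQ
    obtain ⟨x, hxQ, hxP⟩ := SetLike.not_le_iff_exists.1 (show ¬ Q.asIdeal ≤ P.asIdeal from hP Q hQ)
    haveI := (hS Q hQ).2.1
    haveI : IsNoetherianRing (Localization.AtPrime Q.asIdeal) :=
      IsLocalization.isNoetherianRing Q.asIdeal.primeCompl _ inferInstance
    obtain ⟨n, hn⟩ := exists_pow_le_span (hd Q hQ)
    refine ⟨x ^ n, fun h => hxP (P.isPrime.mem_of_pow_mem n h), Ideal.mem_span_singleton.1 (hn ?_)⟩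
    rw [map_pow]
    exact Ideal.pow_mem_pow ((IsLocalization.AtPrime.to_map_mem_maximal_iff _ Q.asIdeal x).2 hxQ) n
  choose! r hrP hr using this
  refine ⟨∏ Q ∈ S, r Q, mem_locIdeal.2 fun Q hQ => (hr Q hQ).trans (map_dvd _ (Finset.dvd_prod_of_mem r hQ)), fun h => ?_⟩
  obtain ⟨Q, hQ, hQP⟩ := Ideal.IsPrime.prod_mem_iff.1 h
  exact hrP Q hQ hQP

theorem map_locIdeal_of_mem {S : Finset (PrimeSpectrum B)} {Q : PrimeSpectrum B} (hQ : Q ∈ S) (d : B) :
    (locIdeal S d).map (algebraMap B (Localization.AtPrime Q.asIdeal)) =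
      (Ideal.span {d}).map (algebraMap B (Localization.AtPrime Q.asIdeal)) := by
  refine le_antisymm (Ideal.map_le_iff_le_comap.2 fun b hb => ?_) (Ideal.map_mono ?_)
  · rw [Ideal.mem_comap, Ideal.map_span, Set.image_singleton]
    exact Ideal.mem_span_singleton.2 (mem_locIdeal.1 hb Q hQ)
  · exact (Ideal.span_singleton_le_iff_mem _).2 (mem_locIdeal.2 fun _ _ => dvd_rfl)

theorem locLen_quot_congr (Q : PrimeSpectrum B) {I J : Ideal B}
    (h : I.map (algebraMap B (Localization.AtPrime Q.asIdeal)) = J.map (algebraMap B (Localization.AtPrime Q.asIdeal))) :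
    locLen Q (B ⧸ I) = locLen Q (B ⧸ J) := by
  rw [locLen, locLen, GrothLib.CycDiv.length_localized_quot Q.asIdeal (Localization.AtPrime Q.asIdeal),
    GrothLib.CycDiv.length_localized_quot Q.asIdeal (Localization.AtPrime Q.asIdeal), h]

theorem support_of_mem (I : Ideal B) {P : PrimeSpectrum B} (hP : P ∈ Module.support B (B ⧸ I)) : I ≤ P.asIdeal := by
  rw [Module.support_eq_zeroLocus, Ideal.annihilator_quotient] at hP
  exact hP

open scoped Classical in
/-- The key vanishing for a pair with simple common zeros. -/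
theorem key_pair {t s x y : B} (ht : t ∈ nonZeroDivisors B) (hs : s ∈ nonZeroDivisors B) (T C : Finset (PrimeSpectrum B))
    (hT : ∀ Q ∈ T, IsCurvePt Q)
    (hTc : ∀ P : PrimeSpectrum B, ¬ P.asIdeal.IsMaximal → t * s ∈ P.asIdeal → P ∈ T)
    (hC : ∀ Q, Q ∈ C ↔ Q ∈ T ∧ t ∈ Q.asIdeal ∧ s ∈ Q.asIdeal)
    (hx : ∀ Q ∈ C, x ∉ Q.asIdeal) (hy : ∀ Q ∈ C, y ∉ Q.asIdeal) (hxy : t * y = s * x) :
    (∑ Q ∈ T \ C, (lloc Q s * delta A Q t - lloc Q t * delta A Q s)) +
      ∑ Q ∈ C, lloc Q t * (delta A Q x - delta A Q y) = 0 := by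
  classical
  have hCT : C ⊆ T := fun Q hQ => ((hC Q).1 hQ).1
  have hCc : ∀ Q ∈ C, IsCurvePt Q := fun Q hQ => hT Q (hCT hQ)
  set φ := fun Q : PrimeSpectrum B => algebraMap B (Localization.AtPrime Q.asIdeal) with hφ
  have hreg : ∀ {d : B}, d ∈ nonZeroDivisors B → ∀ Q : PrimeSpectrum B,
      φ Q d ∈ nonZeroDivisors (Localization.AtPrime Q.asIdeal) := fun hd Q =>
    IsLocalization.map_nonZeroDivisors_le Q.asIdeal.primeCompl _ (Submonoid.mem_map_of_mem _ hd)
  have hu : ∀ Q ∈ C, ∀ {w : B}, w ∉ Q.asIdeal → IsUnit (φ Q w) := fun Q _ w hw =>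
    IsLocalization.map_units (Localization.AtPrime Q.asIdeal) (⟨w, hw⟩ : Q.asIdeal.primeCompl)
  have hts : ∀ Q ∈ C, φ Q t ∣ φ Q s ∧ φ Q s ∣ φ Q t := fun Q hQ => by
    have h := congrArg (φ Q) hxy
    rw [map_mul, map_mul] at h
    exact ⟨(hu Q hQ (hx Q hQ)).dvd_mul_right.1 ⟨φ Q y, h.symm⟩, (hu Q hQ (hy Q hQ)).dvd_mul_right.1 ⟨φ Q x, h⟩⟩
  set U := Ideal.span {t} with hU
  set V := Ideal.span {s} with hV
  set I := locIdeal C t with hI
  set I₂ := locIdeal C (t ^ 2) with hI₂
  have hUI : U ≤ I := (Ideal.span_singleton_le_iff_mem _).2 (mem_locIdeal.2 fun Q _ => dvd_rfl)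
  have hVI : V ≤ I := (Ideal.span_singleton_le_iff_mem _).2 (mem_locIdeal.2 fun Q hQ => (hts Q hQ).1)
  have hI₂I : I₂ ≤ I := fun b hb => mem_locIdeal.2 fun Q hQ =>
    (by rw [map_pow]; exact dvd_pow_self _ two_ne_zero : φ Q t ∣ φ Q (t ^ 2)).trans (mem_locIdeal.1 hb Q hQ)
  have hmulI : ∀ {w : B}, (∀ Q ∈ C, φ Q t ∣ φ Q w) → ∀ {b : B}, b ∈ I → w * b ∈ I₂ := fun {w} hw {b} hb =>
    mem_locIdeal.2 fun Q hQ => by
      rw [map_pow, map_mul, sq]; exact mul_dvd_mul (hw Q hQ) (mem_locIdeal.1 hb Q hQ)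
  have hsI : V * I ≤ I₂ := Ideal.mul_le.2 fun r hr b hb => by
    obtain ⟨c, rfl⟩ := Ideal.mem_span_singleton.1 hr
    rw [mul_right_comm]
    exact Ideal.mul_mem_right c _ (hmulI (fun Q hQ => (hts Q hQ).1) hb)
  have hloff : ∀ Q ∈ T, Q ∉ C → I.map (φ Q) = ⊤ ∧ I₂.map (φ Q) = ⊤ := by
    have : ∀ d : B, (∀ Q ∈ C, φ Q d ∈ nonZeroDivisors (Localization.AtPrime Q.asIdeal)) → ∀ Q ∈ T, Q ∉ C →
        (locIdeal C d).map (φ Q) = ⊤ := fun d hd Q hQ hQC => by
      obtain ⟨r, hr, hrQ⟩ := exists_mem_locIdeal_notMem hCc hd Q fun Q' hQ' hle =>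
        hQC (incomparable hT Q' (hCT hQ') Q hQ hle ▸ hQ')
      exact Ideal.eq_top_of_isUnit_mem _ (Ideal.mem_map_of_mem _ hr)
        (IsLocalization.map_units (Localization.AtPrime Q.asIdeal) (⟨r, hrQ⟩ : Q.asIdeal.primeCompl))
    exact fun Q hQ hQC => ⟨this t (fun Q _ => hreg ht Q) Q hQ hQC, this _ (fun Q _ => hreg (pow_mem ht 2) Q) Q hQ hQC⟩
  have hVon : ∀ Q ∈ C, V.map (φ Q) = I.map (φ Q) := fun Q hQ => by
    rw [hI, map_locIdeal_of_mem hQ, hV, Ideal.map_span, Set.image_singleton, Ideal.map_span, Set.image_singleton]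
    exact le_antisymm ((Ideal.span_singleton_le_iff_mem _).2 (Ideal.mem_span_singleton.2 (hts Q hQ).1))
      ((Ideal.span_singleton_le_iff_mem _).2 (Ideal.mem_span_singleton.2 (hts Q hQ).2))
  have hUon : ∀ Q ∈ C, U.map (φ Q) = I.map (φ Q) := fun Q hQ => (map_locIdeal_of_mem hQ t).symm
  have hfinq : ∀ {d : B}, d ∈ nonZeroDivisors B → ∀ Q ∈ T, locLen Q (B ⧸ Ideal.span {d}) ≠ ⊤ := fun {d} hd Q hQ => by
    haveI := (hT Q hQ).2.1
    haveI : IsNoetherianRing (Localization.AtPrime Q.asIdeal) :=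
      IsLocalization.isNoetherianRing Q.asIdeal.primeCompl _ inferInstance
    rw [show locLen Q (B ⧸ Ideal.span {d}) = _ from locLen_eq_ord' Q.asIdeal d]
    exact Ring.ord_ne_top (hreg hd Q)
  have hTT : ∀ Q ∈ T, ∀ P : PrimeSpectrum B, Q < P → P.asIdeal.IsMaximal := fun Q hQ => (hT Q hQ).2.2
  have hTm : ∀ Q ∈ T, ¬ Q.asIdeal.IsMaximal := fun Q hQ => (hT Q hQ).1
  -- the part away from the common zeros
  have off : ∀ (a b : B), b ∈ nonZeroDivisors B → Ideal.span {b} ≤ I →
      (∀ Q ∈ C, (Ideal.span {b}).map (φ Q) = I.map (φ Q)) →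
      (∀ P : PrimeSpectrum B, ¬ P.asIdeal.IsMaximal → b ∈ P.asIdeal → P ∈ T) →
      (∀ P ∈ T, a ∈ P.asIdeal → b ∈ P.asIdeal → P ∈ C) →
      dlen A (Ideal.span {b} ⊔ Ideal.span {a} * I) I ≠ ⊤ ∧
        dlen A (Ideal.span {b}) (I ⊓ (Ideal.span {b}).colon (Ideal.span {a})) ≠ ⊤ ∧
      ((dlen A (Ideal.span {b} ⊔ Ideal.span {a} * I) I).toNat : ℤ) -
        (dlen A (Ideal.span {b}) (I ⊓ (Ideal.span {b}).colon (Ideal.span {a}))).toNat =
        ∑ Q ∈ T \ C, lloc Q b * delta A Q a := by
    intro a b hb hbI hbon hbT hab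
    set N := (Submodule.map (Ideal.span {b}).mkQ I) with hN
    have hval : ∀ Q ∈ T, locLen Q N + locLen Q (B ⧸ I) = locLen Q (B ⧸ Ideal.span {b}) := fun Q _ =>
      (locLen_eq_add Q (Ideal.span {b}) I hbI).symm
    have hon : ∀ Q ∈ C, locLen Q N = 0 := fun Q hQ => by
      have h := hval Q (hCT hQ)
      rw [locLen_quot_congr Q (hbon Q hQ)] at h
      have hne : locLen Q (B ⧸ I) ≠ ⊤ := by
        rw [← locLen_quot_congr Q (hbon Q hQ)]; exact hfinq hb Q (hCT hQ)
      exact (ENat.addLECancellable_of_ne_top hne).inj_left.1 (h.trans (zero_add _).symm)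
    have hoff : ∀ Q ∈ T, Q ∉ C → locLen Q N = locLen Q (B ⧸ Ideal.span {b}) := fun Q hQ hQC => by
      have h := hval Q hQ
      haveI : Subsingleton (B ⧸ (⊤ : Ideal B)) := Ideal.Quotient.subsingleton_iff.2 rfl
      rw [locLen_quot_congr Q (J := ⊤) ((hloff Q hQ hQC).1.trans (Ideal.map_top _).symm), locLen_zero Q (M := B ⧸ (⊤ : Ideal B)),
        add_zero] at h
      exact h
    obtain ⟨h1, h2, h3, -⟩ := euler (A := A) a T hTT hTm N fun P hP hPm => by
      have hsub : P ∈ Module.support B (B ⧸ Ideal.span {b}) :=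
        Module.support_subset_of_injective N.subtype N.subtype_injective hP
      have hbP : b ∈ P.asIdeal := support_of_mem _ hsub (Ideal.mem_span_singleton_self b)
      have hPT := hbT P hPm hbP
      refine ⟨hPT, fun haP => ?_⟩
      have h0 := hon P (hab P hPT haP hbP)
      exact Module.notMem_support_iff.2 (Module.length_eq_zero_iff.1 h0) hP
    rw [length_quot_map, sup_eq_right.2 hbI] at h1
    rw [length_ker_map] at h2
    refine ⟨h1.ne, h2.ne, ?_⟩
    rw [chi, lenA, lenA, length_quot_map, sup_eq_right.2 hbI, length_ker_map] at h3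
    rw [h3, ← Finset.sum_sdiff hCT, Finset.sum_eq_zero (s := C) (fun Q hQ => by simp [hon Q hQ]), add_zero]
    refine Finset.sum_congr rfl fun Q hQ => ?_
    rw [lloc, hoff Q (Finset.mem_sdiff.1 hQ).1 (Finset.mem_sdiff.1 hQ).2]
  obtain ⟨a1, a2, a3⟩ := off t s hs hVI hVon (fun P hP h => hTc P hP (P.asIdeal.mul_mem_left t h))
    (fun P hP h h' => (hC P).2 ⟨hP, h, h'⟩)
  obtain ⟨b1, b2, b3⟩ := off s t ht hUI hUon (fun P hP h => hTc P hP (P.asIdeal.mul_mem_right s h))
    (fun P hP h h' => (hC P).2 ⟨hP, h', h⟩)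
  -- the kernels agree
  have hker : dlen A V (I ⊓ V.colon U) = dlen A U (I ⊓ U.colon V) := by
    have hex : ∀ b : ↥(I ⊓ V.colon U), ∃ c, t * (b : B) = s * c := fun b => by
      obtain ⟨c, hc⟩ := Ideal.mem_span_singleton.1 (Submodule.mem_colon.1 b.2.2 t (Ideal.mem_span_singleton_self t))
      exact ⟨c, by rw [← hc, smul_eq_mul, mul_comm]⟩
    choose c hc using hex
    let g : ↥(I ⊓ V.colon U) →ₗ[B] B ⧸ U :=
      U.mkQ.comp
        { toFun := c
          map_add' := fun u v => (mul_cancel_left_mem_nonZeroDivisors hs).1 (by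
            rw [← hc, mul_add, ← hc, ← hc, Submodule.coe_add, mul_add])
          map_smul' := fun r u => (mul_cancel_left_mem_nonZeroDivisors hs).1 (by
            rw [← hc, Submodule.coe_smul, RingHom.id_apply, smul_eq_mul, smul_eq_mul, mul_left_comm, hc, mul_left_comm]) }
    refine dlen_eq_of_map g ?_ ?_
    · ext z
      constructor
      · rintro ⟨b, rfl⟩
        refine ⟨c b, ⟨mem_locIdeal.2 fun Q hQ => ?_, Submodule.mem_colon.2 fun p hp => ?_⟩, rfl⟩
        · have h : φ Q t * φ Q (b : B) = φ Q s * φ Q (c b) := by rw [← map_mul, ← map_mul, hc]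
          obtain ⟨w, hw⟩ := (hts Q hQ).2
          have hb' := mem_locIdeal.1 b.2.1 Q hQ
          have : φ Q (c b) = w * φ Q (b : B) := by
            refine ((mul_cancel_left_mem_nonZeroDivisors (hreg hs Q)).1 ?_).symm
            rw [← mul_assoc, ← hw, h]
          exact this ▸ dvd_mul_of_dvd_right hb' w
        · obtain ⟨d, rfl⟩ := Ideal.mem_span_singleton.1 hp
          exact Ideal.mem_span_singleton.2 ⟨(b : B) * d, by
            rw [smul_eq_mul]; linear_combination (-d) * hc b⟩
      · rintro ⟨r, ⟨hrI, hrc⟩, rfl⟩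
        obtain ⟨d, hd⟩ := Ideal.mem_span_singleton.1 (Submodule.mem_colon.1 hrc s (Ideal.mem_span_singleton_self s))
        rw [smul_eq_mul] at hd
        have hdI : d ∈ I := mem_locIdeal.2 fun Q hQ => by
          obtain ⟨w, hw⟩ := (hts Q hQ).1
          have h : φ Q t * φ Q d = φ Q r * φ Q s := by rw [← map_mul, ← map_mul, hd]
          have : φ Q d = w * φ Q r := by
            refine (mul_cancel_left_mem_nonZeroDivisors (hreg ht Q)).1 ?_
            rw [h, hw]; ring
          exact this ▸ dvd_mul_of_dvd_right (mem_locIdeal.1 hrI Q hQ) w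
        have hdc : d ∈ V.colon U := Submodule.mem_colon.2 fun p hp => by
          obtain ⟨e, rfl⟩ := Ideal.mem_span_singleton.1 hp
          exact Ideal.mem_span_singleton.2 ⟨r * e, by rw [smul_eq_mul]; linear_combination (-e) * hd⟩
        refine ⟨⟨d, hdI, hdc⟩, ?_⟩
        show U.mkQ (c ⟨d, hdI, hdc⟩) = U.mkQ r
        congr 1
        refine (mul_cancel_left_mem_nonZeroDivisors hs).1 ?_
        rw [← hc]; linear_combination -hd
    · ext b
      rw [LinearMap.mem_ker, Submodule.submoduleOf, Submodule.mem_comap, Submodule.coe_subtype]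
      show U.mkQ (c b) = 0 ↔ _
      rw [Submodule.mkQ_apply, Submodule.Quotient.mk_eq_zero]
      constructor
      · intro h
        obtain ⟨d, hd⟩ := Ideal.mem_span_singleton.1 h
        exact Ideal.mem_span_singleton.2 ⟨d, (mul_cancel_left_mem_nonZeroDivisors ht).1 (by rw [hc, hd]; ring)⟩
      · intro h
        obtain ⟨d, hd⟩ := Ideal.mem_span_singleton.1 h
        exact Ideal.mem_span_singleton.2 ⟨d, (mul_cancel_left_mem_nonZeroDivisors hs).1 (by rw [← hc, hd]; ring)⟩
  -- the common zeros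
  have con : ∀ (a w : B), a ∈ nonZeroDivisors B → (∀ Q ∈ C, (Ideal.span {a}).map (φ Q) = I.map (φ Q)) →
      (∀ Q ∈ C, w ∉ Q.asIdeal) →
      dlen A (Ideal.span {a * w} ⊔ I₂) (Ideal.span {a} ⊔ I₂) ≠ ⊤ ∧
      ((dlen A (Ideal.span {a * w} ⊔ I₂) (Ideal.span {a} ⊔ I₂)).toNat : ℤ) = ∑ Q ∈ C, lloc Q t * delta A Q w := by
    intro a w ha haon hw
    obtain ⟨h1, -, h3, -⟩ := euler (A := A) w C (fun Q hQ => hTT Q (hCT hQ)) (fun Q hQ => hTm Q (hCT hQ)) (B ⧸ I) fun P hP hPm => by
      have hIP := support_of_mem I hP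
      have hPT : P ∈ T := hTc P hPm (hIP (Ideal.mul_mem_right s I (hUI (Ideal.mem_span_singleton_self t))))
      have hPC : P ∈ C := by
        by_contra h
        refine Ideal.IsMaximal.ne_top (maximalIdeal.isMaximal (Localization.AtPrime P.asIdeal)) (top_le_iff.1 ?_)
        rw [← (hloff P hPT h).1, ← Localization.AtPrime.map_eq_maximalIdeal]
        exact Ideal.map_mono hIP
      exact ⟨hPC, hw P hPC⟩
    have hkern : LinearMap.ker (mulA A w (B ⧸ I)) = ⊥ := by
      rw [eq_bot_iff]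
      intro z hz
      obtain ⟨b, rfl⟩ := Ideal.Quotient.mk_surjective z
      have hb : w * b ∈ I := Ideal.Quotient.eq_zero_iff_mem.1 (by rw [map_mul]; exact hz)
      refine (Submodule.mem_bot A).2 (Ideal.Quotient.eq_zero_iff_mem.2 (mem_locIdeal.2 fun Q hQ => ?_))
      have := mem_locIdeal.1 hb Q hQ
      rwa [map_mul, (hu Q hQ (hw Q hQ)).dvd_mul_left] at this
    have hlen : dlen A (Ideal.span {a * w} ⊔ I₂) (Ideal.span {a} ⊔ I₂) =
        Module.length A ((B ⧸ I) ⧸ LinearMap.range (mulA A w (B ⧸ I))) := by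
      let g : B →ₗ[B] B ⧸ (Ideal.span {a * w} ⊔ I₂) := (Ideal.span {a * w} ⊔ I₂).mkQ.comp (LinearMap.mulLeft B a)
      have hr : LinearMap.range g = (Submodule.map (Ideal.span {a * w} ⊔ I₂).mkQ (Ideal.span {a} ⊔ I₂)) := by
        rw [Submodule.map_sup, show (Submodule.map (Ideal.span {a * w} ⊔ I₂).mkQ I₂) = ⊥ from by
          rw [eq_bot_iff]; rintro _ ⟨i, hi, rfl⟩
          exact (Submodule.Quotient.mk_eq_zero _).2 (Submodule.mem_sup_right hi), sup_bot_eq, LinearMap.range_comp]
        congr 1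
        ext z
        simp only [LinearMap.mem_range, LinearMap.mulLeft_apply, Ideal.mem_span_singleton, dvd_iff_exists_eq_mul_right,
          eq_comm]
      have hk : LinearMap.ker g = I ⊔ Ideal.span {w} := by
        ext b
        simp only [g, LinearMap.mem_ker, LinearMap.comp_apply, LinearMap.mulLeft_apply, Submodule.mkQ_apply,
          Submodule.Quotient.mk_eq_zero]
        have haI : ∀ c : B, a * c ∈ I₂ ↔ c ∈ I := fun c => by
          constructor
          · intro h
            refine mem_locIdeal.2 fun Q hQ => ?_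
            have h' : φ Q (t ^ 2) ∣ φ Q (a * c) := mem_locIdeal.1 h Q hQ
            rw [map_pow, map_mul, sq] at h'
            have hat : φ Q a ∣ φ Q t := by
              have := (haon Q hQ).trans (map_locIdeal_of_mem hQ t)
              rw [Ideal.map_span, Set.image_singleton, Ideal.map_span, Set.image_singleton] at this
              exact Ideal.span_singleton_le_span_singleton.1 this.ge
            exact dvd_cancel_left_mem_nonZeroDivisors (hreg ha Q) |>.1 ((mul_dvd_mul_right hat _).trans h')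
          · intro h
            refine hmulI (fun Q hQ => ?_) h
            have := (haon Q hQ).trans (map_locIdeal_of_mem hQ t)
            rw [Ideal.map_span, Set.image_singleton, Ideal.map_span, Set.image_singleton] at this
            exact Ideal.span_singleton_le_span_singleton.1 this.le
        constructor
        · intro h
          obtain ⟨p, hp, i, hi, hpi⟩ := Submodule.mem_sup.1 h
          obtain ⟨c, rfl⟩ := Ideal.mem_span_singleton.1 hp
          have : b - w * c ∈ I := (haI _).1 (by rw [show a * (b - w * c) = i by linear_combination -hpi]; exact hi)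
          simpa using Ideal.add_mem _ (Submodule.mem_sup_left this)
            (Submodule.mem_sup_right (Ideal.mul_mem_right c _ (Ideal.mem_span_singleton_self w)) : w * c ∈ I ⊔ Ideal.span {w})
        · intro h
          obtain ⟨i, hi, p, hp, rfl⟩ := Submodule.mem_sup.1 h
          obtain ⟨c, rfl⟩ := Ideal.mem_span_singleton.1 hp
          rw [mul_add, ← mul_assoc]
          exact Submodule.add_mem _ (Submodule.mem_sup_right ((haI i).2 hi))
            (Submodule.mem_sup_left (Ideal.mul_mem_right c _ (Ideal.mem_span_singleton_self _)))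
      rw [dlen, ← hr, ← (g.quotKerEquivRange.restrictScalars A).length_eq, hk]
      let g' : B →ₗ[A] (B ⧸ I) ⧸ LinearMap.range (mulA A w (B ⧸ I)) :=
        (LinearMap.range (mulA A w (B ⧸ I))).mkQ.comp (I.mkQ.restrictScalars A)
      have hg' : Function.Surjective g' :=
        (Submodule.mkQ_surjective _).comp (Submodule.mkQ_surjective I)
      have hk' : LinearMap.ker g' = (I ⊔ Ideal.span {w}).restrictScalars A := by
        ext b
        rw [LinearMap.mem_ker, Submodule.restrictScalars_mem]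
        show Submodule.Quotient.mk (I.mkQ b) = 0 ↔ _
        rw [Submodule.Quotient.mk_eq_zero]
        constructor
        · rintro ⟨z, hz⟩
          obtain ⟨c, rfl⟩ := Submodule.mkQ_surjective I z
          have hb : b - w * c ∈ I := by
            rw [← Submodule.Quotient.mk_eq_zero I, Submodule.Quotient.mk_sub]
            have : I.mkQ (w * c) = I.mkQ b := hz
            simpa [sub_eq_zero] using this.symm
          simpa using Ideal.add_mem _ (Submodule.mem_sup_left hb)
            (Submodule.mem_sup_right (Ideal.mul_mem_right c _ (Ideal.mem_span_singleton_self w)) : w * c ∈ I ⊔ Ideal.span {w})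
        · intro h
          obtain ⟨i, hi, p, hp, rfl⟩ := Submodule.mem_sup.1 h
          obtain ⟨c, rfl⟩ := Ideal.mem_span_singleton.1 hp
          refine ⟨I.mkQ c, ?_⟩
          show w • I.mkQ c = I.mkQ (i + w * c)
          rw [← map_smul, map_add, show I.mkQ i = 0 from (Submodule.Quotient.mk_eq_zero _).2 hi, zero_add]
          rfl
      exact ((Submodule.Quotient.restrictScalarsEquiv A (I ⊔ Ideal.span {w})).symm.trans
        ((Submodule.quotEquivOfEq _ _ hk'.symm).trans (g'.quotKerEquivOfSurjective hg'))).length_eq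
    rw [hlen]
    refine ⟨h1.ne, ?_⟩
    rw [chi, lenA, lenA, hkern, Module.length_bot, ENat.toNat_zero, Nat.cast_zero, sub_zero] at h3
    rw [h3]
    exact Finset.sum_congr rfl fun Q hQ => by rw [lloc, locLen_quot_congr Q (map_locIdeal_of_mem hQ t)]
  obtain ⟨c1, c2⟩ := con t y ht hUon hy
  obtain ⟨d1, d2⟩ := con s x hs hVon hx
  -- bookkeeping
  have hUI₂ : U ⊓ I₂ = U * I := by
    refine le_antisymm ?_ (le_inf Ideal.mul_le_left (Ideal.mul_le.2 fun r hr b hb => ?_))
    · rintro z ⟨hzU, hz⟩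
      obtain ⟨c, rfl⟩ := Ideal.mem_span_singleton.1 hzU
      refine Ideal.mul_mem_mul (Ideal.mem_span_singleton_self t) (mem_locIdeal.2 fun Q hQ => ?_)
      have h : φ Q (t ^ 2) ∣ φ Q (t * c) := mem_locIdeal.1 hz Q hQ
      rw [map_pow, map_mul, sq] at h
      exact (dvd_cancel_left_mem_nonZeroDivisors (hreg ht Q)).1 h
    · obtain ⟨c, rfl⟩ := Ideal.mem_span_singleton.1 hr
      rw [mul_right_comm]
      exact Ideal.mul_mem_right c _ (hmulI (fun Q _ => dvd_rfl) hb)
  have hUI' : U * I ≤ I₂ := hUI₂ ▸ inf_le_right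
  have hVI₂ : V ⊓ I₂ = V * I := by
    refine le_antisymm ?_ (le_inf Ideal.mul_le_left hsI)
    rintro z ⟨hzV, hz⟩
    obtain ⟨c, rfl⟩ := Ideal.mem_span_singleton.1 hzV
    refine Ideal.mul_mem_mul (Ideal.mem_span_singleton_self s) (mem_locIdeal.2 fun Q hQ => ?_)
    have h : φ Q (t ^ 2) ∣ φ Q (s * c) := mem_locIdeal.1 hz Q hQ
    rw [map_pow, map_mul, sq] at h
    exact (dvd_cancel_left_mem_nonZeroDivisors (hreg hs Q)).1 ((mul_dvd_mul_right (hts Q hQ).2 _).trans h)
  have e1 := dlen_add (A := A) (P := Ideal.span {t * y} ⊔ I₂) (Q := U ⊔ I₂) (R := I)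
    (sup_le_sup_right ((Ideal.span_singleton_le_span_singleton).2 (dvd_mul_right t y)) _) (sup_le hUI hI₂I)
  have e2 := dlen_add (A := A) (P := Ideal.span {s * x} ⊔ I₂) (Q := V ⊔ I₂) (R := I)
    (sup_le_sup_right ((Ideal.span_singleton_le_span_singleton).2 (dvd_mul_right s x)) _) (sup_le hVI hI₂I)
  have e3 := dlen_add (A := A) (P := U ⊔ V * I) (Q := U ⊔ I₂) (R := I) (sup_le_sup_left hsI _) (sup_le hUI hI₂I)
  have e4 := dlen_add (A := A) (P := V ⊔ U * I) (Q := V ⊔ I₂) (R := I) (sup_le_sup_left hUI' _) (sup_le hVI hI₂I)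
  have hmid : ∀ (P J : Ideal B), J ≤ I₂ → dlen A (P ⊔ J) (P ⊔ I₂) = dlen A ((P ⊓ I₂) ⊔ J) I₂ := fun P J hJ => by
    have h : P ⊔ I₂ = (P ⊔ J) ⊔ I₂ := by rw [sup_assoc, sup_eq_right.2 hJ]
    rw [h, dlen_sup, dlen_inter, sup_comm P J, sup_inf_assoc_of_le P hJ, sup_comm J (P ⊓ I₂)]
  rw [hmid U (V * I) hsI, hUI₂] at e3
  rw [hmid V (U * I) hUI', hVI₂, sup_comm (V * I) (U * I)] at e4
  rw [show Ideal.span {t * y} = Ideal.span {s * x} by rw [hxy]] at e1
  rw [show t * y = s * x from hxy] at c1 c2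
  have n3 : dlen A (U ⊔ V * I) I ≠ ⊤ := b1
  have n4 : dlen A (V ⊔ U * I) I ≠ ⊤ := a1
  rw [e3] at n3
  rw [e4] at n4
  obtain ⟨n3a, n3b⟩ := WithTop.add_ne_top.1 n3
  obtain ⟨-, n4b⟩ := WithTop.add_ne_top.1 n4
  have q := congrArg ENat.toNat (e1.symm.trans e2)
  rw [ENat.toNat_add c1 n3b, ENat.toNat_add d1 n4b] at q
  have r3 := congrArg ENat.toNat e3
  have r4 := congrArg ENat.toNat e4
  rw [ENat.toNat_add n3a n3b] at r3
  rw [ENat.toNat_add n3a n4b] at r4
  simp only [Finset.sum_sub_distrib, mul_sub]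
  rw [hker] at a3
  have q' := congrArg (Nat.cast : ℕ → ℤ) q
  have r3' := congrArg (Nat.cast : ℕ → ℤ) r3
  have r4' := congrArg (Nat.cast : ℕ → ℤ) r4
  push_cast at q' r3' r4'
  linarith

end GrothLib.Tame
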