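import Groth.Agent.Lib.LengthDet
import Mathlib.RingTheory.Ideal.GoingUp
import Mathlib.RingTheory.Spectrum.Maximal.Defs
import Mathlib.LinearAlgebra.Dimension.Finrank
import Mathlib.RingTheory.Length
import Mathlib.RingTheory.OrderOfVanishing.Basic
import Groth.Agent.Lib.CycDiv.Algebra

/-!
Local lengths in finite extensions.
-/

set_option autoImplicit false
universe u

namespace GrothLib.Tame

open GrothLib.LengthDet IsLocalRing

variable {B C : Type u} [CommRing B] [CommRing C] [Algebra B C]

/-- A maximal ideal of a module-finite extension as a point. -/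
abbrev pt (q : Ideal B) [q.IsPrime] : PrimeSpectrum B := ⟨q, inferInstance⟩

theorem locLen_eq_ord' (q : Ideal B) [q.IsPrime] (x : B) :
    locLen (pt q) (B ⧸ Ideal.span {x}) = Ring.ord (Localization.AtPrime q) (algebraMap B (Localization.AtPrime q) x) := by
  rw [locLen, GrothLib.CycDiv.length_localized_quot q (Localization.AtPrime q), Ideal.map_span, Set.image_singleton]
  rfl

theorem locLen_eq_length_of_ann [IsNoetherianRing B] (q : Ideal B) [q.IsMaximal] (M : Type u) [AddCommGroup M]
    [Module B M] [Module.Finite B M] (h : ∀ p ∈ Module.support B M, p = pt q) :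
    Module.length B M = locLen (pt q) M := by
  rw [length_eq_sum (A := B) (M := M) {pt q} (by intro p hp; rw [Finset.mem_singleton] at hp; subst hp; infer_instance)
    (fun p hp => Finset.mem_singleton.2 (h p hp)), Finset.sum_singleton]

theorem finite_maximalSpectrum (A : Type u) [CommRing A] [IsNoetherianRing A] [IsLocalRing A] (B : Type u) [CommRing B]
    [Algebra A B] [Module.Finite A B] : Finite (MaximalSpectrum B) := by
  let I : Ideal B := (maximalIdeal A).map (algebraMap A B)
  letI : Algebra (A ⧸ maximalIdeal A) (B ⧸ I) := Ideal.Quotient.algebraQuotientOfLEComap Ideal.le_comap_map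
  haveI : IsScalarTower A (A ⧸ maximalIdeal A) (B ⧸ I) := IsScalarTower.of_algebraMap_eq fun _ => rfl
  haveI : Module.Finite (A ⧸ maximalIdeal A) (B ⧸ I) := Module.Finite.of_restrictScalars_finite A _ _
  letI : Field (A ⧸ maximalIdeal A) := Ideal.Quotient.field _
  haveI : IsArtinianRing (A ⧸ maximalIdeal A) := inferInstance
  haveI : IsArtinianRing (B ⧸ I) := IsArtinianRing.of_finite (A ⧸ maximalIdeal A) (B ⧸ I)
  have hle : ∀ q : MaximalSpectrum B, I ≤ q.asIdeal := fun q => by
    rw [Ideal.map_le_iff_le_comap]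
    exact (IsLocalRing.eq_maximalIdeal (Ideal.isMaximal_comap_of_isIntegral_of_isMaximal (R := A) q.asIdeal)).ge
  refine Finite.of_injective (β := PrimeSpectrum (B ⧸ I))
    (fun q => ⟨q.asIdeal.map (Ideal.Quotient.mk I), Ideal.isPrime_map_quotientMk_of_isPrime (hle q)⟩) fun q q' h => ?_
  refine MaximalSpectrum.ext ?_
  have := congrArg (fun p : PrimeSpectrum (B ⧸ I) => p.asIdeal.comap (Ideal.Quotient.mk I)) h
  simpa [Ideal.comap_map_mk (hle q), Ideal.comap_map_mk (hle q')] using this

variable [IsNoetherianRing B] [Module.Finite B C]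

/-- The local length at `q` of a module over a finite extension. -/
theorem locLen_fibre [IsNoetherianRing C] (q : Ideal B) [q.IsMaximal] (M : Type u) [AddCommGroup M]
    [Module B M] [Module C M] [IsScalarTower B C M] [Module.Finite C M]
    (hmax : ∀ p ∈ Module.support C M, p.asIdeal.comap (algebraMap B C) ≤ q → p.asIdeal.IsMaximal)
    (T : Finset (PrimeSpectrum C))
    (hT : ∀ Q, Q ∈ T ↔ Q.asIdeal.comap (algebraMap B C) = q) :
    locLen (pt q) M = ∑ Q ∈ T, locLen Q M * Module.length B (C ⧸ Q.asIdeal) := by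
  classical
  revert hmax
  revert ‹Module B M›
  induction ‹Module.Finite C M› using IsNoetherianRing.induction_on_isQuotientEquivQuotientPrime C with
  | subsingleton N =>
    intros
    rw [locLen_zero, Finset.sum_eq_zero fun Q _ => by rw [locLen_zero Q, zero_mul]]
  | quotient N P e =>
    intro hm ht hmax
    have hs : ∀ r, r ∈ Module.support C N ↔ P ≤ r := fun r => by
      rw [e.support_eq, Module.support_eq_zeroLocus, Ideal.annihilator_quotient]
      rfl
    haveI : Module.Finite B (C ⧸ P.asIdeal) := Module.Finite.trans C _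
    have hsuppB : ∀ p ∈ Module.support B (C ⧸ P.asIdeal), P.asIdeal.comap (algebraMap B C) ≤ p.asIdeal := by
      intro p hp b hb
      exact Module.annihilator_le_of_mem_support hp (Module.mem_annihilator.2 fun m => by
        obtain ⟨c, rfl⟩ := Ideal.Quotient.mk_surjective m
        rw [Algebra.smul_def, IsScalarTower.algebraMap_apply B C (C ⧸ P.asIdeal), Ideal.Quotient.algebraMap_eq,
          (Ideal.Quotient.eq_zero_iff_mem (I := P.asIdeal)).2 hb, zero_mul])
    rw [locLen_congr (pt q) (e.restrictScalars B)]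
    by_cases hPq : P.asIdeal.comap (algebraMap B C) ≤ q
    · have hPm : P.asIdeal.IsMaximal := hmax P ((hs P).2 le_rfl) hPq
      haveI := Ideal.isMaximal_comap_of_isIntegral_of_isMaximal (R := B) P.asIdeal
      have hPT : P ∈ T := (hT P).2 ((‹(P.asIdeal.comap (algebraMap B C)).IsMaximal›).eq_of_le (Ideal.IsMaximal.ne_top ‹_›) hPq)
      rw [Finset.sum_eq_single P (fun Q _ hQ => ?_) (fun h => absurd hPT h), locLen_congr P e, locLen_quot_self, one_mul,
        locLen_eq_length_of_ann q (C ⧸ P.asIdeal) fun p hp => PrimeSpectrum.ext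
          ((((hT P).1 hPT).symm ▸ ‹(P.asIdeal.comap (algebraMap B C)).IsMaximal› :
            (q : Ideal B).IsMaximal).eq_of_le p.isPrime.ne_top ((hT P).1 hPT ▸ hsuppB p hp)).symm]
      have hn : Q ∉ Module.support C N := fun h =>
        hQ (PrimeSpectrum.ext (hPm.eq_of_le Q.isPrime.ne_top ((hs Q).mp h))).symm
      haveI := Module.notMem_support_iff.mp hn
      rw [show locLen Q N = 0 from Module.length_eq_zero, zero_mul]
    · rw [Finset.sum_eq_zero fun Q hQ => ?_]
      · have hn : pt q ∉ Module.support B (C ⧸ P.asIdeal) := fun h => hPq (hsuppB _ h)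
        haveI := Module.notMem_support_iff.mp hn
        exact Module.length_eq_zero
      · have hn : Q ∉ Module.support C N := fun h =>
          hPq (((hT Q).1 hQ) ▸ Ideal.comap_mono ((hs Q).mp h))
        haveI := Module.notMem_support_iff.mp hn
        rw [show locLen Q N = 0 from Module.length_eq_zero, zero_mul]
  | exact B₁ B₂ B₃ f g hf hg hfg ih₁ ih₃ =>
    intro hm ht hmax
    have hsup := Module.support_of_exact hfg hf hg
    letI m1 : Module B B₁ := Module.compHom B₁ (algebraMap B C)
    haveI : IsScalarTower B C B₁ := .of_algebraMap_smul fun _ _ => rfl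
    letI m3 : Module B B₃ := Module.compHom B₃ (algebraMap B C)
    haveI : IsScalarTower B C B₃ := .of_algebraMap_smul fun _ _ => rfl
    rw [locLen_add (pt q) (f.restrictScalars B) (g.restrictScalars B) hf hg hfg,
      @ih₁ m1 inferInstance fun Q hQ => hmax Q (hsup ▸ Set.mem_union_left _ hQ),
      @ih₃ m3 inferInstance fun Q hQ => hmax Q (hsup ▸ Set.mem_union_right _ hQ), ← Finset.sum_add_distrib]
    exact Finset.sum_congr rfl fun Q _ => by rw [locLen_add Q f g hf hg hfg, add_mul]

/-- An element regular at all primes over `q` has trivial kernel there. -/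
theorem exists_notMem_mul_eq_zero (q : Ideal B) [q.IsPrime] (y : C)
    (h : ∀ (Q : Ideal C) [Q.IsPrime], Q.comap (algebraMap B C) = q → algebraMap C (Localization.AtPrime Q) y = 0) :
    ∃ t : B, t ∉ q ∧ algebraMap B C t * y = 0 := by
  let I : Ideal C := LinearMap.ker (LinearMap.mulRight C y)
  by_contra! hc
  have hle : I.comap (algebraMap B C) ≤ q := fun t ht => by
    by_contra htq
    exact hc t htq ht
  obtain ⟨Q, hIQ, hQ, hQc⟩ := Ideal.exists_ideal_over_prime_of_isIntegral q I hle
  obtain ⟨⟨t, htQ⟩, ht⟩ := (IsLocalization.map_eq_zero_iff Q.primeCompl (Localization.AtPrime Q) y).1 (h Q hQc)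
  exact htQ (hIQ ht)

omit [Module.Finite B C] [IsNoetherianRing B] in
theorem locLen_eq_add (q : PrimeSpectrum B) {N : Type u} [AddCommGroup N] [Module B N] (P₁ P₂ : Submodule B N)
    (h : P₁ ≤ P₂) : locLen q (N ⧸ P₁) = locLen q (P₂.map P₁.mkQ) + locLen q (N ⧸ P₂) :=
  locLen_add q (P₂.map P₁.mkQ).subtype (Submodule.factor h) Subtype.val_injective (Submodule.factor_surjective h) (by
    rw [LinearMap.exact_iff, Submodule.range_subtype, Submodule.ker_mapQ, Submodule.comap_id])

/-- Local length of `x` in an extension with finite cokernel. -/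
theorem locLen_compare (q : Ideal B) [q.IsPrime] (hinj : Function.Injective (algebraMap B C))
    (hfin : locLen (pt q) (C ⧸ LinearMap.range (Algebra.linearMap B C)) ≠ ⊤) (x : B)
    (hreg : ∀ (Q : Ideal C) [Q.IsPrime], Q.comap (algebraMap B C) = q →
      algebraMap C (Localization.AtPrime Q) (algebraMap B C x) ∈ nonZeroDivisors (Localization.AtPrime Q)) :
    locLen (pt q) (C ⧸ Ideal.span {algebraMap B C x}) = locLen (pt q) (B ⧸ Ideal.span {x}) := by
  set ι := Algebra.linearMap B C
  let m : C →ₗ[B] C := LinearMap.lsmul B C x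
  let xB : Submodule B C := LinearMap.range (m ∘ₗ ι)
  let xC : Submodule B C := LinearMap.range m
  have h1 : xB ≤ xC := LinearMap.range_comp_le_range _ _
  have h2 : xB ≤ LinearMap.range ι := by
    rintro _ ⟨b, rfl⟩
    exact ⟨x * b, by simp [m, ι, Algebra.smul_def]⟩
  -- the image of `B`
  let g : B →ₗ[B] C ⧸ xB := xB.mkQ ∘ₗ ι
  have hg : LinearMap.ker g = Ideal.span {x} := by
    ext b
    simp only [g, LinearMap.mem_ker, LinearMap.comp_apply, Submodule.mkQ_apply, Submodule.Quotient.mk_eq_zero,
      Ideal.mem_span_singleton]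
    constructor
    · rintro ⟨c, hc⟩
      exact ⟨c, hinj (by simpa [m, ι, Algebra.smul_def] using hc.symm)⟩
    · rintro ⟨c, rfl⟩
      exact ⟨c, by simp [m, ι, Algebra.smul_def]⟩
  have eB : locLen (pt q) (B ⧸ Ideal.span {x}) = locLen (pt q) ((LinearMap.range ι).map xB.mkQ) := by
    rw [← hg, ← LinearMap.range_comp]
    exact locLen_congr _ g.quotKerEquivRange
  -- multiplication on the cokernel
  let μ : C ⧸ LinearMap.range ι →ₗ[B] C ⧸ xB := Submodule.mapQ _ _ m (by
    rintro _ ⟨b, rfl⟩
    exact ⟨b, rfl⟩)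
  have hμr : LinearMap.range μ = xC.map xB.mkQ := by
    simp only [μ, Submodule.mapQ]
    rw [Submodule.range_liftQ, LinearMap.range_comp]
  have hμk : locLen (pt q) (LinearMap.ker μ) = 0 := by
    refine Module.length_eq_zero_iff.2 (Module.notMem_support_iff.1 ?_)
    rw [Module.notMem_support_iff']
    rintro ⟨z, hz⟩
    obtain ⟨c, rfl⟩ := Submodule.mkQ_surjective _ z
    obtain ⟨b, hb⟩ := (Submodule.Quotient.mk_eq_zero _).1 (LinearMap.mem_ker.1 hz)
    obtain ⟨t, ht, ht0⟩ := exists_notMem_mul_eq_zero q (c - ι b) fun Q _ hQ => by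
      refine (mul_right_mem_nonZeroDivisors_eq_zero_iff (hreg Q hQ)).1 ?_
      rw [← map_mul]
      have h0 : (c - ι b) * algebraMap B C x = 0 := by
        have hb' : algebraMap B C x * ι b = algebraMap B C x * c := by
          simpa [m, Algebra.smul_def] using hb
        linear_combination -hb'
      rw [h0, map_zero]
    refine ⟨t, ht, Subtype.ext ?_⟩
    show t • (Submodule.mkQ _ c) = 0
    rw [← map_smul, Submodule.mkQ_apply, Submodule.Quotient.mk_eq_zero]
    exact ⟨t * b, by
      simp only [ι, Algebra.linearMap_apply, map_mul, Algebra.smul_def] at ht0 ⊢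
      linear_combination -ht0⟩
  have e1 := locLen_eq_add (pt q) xB xC h1
  have e2 := locLen_eq_add (pt q) xB (LinearMap.range ι) h2
  have e3 : locLen (pt q) (C ⧸ LinearMap.range ι) = locLen (pt q) (xC.map xB.mkQ) := by
    rw [locLen_add (pt q) (LinearMap.ker μ).subtype μ.rangeRestrict Subtype.val_injective
      μ.surjective_rangeRestrict (by rw [LinearMap.exact_iff, Submodule.range_subtype, LinearMap.ker_rangeRestrict]),
      hμk, zero_add, hμr]
  have e4 : locLen (pt q) (C ⧸ Ideal.span {algebraMap B C x}) = locLen (pt q) (C ⧸ xC) := by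
    rw [← locLen_congr _ (Submodule.Quotient.restrictScalarsEquiv B (Ideal.span {algebraMap B C x}))]
    refine locLen_congr _ (Submodule.quotEquivOfEq _ _ ?_)
    ext c
    simp only [Submodule.restrictScalars_mem, Ideal.mem_span_singleton, dvd_iff_exists_eq_mul_right, xC,
      LinearMap.mem_range, m, LinearMap.lsmul_apply, Algebra.smul_def, eq_comm]
  rw [e1, ← e3, ← e4, ← eB, add_comm (locLen (pt q) (B ⧸ Ideal.span {x}))] at e2
  exact (ENat.addLECancellable_of_ne_top hfin).inj.1 e2

end GrothLib.Tame
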