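import Groth.Agent.Lib.Tame.Symbol
import Groth.Agent.Lib.CycPush.Algebra

/-!
The laws of the tame symbol.
-/

set_option autoImplicit false
universe u

namespace GrothLib.Tame

open IsLocalRing CycAlg GrothLib.LengthDet

/-- Elements in all but one of finitely many incomparable primes. -/
theorem exists_separating_family {B : Type u} [CommRing B] (S : Finset (Ideal B)) (hp : ∀ P ∈ S, P.IsPrime)
    (hinc : ∀ P ∈ S, ∀ Q ∈ S, P ≤ Q → P = Q) :
    ∃ g : Ideal B → B, ∀ P ∈ S, g P ∉ P ∧ ∀ Q ∈ S, Q ≠ P → g P ∈ Q := by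
  classical
  have : ∀ P ∈ S, ∃ g : B, g ∉ P ∧ ∀ Q ∈ S, Q ≠ P → g ∈ Q := by
    intro P hP
    have hne : ∀ Q : {Q // Q ∈ S.erase P}, ∃ x ∈ Q.1, x ∉ P := fun Q => SetLike.not_le_iff_exists.1 fun h =>
      (Finset.mem_erase.1 Q.2).1 (hinc Q.1 (Finset.mem_erase.1 Q.2).2 P hP h)
    choose x hxQ hxP using hne
    refine ⟨∏ Q : {Q // Q ∈ S.erase P}, x Q, fun h => ?_, fun Q hQ hne => ?_⟩
    · haveI := hp P hP
      obtain ⟨Q, -, hQ⟩ := Ideal.IsPrime.prod_mem_iff.1 h
      exact hxP Q hQ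
    · exact Q.mem_of_dvd (Finset.dvd_prod_of_mem x (Finset.mem_univ (⟨Q, Finset.mem_erase.2 ⟨hne, hQ⟩⟩ : {Q // Q ∈ S.erase P})))
        (hxQ ⟨Q, Finset.mem_erase.2 ⟨hne, hQ⟩⟩)
  choose! g hg using this
  exact ⟨g, hg⟩

/-- A locally principal ideal of a semilocal ring is principal. -/
theorem exists_generator {B : Type u} [CommRing B] [Finite (MaximalSpectrum B)] (I : Ideal B)
    (h : ∀ q : MaximalSpectrum B, ∃ x ∈ I, ∀ y ∈ I, ∃ s, s ∉ q.asIdeal ∧ s * y ∈ Ideal.span {x}) :
    ∃ t ∈ I, I = Ideal.span {t} := by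
  classical
  haveI := Fintype.ofFinite (MaximalSpectrum B)
  obtain ⟨g, hg⟩ := exists_separating_family ((Finset.univ : Finset (MaximalSpectrum B)).image MaximalSpectrum.asIdeal)
    (fun P hP => by obtain ⟨q, -, rfl⟩ := Finset.mem_image.1 hP; exact q.isMaximal.isPrime)
    (fun P hP Q hQ hle => by
      obtain ⟨q, -, rfl⟩ := Finset.mem_image.1 hP
      obtain ⟨q', -, rfl⟩ := Finset.mem_image.1 hQ
      exact q.isMaximal.eq_of_le q'.isMaximal.ne_top hle)
  choose x hxI hx using h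
  let t := ∑ q : MaximalSpectrum B, g q.asIdeal * x q
  have htI : t ∈ I := sum_mem fun q _ => I.mul_mem_left _ (hxI q)
  refine ⟨t, htI, le_antisymm (fun y hy => ?_) ((Ideal.span_singleton_le_iff_mem _).2 htI)⟩
  refine Submodule.mem_of_localization_maximal (fun P hP => Localization.AtPrime P)
    (fun P hP => Algebra.linearMap B (Localization.AtPrime P)) y (Ideal.span {t}) fun P hP => ?_
  let q : MaximalSpectrum B := ⟨P, hP⟩
  change algebraMap B (Localization.AtPrime q.asIdeal) y ∈ _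
  set φ := algebraMap B (Localization.AtPrime q.asIdeal)
  have hdvd : ∀ z ∈ I, φ (x q) ∣ φ z := fun z hz => by
    obtain ⟨s, hs, hsz⟩ := hx q z hz
    have hu : IsUnit (φ s) := IsLocalization.map_units _ (⟨s, hs⟩ : q.asIdeal.primeCompl)
    rw [← hu.dvd_mul_left, ← map_mul]
    exact map_dvd φ (Ideal.mem_span_singleton.1 hsz)
  have hrest : ∃ r ∈ maximalIdeal (Localization.AtPrime q.asIdeal),
      φ (∑ q' ∈ Finset.univ.erase q, g q'.asIdeal * x q') = r * φ (x q) := by
    choose z hz using fun q' : MaximalSpectrum B => hdvd _ (hxI q')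
    refine ⟨∑ q' ∈ Finset.univ.erase q, φ (g q'.asIdeal) * z q', sum_mem fun q' hq' => Ideal.mul_mem_right _ _ ?_, ?_⟩
    · rw [IsLocalization.AtPrime.to_map_mem_maximal_iff _ q.asIdeal]
      exact (hg _ (Finset.mem_image_of_mem _ (Finset.mem_univ q'))).2 _ (Finset.mem_image_of_mem _ (Finset.mem_univ q))
        fun he => Finset.ne_of_mem_erase hq' (MaximalSpectrum.ext he.symm)
    · rw [map_sum, Finset.sum_mul]
      exact Finset.sum_congr rfl fun q' _ => by rw [map_mul, hz q']; ring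
  obtain ⟨r, hr, hre⟩ := hrest
  have hgu : IsUnit (φ (g q.asIdeal)) := IsLocalization.map_units _
    (⟨g q.asIdeal, (hg _ (Finset.mem_image_of_mem _ (Finset.mem_univ q))).1⟩ : q.asIdeal.primeCompl)
  have hu : IsUnit (φ (g q.asIdeal) + r) := by
    by_contra hn
    exact (mem_maximalIdeal _).1 (by simpa using Ideal.sub_mem _ ((mem_maximalIdeal _).2 hn) hr) hgu
  obtain ⟨z, hz⟩ := hdvd y hy
  have ht : φ t = (φ (g q.asIdeal) + r) * φ (x q) := by
    rw [show t = g q.asIdeal * x q + ∑ q' ∈ Finset.univ.erase q, g q'.asIdeal * x q' from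
      (Finset.add_sum_erase _ (fun q' : MaximalSpectrum B => g q'.asIdeal * x q') (Finset.mem_univ q)).symm,
      map_add, hre, map_mul]
    ring
  rw [hz, show φ (x q) * z = (z * ↑hu.unit⁻¹) * φ t by
    rw [ht]; linear_combination (-(φ (x q) * z)) * hu.val_inv_mul]
  obtain ⟨⟨w, s⟩, hws⟩ := IsLocalization.surj q.asIdeal.primeCompl (z * ↑hu.unit⁻¹)
  rw [Submodule.mem_localized₀]
  refine ⟨w * t, Ideal.mem_span_singleton.2 ⟨w, mul_comm _ _⟩, s, ?_⟩
  rw [IsLocalizedModule.mk'_eq_iff, Algebra.linearMap_apply, Submonoid.smul_def, Algebra.smul_def, map_mul, ← hws]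
  ring

variable {A : Type u} [CommRing A] [IsNoetherianRing A] [IsLocalRing A] [Ring.KrullDimLE 1 A]
variable {C : Type u} [CommRing C] [Algebra A C] [Module.Finite A C]

omit [IsNoetherianRing A] [Ring.KrullDimLE 1 A] in
theorem PowAt.nu_mul {q : Ideal C} [q.IsMaximal] {π x y : C} {e e' : ℕ} (h : PowAt q π x e) (h' : PowAt q π y e')
    (h'' : PowAt q π (x * y) (e + e'))
    (hreg : algebraMap C (Localization.AtPrime q) π ∈ nonZeroDivisors (Localization.AtPrime q)) :
    h''.nu (A := A) = h.nu * h'.nu := by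
  obtain ⟨s, c, hs, hc, hx⟩ := id h
  obtain ⟨s', c', hs', hc', hy⟩ := id h'
  rw [h''.nu_eq hreg (s * s') (c * c') (fun hm => (q.primeCompl.mul_mem hs hs') hm)
      (by rw [pow_add]; linear_combination (s' * y) * hx + (c * π ^ e) * hy),
    h.nu_eq hreg s c hs hx, h'.nu_eq hreg s' c' hs' hy, map_mul, map_mul, mul_div_mul_comm]

/-- Common parameters for some elements of `A`. -/
structure Frame (A C : Type u) [CommRing A] [CommRing C] [Algebra A C] (F : Set A) where
  π : MaximalSpectrum C → C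
  reg : ∀ q, algebraMap C (Localization.AtPrime q.asIdeal) (π q) ∈ nonZeroDivisors (Localization.AtPrime q.asIdeal)
  exp : A → MaximalSpectrum C → ℕ
  pow : ∀ f ∈ F, ∀ q, PowAt q.asIdeal (π q) (algebraMap A C f) (exp f q)

/-- The data of a pair in a frame. -/
def Frame.data {F : Set A} (Φ : Frame A C F) {f g : A} (hf : f ∈ F) (hg : g ∈ F) : Data A C f g :=
  ⟨Φ.π, Φ.reg, Φ.exp f, Φ.exp g, Φ.pow f hf, Φ.pow g hg⟩

theorem exists_frame (F : Finset A) (hF : ∀ f ∈ F, f ∈ nonZeroDivisors A) :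
    ∃ (C : Type u) (_ : CommRing C) (_ : Algebra A C), Module.Finite A C ∧ IsFinExt A C (maximalIdeal A) ∧
      Nonempty (Frame A C (F : Set A)) := by
  classical
  obtain ⟨C, _, _, hfin, hC, hπ⟩ := exists_common F hF
  choose π hreg hfac using hπ
  choose! e he using hfac
  exact ⟨C, inferInstance, inferInstance, hfin, hC, ⟨⟨π, hreg, fun f q => e q f, fun f hf q => he q f hf⟩⟩⟩

theorem finrank_eq_length (q : Ideal C) [q.IsMaximal] :
    Module.length A (C ⧸ q) = Module.finrank (A ⧸ maximalIdeal A) (C ⧸ q) := by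
  letI : Field (A ⧸ maximalIdeal A) := Ideal.Quotient.field _
  haveI := finite_quot (A := A) q
  rw [Module.length_eq_of_surjective (S := A) (R := A ⧸ maximalIdeal A) Ideal.Quotient.mk_surjective,
    Module.length_eq_finrank]

/-- The length of `A/bA` from a frame. -/
theorem length_eq_sum_frame [Fintype (MaximalSpectrum C)] (hC : IsFinExt A C (maximalIdeal A)) (π : MaximalSpectrum C → C)
    (hreg : ∀ q, algebraMap C (Localization.AtPrime q.asIdeal) (π q) ∈ nonZeroDivisors (Localization.AtPrime q.asIdeal))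
    (e : MaximalSpectrum C → ℕ) {b : A} (hb : b ∈ nonZeroDivisors A)
    (he : ∀ q, PowAt q.asIdeal (π q) (algebraMap A C b) (e q)) :
    (Module.length A (A ⧸ Ideal.span {b})).toNat = ∑ q : MaximalSpectrum C,
      Module.finrank (A ⧸ maximalIdeal A) (C ⧸ q.asIdeal) *
        (e q * (Ring.ord (Localization.AtPrime q.asIdeal) (algebraMap C (Localization.AtPrime q.asIdeal) (π q))).toNat) := by
  classical
  haveI : IsNoetherianRing C := IsNoetherianRing.of_finite A C
  have hbC : algebraMap A C b ∈ nonZeroDivisors C := mem_nonZeroDivisors_of_local fun m hm => by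
    obtain ⟨v, hv⟩ := (he ⟨m, hm⟩).image
    rw [hv]
    exact mul_mem v.isUnit.mem_nonZeroDivisors (pow_mem (hreg ⟨m, hm⟩) _)
  by_cases hbu : IsUnit b
  · rw [Ideal.span_singleton_eq_top.2 hbu, Module.length_eq_zero, ENat.toNat_zero]
    refine (Finset.sum_eq_zero fun q _ => ?_).symm
    by_cases hπ : π q ∈ q.asIdeal
    · obtain ⟨s, c, hs, -, h⟩ := he q
      rcases Nat.eq_zero_or_pos (e q) with h0 | h0
      · simp [h0]
      · exfalso
        have : s * algebraMap A C b ∈ q.asIdeal := h ▸ q.asIdeal.mul_mem_left c (q.asIdeal.pow_mem_of_mem hπ _ h0)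
        exact hs ((q.isMaximal.isPrime.mem_or_mem this).resolve_right fun hm =>
          q.isMaximal.ne_top (q.asIdeal.eq_top_of_isUnit_mem hm (hbu.map _)))
    · rw [Ring.ord_of_isUnit (IsLocalization.map_units (Localization.AtPrime q.asIdeal) (⟨π q, hπ⟩ : q.asIdeal.primeCompl))]
      simp
  have hbm : b ∈ maximalIdeal A := (mem_maximalIdeal _).2 hbu
  obtain ⟨n, hn⟩ := hC.2.2
  have hfinq : Module.length A (C ⧸ LinearMap.range (Algebra.linearMap A C)) ≠ ⊤ := by
    refine length_quot_ne_top _ (pow_mem hb n) fun c => ?_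
    obtain ⟨y, hy⟩ := hn _ (Ideal.pow_mem_pow hbm n) c
    exact ⟨y, hy⟩
  have hA1 : locLen (pt (maximalIdeal A)) (A ⧸ Ideal.span {b}) = Module.length A (A ⧸ Ideal.span {b}) := by
    refine (locLen_eq_length_of_ann _ _ fun p hp => PrimeSpectrum.ext ?_).symm
    exact IsLocalRing.eq_maximalIdeal (isMaximal_of_mem_support ((Ring.ord_ne_top hb).lt_top) p hp)
  have hfinC : Module.length A (C ⧸ Ideal.span {algebraMap A C b}) ≠ ⊤ := by
    refine (Submodule.Quotient.restrictScalarsEquiv A (Ideal.span {algebraMap A C b})).length_eq ▸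
      length_quot_ne_top _ hb fun c => ?_
    rw [Submodule.restrictScalars_mem, Algebra.smul_def]
    exact Ideal.mul_mem_right _ _ (Ideal.mem_span_singleton_self _)
  have hA2 : locLen (pt (maximalIdeal A)) (C ⧸ Ideal.span {algebraMap A C b}) =
      Module.length A (C ⧸ Ideal.span {algebraMap A C b}) := by
    refine (locLen_eq_length_of_ann _ _ fun p hp => PrimeSpectrum.ext ?_).symm
    exact IsLocalRing.eq_maximalIdeal (isMaximal_of_mem_support hfinC.lt_top p hp)
  have hle : locLen (pt (maximalIdeal A)) (C ⧸ LinearMap.range (Algebra.linearMap A C)) ≠ ⊤ := by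
    rw [← locLen_eq_length_of_ann (maximalIdeal A) (C ⧸ LinearMap.range (Algebra.linearMap A C))
      (fun p hp => PrimeSpectrum.ext (IsLocalRing.eq_maximalIdeal (isMaximal_of_mem_support hfinq.lt_top p hp)))]
    exact hfinq
  have hcmp := locLen_compare (maximalIdeal A) hC.1 hle b fun Q hQ _ =>
    IsLocalization.map_nonZeroDivisors_le Q.primeCompl _ (Submonoid.mem_map_of_mem _ hbC)
  rw [hA1, hA2] at hcmp
  let T : Finset (PrimeSpectrum C) := (Finset.univ : Finset (MaximalSpectrum C)).image fun q => pt q.asIdeal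
  have hsum := CycPush.length_eq_sum_mul (A := A) (C ⧸ Ideal.span {algebraMap A C b}) T
    (by intro p hp; obtain ⟨q, -, rfl⟩ := Finset.mem_image.1 hp; exact q.isMaximal)
    (fun p hp => Finset.mem_image.2 ⟨⟨p.asIdeal, isMaximal_of_mem_support
      (lt_of_le_of_lt (by
        have h := Submodule.length_le_length_restrictScalars A (⊤ : Submodule C (C ⧸ Ideal.span {algebraMap A C b}))
        rwa [Submodule.restrictScalars_top, Module.length_top, Module.length_top] at h) hfinC.lt_top) p hp⟩,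
      Finset.mem_univ _, rfl⟩)
  have hterm : ∀ q : MaximalSpectrum C, locLen (pt q.asIdeal) (C ⧸ Ideal.span {algebraMap A C b}) =
      (e q : ℕ∞) * ((Ring.ord (Localization.AtPrime q.asIdeal) (algebraMap C _ (π q))).toNat : ℕ∞) := fun q => by
    haveI := krullDimLE_localization (A := A) q.asIdeal
    haveI : IsNoetherianRing (Localization.AtPrime q.asIdeal) := IsLocalization.isNoetherianRing q.asIdeal.primeCompl _ inferInstance
    obtain ⟨v, hv⟩ := (he q).image
    rw [locLen_eq_ord', hv, Ring.ord_mul_of_isUnit_left v.isUnit, Ring.ord_pow (hreg q), nsmul_eq_mul,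
      ENat.natCast_toNat (Ring.ord_ne_top (hreg q))]
  rw [← hcmp, hsum, Finset.sum_image (fun x _ y _ h => MaximalSpectrum.ext (congrArg PrimeSpectrum.asIdeal h)),
    Finset.sum_congr rfl (fun q _ => by rw [hterm q, finrank_eq_length q.asIdeal, ← Nat.cast_mul, ← Nat.cast_mul]),
    ← Nat.cast_sum, ENat.toNat_coe]
  exact Finset.sum_congr rfl fun q _ => mul_comm _ _

theorem steinberg_lt {K : Type u} [Field K] (n x y : K) (hx : x ≠ 0) (hy : y ≠ 0) (hn : n * n = 1) (e f : ℕ) :
    n ^ (e * e) * x ^ e * ((n * x) ^ e)⁻¹ * (n ^ (f * f) * y ^ f * (y ^ f)⁻¹) =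
      n ^ (f * e) * y ^ e * ((n * x) ^ f)⁻¹ * (n ^ (e * f) * x ^ f * (y ^ e)⁻¹) := by
  have hn0 : n ≠ 0 := left_ne_zero_of_mul_eq_one hn
  have hev : ∀ k, Even k → n ^ k = 1 := fun k ⟨m, hm⟩ => by
    rw [hm, ← two_mul, pow_mul, sq, hn, one_pow]
  have h1 : n ^ (e * e + f * f + (f + e)) = 1 := hev _ (by
    rw [show e * e + f * f + (f + e) = e * (e + 1) + f * (f + 1) by ring]
    exact (Nat.even_mul_succ_self e).add (Nat.even_mul_succ_self f))
  have h2 : n ^ (f * e + e * f + (e + e)) = 1 := hev _ ⟨f * e + e, by ring⟩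
  rw [mul_pow, mul_pow]
  field_simp
  simp only [← pow_add, ← mul_assoc]
  have h3 : n ^ (e * e + f * f + f) = n ^ (f * e + e * f + e) := by
    have : n ^ (e * e + f * f + f) * n ^ e = n ^ (f * e + e * f + e) * n ^ e := by
      rw [← pow_add, ← pow_add, add_assoc, h1, add_assoc, h2]
    exact mul_right_cancel₀ (pow_ne_zero _ hn0) this
  ring_nf at h3 ⊢
  first | linear_combination h3 | linear_combination x ^ f * h3 | linear_combination (y ^ f * x ^ f) * h3

variable {F : Set A} (Φ : Frame A C F)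

omit [IsNoetherianRing A] [Ring.KrullDimLE 1 A] in
/-- Multiplicativity of the local symbols. -/
theorem Frame.sym_mul {f f' g : A} (hf : f ∈ F) (hf' : f' ∈ F) (hff' : f * f' ∈ F) (hg : g ∈ F)
    (hmem : ∀ q, Φ.π q ∈ q.asIdeal) (q : MaximalSpectrum C) :
    (Φ.data hff' hg).sym q = (Φ.data hf hg).sym q * (Φ.data hf' hg).sym q ∧
    (Φ.data hg hff').sym q = (Φ.data hg hf).sym q * (Φ.data hg hf').sym q := by
  have hp : PowAt q.asIdeal (Φ.π q) (algebraMap A C f * algebraMap A C f') (Φ.exp f q + Φ.exp f' q) :=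
    (Φ.pow f hf q).mul (Φ.pow f' hf' q)
  have he := powAt_unique (hmem q) (Φ.reg q) (Φ.pow _ hff' q) (by rw [map_mul]; exact hp)
  have hnu : (Φ.pow _ hff' q).nu (A := A) = (Φ.pow f hf q).nu * (Φ.pow f' hf' q).nu := by
    obtain ⟨s, c, hs, hc, hx⟩ := id hp
    rw [(Φ.pow _ hff' q).nu_eq (Φ.reg q) s c hs (by rw [map_mul, he]; exact hx), ← hp.nu_eq (Φ.reg q) s c hs hx,
      PowAt.nu_mul _ _ hp (Φ.reg q)]
  simp only [Frame.data, Data.sym, hnu]
  rw [he]
  constructor <;> simp only [mul_pow, pow_add, mul_inv, add_mul, mul_add] <;> ring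

omit [IsNoetherianRing A] [Ring.KrullDimLE 1 A] in
theorem neg_one_sq_nrm (q : Ideal C) [q.IsMaximal] : nrm (A := A) q (-1) * nrm q (-1) = 1 := by
  rw [← map_mul, neg_one_mul, neg_neg, map_one]

omit [IsNoetherianRing A] [Ring.KrullDimLE 1 A] in
theorem neg_one_pow_sq (q : Ideal C) [q.IsMaximal] (e : ℕ) : nrm (A := A) q (-1) ^ (e * e) = nrm q (-1) ^ e := by
  rcases Nat.even_or_odd e with ⟨k, hk⟩ | ⟨k, hk⟩
  · rw [hk, ← two_mul, mul_assoc, pow_mul, sq, neg_one_sq_nrm, one_pow, pow_mul, sq, neg_one_sq_nrm, one_pow]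
  · rw [hk, show (2 * k + 1) * (2 * k + 1) = (2 * k + 1) + 2 * (k * (2 * k + 1)) by ring, pow_add _ (2 * k + 1),
      pow_mul _ 2 (k * (2 * k + 1)), sq, neg_one_sq_nrm, one_pow, mul_one]

omit [IsNoetherianRing A] [Ring.KrullDimLE 1 A] in
/-- The local identity behind `∂(a, b - a)`. -/
theorem Frame.sym_steinberg {f g h : A} (hf : f ∈ F) (hg : g ∈ F) (hh : h ∈ F) (hsub : h = g - f)
    (hmem : ∀ q, Φ.π q ∈ q.asIdeal) (q : MaximalSpectrum C) :
    (Φ.data hf hh).sym q * (Φ.data hg hg).sym q = (Φ.data hg hh).sym q * (Φ.data hf hg).sym q := by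
  have hprime := q.isMaximal.isPrime
  obtain ⟨sf, cf, hsf, hcf, hxf⟩ := id (Φ.pow f hf q)
  obtain ⟨sg, cg, hsg, hcg, hxg⟩ := id (Φ.pow g hg q)
  have hnf := (Φ.pow f hf q).nu_eq (A := A) (Φ.reg q) sf cf hsf hxf
  have hng := (Φ.pow g hg q).nu_eq (A := A) (Φ.reg q) sg cg hsg hxg
  have hsfg : sf * sg ∉ q.asIdeal := fun hm => (q.asIdeal.primeCompl.mul_mem hsf hsg) hm
  set n := nrm (A := A) q.asIdeal (-1) with hn
  have hn0 : n ≠ 0 := fun h0 => one_ne_zero (α := ResidueField A) (by rw [← neg_one_sq_nrm (A := A) q.asIdeal, ← hn, h0, zero_mul])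
  set x := (Φ.pow f hf q).nu (A := A) with hxdef
  set y := (Φ.pow g hg q).nu (A := A) with hydef
  set z := (Φ.pow h hh q).nu (A := A) with hzdef
  have hx0 : x ≠ 0 := (Φ.pow f hf q).nu_ne_zero
  have hy0 : y ≠ 0 := (Φ.pow g hg q).nu_ne_zero
  have hz0 : z ≠ 0 := (Φ.pow h hh q).nu_ne_zero
  simp only [Frame.data, Data.sym, ← hn, ← hxdef, ← hydef, ← hzdef]
  rcases lt_trichotomy (Φ.exp f q) (Φ.exp g q) with hlt | heq | hgt
  · obtain ⟨d, hd⟩ := Nat.exists_eq_add_of_lt hlt
    have hc : sf * cg * Φ.π q ^ (d + 1) - sg * cf ∉ q.asIdeal := fun hm => by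
      have hm' : sg * cf ∈ q.asIdeal := by
        simpa using q.asIdeal.sub_mem (q.asIdeal.mul_mem_left (sf * cg) (q.asIdeal.pow_mem_of_mem (hmem q) _ d.succ_pos)) hm
      exact (q.asIdeal.primeCompl.mul_mem hsg hcf) hm'
    have hrep : sf * sg * algebraMap A C h = (sf * cg * Φ.π q ^ (d + 1) - sg * cf) * Φ.π q ^ Φ.exp f q := by
      rw [hsub, map_sub]
      rw [hd, show Φ.exp f q + d + 1 = (d + 1) + Φ.exp f q by ring, pow_add] at hxg
      linear_combination sf * hxg - sg * hxf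
    have he := powAt_unique (hmem q) (Φ.reg q) (Φ.pow h hh q) ⟨_, _, hsfg, hc, hrep⟩
    have hz : z = n * x := by
      rw [hzdef, (Φ.pow h hh q).nu_eq (Φ.reg q) _ _ hsfg (by rw [he]; exact hrep),
        nrm_congr q.asIdeal (z := -1 * (sg * cf)) (by
          rw [show sf * cg * Φ.π q ^ (d + 1) - sg * cf - -1 * (sg * cf) = (sf * cg) * Φ.π q ^ (d + 1) by ring]
          exact q.asIdeal.mul_mem_left _ (q.asIdeal.pow_mem_of_mem (hmem q) _ d.succ_pos)),
        hnf, map_mul, map_mul, map_mul, ← hn]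
      have := nrm_ne_zero (A := A) q.asIdeal hsg
      field_simp
    rw [he, hz]
    exact steinberg_lt n x y hx0 hy0 (neg_one_sq_nrm q.asIdeal) _ _
  · by_cases he : Φ.exp h q = Φ.exp f q
    · rw [he, ← heq]
      field_simp
    · have hz : sf * cg - sg * cf ∈ q.asIdeal := by
        obtain ⟨sh, ch, hsh, hch, hxh⟩ := id (Φ.pow h hh q)
        have hrep : sh * (sf * cg - sg * cf) * Φ.π q ^ Φ.exp f q = sf * sg * ch * Φ.π q ^ Φ.exp h q := by
          rw [show algebraMap A C h = algebraMap A C g - algebraMap A C f by rw [hsub, map_sub]] at hxh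
          rw [← heq] at hxg
          linear_combination (sf * sg) * hxh - (sf * sh) * hxg + (sg * sh) * hxf
        by_contra hnm
        have h1 : (1 : C) ∉ q.asIdeal := fun h1 => q.isMaximal.ne_top ((Ideal.eq_top_iff_one _).2 h1)
        exact he (powAt_unique (x := sf * sg * ch * Φ.π q ^ Φ.exp h q) (hmem q) (Φ.reg q)
          ⟨1, sf * sg * ch, h1, fun hm => (q.asIdeal.primeCompl.mul_mem (q.asIdeal.primeCompl.mul_mem hsf hsg) hch) hm,
            one_mul _⟩
          ⟨1, sh * (sf * cg - sg * cf), h1, fun hm => (q.asIdeal.primeCompl.mul_mem hsh hnm) hm, by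
            rw [one_mul, hrep]⟩)
      have hxy : x = y := by
        rw [hnf, hng, div_eq_div_iff (nrm_ne_zero _ hsf) (nrm_ne_zero _ hsg), ← map_mul, ← map_mul]
        refine (nrm_congr q.asIdeal ?_).symm
        simpa [mul_comm] using hz
      rw [← heq, hxy]
  · obtain ⟨d, hd⟩ := Nat.exists_eq_add_of_lt hgt
    have hc : sf * cg - sg * cf * Φ.π q ^ (d + 1) ∉ q.asIdeal := fun hm => by
      have hm' : sf * cg ∈ q.asIdeal := by
        simpa using q.asIdeal.add_mem hm (q.asIdeal.mul_mem_left (sg * cf) (q.asIdeal.pow_mem_of_mem (hmem q) _ d.succ_pos))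
      exact (q.asIdeal.primeCompl.mul_mem hsf hcg) hm'
    have hrep : sf * sg * algebraMap A C h = (sf * cg - sg * cf * Φ.π q ^ (d + 1)) * Φ.π q ^ Φ.exp g q := by
      rw [hsub, map_sub]
      rw [hd, show Φ.exp g q + d + 1 = (d + 1) + Φ.exp g q by ring, pow_add] at hxf
      linear_combination sf * hxg - sg * hxf
    have he := powAt_unique (hmem q) (Φ.reg q) (Φ.pow h hh q) ⟨_, _, hsfg, hc, hrep⟩
    have hz : z = y := by
      rw [hzdef, (Φ.pow h hh q).nu_eq (Φ.reg q) _ _ hsfg (by rw [he]; exact hrep),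
        nrm_congr q.asIdeal (z := sf * cg) (by
          rw [show sf * cg - sg * cf * Φ.π q ^ (d + 1) - sf * cg = (-(sg * cf)) * Φ.π q ^ (d + 1) by ring]
          exact q.asIdeal.mul_mem_left _ (q.asIdeal.pow_mem_of_mem (hmem q) _ d.succ_pos)),
        hng, map_mul, map_mul]
      have := nrm_ne_zero (A := A) q.asIdeal hsf
      field_simp
    rw [he, hz]
    field_simp

end GrothLib.Tame
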