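import Groth.Agent.Lib.Tame.Uniformizer
import Mathlib.RingTheory.Spectrum.Maximal.Defs
import Mathlib.RingTheory.Adjoin.FG

/-!
Finite extensions in which finitely many elements are, at each maximal ideal, powers of one parameter.
-/

set_option autoImplicit false
universe u

namespace GrothLib.Tame

open IsLocalRing

/-- At `q`, the element `x` is a unit times `π ^ e`. -/
def PowAt {B : Type*} [CommRing B] (q : Ideal B) (π x : B) (e : ℕ) : Prop :=
  ∃ s c : B, s ∉ q ∧ c ∉ q ∧ s * x = c * π ^ e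

/-- At `q`, the element `x` is nilpotent. -/
def NilAt {B : Type*} [CommRing B] (q : Ideal B) (x : B) : Prop :=
  ∃ t : B, t ∉ q ∧ IsNilpotent (t * x)

theorem PowAt.image {B : Type*} [CommRing B] {q : Ideal B} [q.IsPrime] {π x : B} {e : ℕ}
    (h : PowAt q π x e) : ∃ v : (Localization.AtPrime q)ˣ,
      algebraMap B (Localization.AtPrime q) x = v * algebraMap B (Localization.AtPrime q) π ^ e := by
  obtain ⟨s, c, hs, hc, h⟩ := h
  have hs' : IsUnit (algebraMap B (Localization.AtPrime q) s) :=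
    IsLocalization.map_units _ (⟨s, hs⟩ : q.primeCompl)
  have hc' : IsUnit (algebraMap B (Localization.AtPrime q) c) :=
    IsLocalization.map_units _ (⟨c, hc⟩ : q.primeCompl)
  refine ⟨hs'.unit⁻¹ * hc'.unit, hs'.mul_left_cancel ?_⟩
  rw [← map_mul, h, map_mul, map_pow, Units.val_mul, IsUnit.unit_spec, ← mul_assoc, ← mul_assoc,
    IsUnit.mul_val_inv, one_mul]

theorem PowAt.ne_zero_exp {B : Type*} [CommRing B] {q : Ideal B} [q.IsPrime] {π x : B} {e : ℕ}
    (h : PowAt q π x e) (hx : x ∈ q) : e ≠ 0 ∧ π ∈ q := by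
  obtain ⟨s, c, -, hc, h⟩ := h
  have hm : c * π ^ e ∈ q := h ▸ q.mul_mem_left s hx
  have hp : π ^ e ∈ q := (Ideal.IsPrime.mem_or_mem ‹_› hm).resolve_left hc
  refine ⟨fun he => ?_, Ideal.IsPrime.mem_of_pow_mem ‹_› _ hp⟩
  rw [he, pow_zero] at hp
  exact Ideal.IsPrime.ne_top ‹_› ((Ideal.eq_top_iff_one _).2 hp)

theorem PowAt.regular {B : Type*} [CommRing B] {q : Ideal B} [q.IsPrime] {π x : B} {e : ℕ}
    (h : PowAt q π x e) (hxq : x ∈ q) (hx : x ∈ nonZeroDivisors B) :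
    algebraMap B (Localization.AtPrime q) π ∈ nonZeroDivisors (Localization.AtPrime q) := by
  obtain ⟨e', rfl⟩ : ∃ e', e = e' + 1 := ⟨e - 1, by have := (h.ne_zero_exp hxq).1; omega⟩
  obtain ⟨v, hv⟩ := h.image
  have hm : algebraMap B (Localization.AtPrime q) x ∈ nonZeroDivisors (Localization.AtPrime q) :=
    IsLocalization.map_nonZeroDivisors_le q.primeCompl _ (Submonoid.mem_map_of_mem _ hx)
  rw [hv, pow_succ, ← mul_assoc] at hm
  exact (mul_mem_nonZeroDivisors.1 hm).2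

variable {A : Type u} [CommRing A] [IsNoetherianRing A] [IsLocalRing A] [Ring.KrullDimLE 1 A]
  {a : A} (ha : a ∈ nonZeroDivisors A) (ham : a ∈ maximalIdeal A)
  (L : Type u) [CommRing L] [Algebra A L] [IsLocalization.Away a L]

include ha ham in
theorem exists_prep (S : Set L) (hS : S.Finite) (hint : ∀ x ∈ S, IsIntegral A x) :
    ∃ B : Subalgebra A L, Module.Finite A B ∧ S ⊆ B ∧ algebraMap A L a ∈ B ∧
      ∀ (q : Ideal B) [q.IsMaximal], ∃ π : B, π ∈ q ∧
        algebraMap B (Localization.AtPrime q) π ∈ nonZeroDivisors (Localization.AtPrime q) ∧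
        (∃ e, 0 < e ∧ PowAt q π (algebraMap A B a) e) ∧
        ∀ x : B, (x : L) ∈ S → NilAt q x ∨ ∃ e, PowAt q π x e := by
  classical
  let A' := integralClosure A L
  let S' := (insert (algebraMap A L a) S)
  have hS' : S'.Finite := hS.insert _
  haveI : Fintype S' := hS'.fintype
  let el : S' → A' := fun x => ⟨x.1, by
    rcases x.2 with h | h
    · exact h ▸ Subalgebra.algebraMap_mem _ _
    · exact hint _ h⟩
  have hQ : ∀ Q : MaximalSpectrum A', ∃ (π : A') (W : S' → A') (V : Finset A'), π ∈ V ∧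
      (∀ x, W x ∉ Q.asIdeal) ∧ (∀ x, W x ∈ V) ∧ ∀ x,
        ((∃ t ∈ V, t = W x ∧ IsNilpotent (t * el x)) ∨ ∃ s ∈ V, ∃ c ∈ V, ∃ e : ℕ,
          W x = s * c ∧ s * el x = c * π ^ e) := by
    intro Q
    obtain ⟨π0, -, -, hfac⟩ := exists_uniformizer ha ham L Q.asIdeal
    obtain ⟨⟨p, s0⟩, hp⟩ := IsLocalization.surj Q.asIdeal.primeCompl π0
    have hs0 := IsLocalization.map_units (Localization.AtPrime Q.asIdeal) s0
    have hx : ∀ x, (∃ t : A', t ∉ Q.asIdeal ∧ IsNilpotent (t * el x)) ∨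
        ∃ (s c : A') (e : ℕ), s ∉ Q.asIdeal ∧ c ∉ Q.asIdeal ∧ s * el x = c * p ^ e := by
      intro x
      rcases hfac (algebraMap A' _ (el x)) with ⟨n, hn⟩ | ⟨v, e, he⟩
      · rw [← map_pow] at hn
        obtain ⟨t, ht⟩ := (IsLocalization.map_eq_zero_iff Q.asIdeal.primeCompl _ _).1 hn
        exact Or.inl ⟨t, t.2, n + 1, by rw [mul_pow, pow_succ, pow_succ,
          show (t : A') ^ n * t * (el x ^ n * el x) = ((t : A') * el x ^ n) * ((t : A') ^ n * el x) by ring,
          ht, zero_mul]⟩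
      · obtain ⟨⟨c, s⟩, hcs⟩ := IsLocalization.surj Q.asIdeal.primeCompl (v : Localization.AtPrime Q.asIdeal)
        have hc : c ∉ Q.asIdeal := fun h => by
          have : IsUnit ((v : Localization.AtPrime Q.asIdeal) * algebraMap A' _ (s : A')) :=
            v.isUnit.mul (IsLocalization.map_units _ s)
          rw [hcs, IsLocalization.AtPrime.isUnit_to_map_iff _ Q.asIdeal] at this
          exact this h
        have heq : algebraMap A' (Localization.AtPrime Q.asIdeal) ((s : A') * (s0 : A') ^ e * el x) =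
            algebraMap A' _ (c * p ^ e) := by
          rw [map_mul, map_mul, map_pow, he, map_mul, map_pow, ← hcs, ← hp, mul_pow]
          ring
        obtain ⟨t, ht⟩ := (IsLocalization.eq_iff_exists Q.asIdeal.primeCompl _).1 heq
        refine Or.inr ⟨(t : A') * ((s : A') * (s0 : A') ^ e), (t : A') * c, e, ?_, ?_, ?_⟩
        · exact fun h => (Q.asIdeal.primeCompl.mul_mem t.2 (Q.asIdeal.primeCompl.mul_mem s.2 (Q.asIdeal.primeCompl.pow_mem s0.2 e))) h
        · exact fun h => (Q.asIdeal.primeCompl.mul_mem t.2 hc) h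
        · rw [mul_assoc, ht, mul_assoc]
    have hx' : ∀ x, ∃ (w : A') (F : Finset A'), w ∉ Q.asIdeal ∧ w ∈ F ∧
        ((∃ t ∈ F, t = w ∧ IsNilpotent (t * el x)) ∨ ∃ s ∈ F, ∃ c ∈ F, ∃ e : ℕ,
          w = s * c ∧ s * el x = c * p ^ e) := by
      intro x
      rcases hx x with ⟨t, ht, hn⟩ | ⟨s, c, e, hs, hc, h⟩
      · exact ⟨t, {t}, ht, Finset.mem_singleton_self _, Or.inl ⟨t, Finset.mem_singleton_self _, rfl, hn⟩⟩
      · exact ⟨s * c, {s, c, s * c}, fun h' => (Q.asIdeal.primeCompl.mul_mem hs hc) h', by simp,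
          Or.inr ⟨s, by simp, c, by simp, e, rfl, h⟩⟩
    choose w F hw hwF hF using hx'
    have hsub : ∀ x, F x ⊆ insert p (Finset.univ.biUnion F) := fun x y hy =>
      Finset.mem_insert_of_mem (Finset.mem_biUnion.2 ⟨x, Finset.mem_univ _, hy⟩)
    refine ⟨p, w, insert p (Finset.univ.biUnion F), Finset.mem_insert_self _ _, hw,
      fun x => hsub x (hwF x), fun x => ?_⟩
    rcases hF x with ⟨t, ht, h⟩ | ⟨s, hs, c, hc, e, h⟩
    · exact Or.inl ⟨t, hsub x ht, h⟩
    · exact Or.inr ⟨s, hsub x hs, c, hsub x hc, e, h⟩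
  choose π W V hπV hWQ hWV hV using hQ
  have htop : Ideal.span (Set.range fun Q => ∏ x, W Q x) = ⊤ := by
    by_contra h
    obtain ⟨M, hM, hle⟩ := Ideal.exists_le_maximal _ h
    obtain ⟨x, -, hx⟩ := (Ideal.IsPrime.prod_mem_iff (hp := hM.isPrime)).1
      (hle (Ideal.subset_span ⟨⟨M, hM⟩, rfl⟩) : ∏ x, W ⟨M, hM⟩ x ∈ M)
    exact hWQ ⟨M, hM⟩ x hx
  obtain ⟨r, hr⟩ := (Finsupp.mem_span_range_iff_exists_finsupp).1 ((Ideal.eq_top_iff_one _).1 htop)
  let G : Finset A' := r.support.biUnion fun Q => insert (r Q) (V Q)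
  let gen : Set L := S' ∪ ((↑) '' (G : Set A'))
  have hgen : gen.Finite := hS'.union (G.finite_toSet.image _)
  have hgint : ∀ x ∈ gen, IsIntegral A x := by
    rintro x (hx | ⟨y, -, rfl⟩)
    · exact (el ⟨x, hx⟩).2
    · exact y.2
  let B := Algebra.adjoin A gen
  haveI hfin : Module.Finite A B := ⟨(Submodule.fg_top _).2 (fg_adjoin_of_finite hgen hgint)⟩
  have hSB : S' ⊆ B := fun x hx => Algebra.subset_adjoin (Or.inl hx)
  refine ⟨B, hfin, fun x hx => hSB (Or.inr hx), hSB (Or.inl rfl), fun q hq => ?_⟩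
  have hBA : B ≤ A' := Algebra.adjoin_le hgint
  let ι : B →ₐ[A] A' := Subalgebra.inclusion hBA
  have hι : Function.Injective ι := Subalgebra.inclusion_injective hBA
  have hmem : ∀ Q ∈ r.support, ∀ y ∈ insert (r Q) (V Q), ∃ z : B, ι z = y := fun Q hQ y hy =>
    ⟨⟨y, Algebra.subset_adjoin (Or.inr ⟨y, Finset.mem_biUnion.2 ⟨Q, hQ, hy⟩, rfl⟩)⟩, rfl⟩
  choose! lift hlift using hmem
  have hQex : ∃ Q ∈ r.support, ∀ x, ∀ y : B, ι y = W Q x → y ∉ q := by
    by_contra! hc
    have h1 : ∑ Q ∈ r.support.attach,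
        lift Q.1 (r Q.1) * ∏ x, lift Q.1 (W Q.1 x) = 1 := hι (by
      rw [map_sum, map_one, ← hr, Finsupp.sum, ← Finset.sum_attach r.support (fun Q => r Q • ∏ x, W Q x)]
      refine Finset.sum_congr rfl fun Q _ => ?_
      rw [map_mul, map_prod, hlift _ Q.2 _ (Finset.mem_insert_self _ _), smul_eq_mul]
      exact congrArg _ (Finset.prod_congr rfl fun x _ => hlift _ Q.2 _ (Finset.mem_insert_of_mem (hWV _ x))))
    refine hq.ne_top ((Ideal.eq_top_iff_one _).2 (h1 ▸ Ideal.sum_mem _ fun Q _ => ?_))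
    obtain ⟨x, y, hy, hyq⟩ := hc Q.1 Q.2
    refine q.mul_mem_left _ (q.mem_of_dvd (Finset.dvd_prod_of_mem _ (Finset.mem_univ x)) ?_)
    rwa [show lift Q.1 (W Q.1 x) = y from hι (by
      rw [hy, hlift _ Q.2 _ (Finset.mem_insert_of_mem (hWV _ x))])]
  obtain ⟨Q, hQs, hQq⟩ := hQex
  have hl : ∀ y ∈ V Q, ι (lift Q y) = y := fun y hy => hlift _ hQs _ (Finset.mem_insert_of_mem hy)
  have hall : ∀ (x : B) (hx : (x : L) ∈ S'), NilAt q x ∨ ∃ e, PowAt q (lift Q (π Q)) x e := by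
    intro x hx
    have hex : ι x = el ⟨x, hx⟩ := Subtype.ext rfl
    rcases hV Q ⟨x, hx⟩ with ⟨t, ht, htW, n, hn⟩ | ⟨s, hs, c, hc, e, hW, h⟩
    · exact Or.inl ⟨lift Q t, hQq _ _ (by rw [hl t ht, htW]), n, hι (by
        rw [map_pow, map_mul, hl t ht, hex, hn, map_zero])⟩
    · have hsc := hQq ⟨x, hx⟩ (lift Q s * lift Q c) (by rw [map_mul, hl s hs, hl c hc, hW])
      refine Or.inr ⟨e, lift Q s, lift Q c, fun h' => hsc (q.mul_mem_right _ h'),
        fun h' => hsc (q.mul_mem_left _ h'), hι ?_⟩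
      rw [map_mul, map_mul, map_pow, hl s hs, hl c hc, hl _ (hπV Q), hex, h]
  have haq : algebraMap A B a ∈ q := by
    have := IsLocalRing.eq_maximalIdeal (Ideal.isMaximal_comap_of_isIntegral_of_isMaximal (R := A) q)
    exact Ideal.mem_comap.1 (this.symm ▸ ham)
  have hanz : algebraMap A B a ∈ nonZeroDivisors B := by
    rw [mem_nonZeroDivisors_iff_right]
    intro x hx
    exact Subtype.ext ((IsLocalization.Away.algebraMap_isUnit (S := L) a).mul_left_eq_zero.1
      (by simpa using congrArg Subtype.val hx))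
  rcases hall (algebraMap A B a) (Or.inl rfl) with ⟨t, ht, n, hn⟩ | ⟨e, he⟩
  · exfalso
    rw [mul_pow] at hn
    exact ht (hq.isPrime.mem_of_pow_mem n (by
      rw [(mul_right_mem_nonZeroDivisors_eq_zero_iff (pow_mem hanz n)).1 hn]; exact q.zero_mem))
  · exact ⟨lift Q (π Q), (he.ne_zero_exp haq).2, he.regular haq hanz,
      ⟨e, Nat.pos_of_ne_zero (he.ne_zero_exp haq).1, he⟩, fun x hx => hall x (Or.inr hx)⟩

end GrothLib.Tame
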