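import Groth.Agent.Lib.Tame.Value
import Mathlib.RingTheory.Finiteness.Prod
import Mathlib.RingTheory.KrullDimension.NonZeroDivisors

/-!
Well-definedness of the tame symbol, and its computation from any data.
-/

set_option autoImplicit false
universe u

namespace GrothLib.Tame

open IsLocalRing CycAlg

set_option maxHeartbeats 400000

section general

variable {B : Type*} [CommRing B] {q : Ideal B} [q.IsPrime] {π x y : B} {e e' : ℕ}

theorem PowAt.mul (h : PowAt q π x e) (h' : PowAt q π y e') : PowAt q π (x * y) (e + e') := by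
  obtain ⟨s, c, hs, hc, h⟩ := h
  obtain ⟨s', c', hs', hc', h'⟩ := h'
  exact ⟨s * s', c * c', fun hm => (q.primeCompl.mul_mem hs hs') hm, fun hm => (q.primeCompl.mul_mem hc hc') hm, by
    rw [pow_add]; linear_combination (s' * y) * h + (c * π ^ e) * h'⟩

theorem PowAt.of_isUnit (π : B) (hx : IsUnit x) : PowAt q π x 0 :=
  ⟨1, x, fun h => Ideal.IsPrime.ne_top ‹_› ((Ideal.eq_top_iff_one _).2 h),
    fun h => Ideal.IsPrime.ne_top ‹_› (q.eq_top_of_isUnit_mem h hx), by simp⟩

theorem not_nilAt (hx : x ∈ nonZeroDivisors B) : ¬ NilAt q x := by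
  rintro ⟨t, ht, n, hn⟩
  rw [mul_pow] at hn
  exact ht (Ideal.IsPrime.mem_of_pow_mem ‹_› n (by
    rw [(mul_right_mem_nonZeroDivisors_eq_zero_iff (pow_mem hx n)).1 hn]; exact q.zero_mem))

theorem mem_nonZeroDivisors_of_local (hx : ∀ (m : Ideal B) [m.IsMaximal],
    algebraMap B (Localization.AtPrime m) x ∈ nonZeroDivisors (Localization.AtPrime m)) :
    x ∈ nonZeroDivisors B := by
  rw [mem_nonZeroDivisors_iff_right]
  intro z hz
  by_contra hz0
  let I : Ideal B := LinearMap.ker (LinearMap.mulRight B z)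
  have hI : I ≠ ⊤ := fun h => hz0 (by
    have : (1 : B) ∈ I := h ▸ Submodule.mem_top
    simpa [I] using this)
  obtain ⟨m, hm, hIm⟩ := Ideal.exists_le_maximal I hI
  have h0 : algebraMap B (Localization.AtPrime m) z = 0 :=
    (mul_right_mem_nonZeroDivisors_eq_zero_iff (hx m)).1 (by rw [← map_mul, hz, map_zero])
  obtain ⟨t, ht⟩ := (IsLocalization.map_eq_zero_iff m.primeCompl _ z).1 h0
  exact t.2 (hIm ht)

end general

theorem length_ne_top_of_smul_eq_zero {A : Type u} [CommRing A] [IsNoetherianRing A] [Ring.KrullDimLE 1 A]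
    {N : Type u} [AddCommGroup N] [Module A N] [Module.Finite A N] {d : A} (hd : d ∈ nonZeroDivisors A)
    (h : ∀ x : N, d • x = 0) : Module.length A N ≠ ⊤ := by
  obtain ⟨-, hart⟩ := isFiniteLength_iff_isNoetherian_isArtinian.mp (isFiniteLength_quotient_span_singleton A hd)
  obtain ⟨n, f, hf⟩ := Module.Finite.exists_fin' A N
  let g : (Fin n → A ⧸ Ideal.span {d}) →ₗ[A] N := ∑ i : Fin n,
    (Submodule.liftQ (Ideal.span {d}) (f ∘ₗ LinearMap.single A (fun _ => A) i) (fun r hr => by
      obtain ⟨c, rfl⟩ := Ideal.mem_span_singleton'.mp hr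
      show f (Pi.single i (c * d)) = 0
      rw [show (Pi.single i (c * d) : Fin n → A) = d • Pi.single i c by
        rw [← Pi.single_smul, smul_eq_mul, mul_comm], map_smul, h])) ∘ₗ LinearMap.proj i
  have hg : Function.Surjective g := fun x => by
    obtain ⟨w, rfl⟩ := hf x
    refine ⟨fun i => Submodule.Quotient.mk (w i), ?_⟩
    simp only [g, LinearMap.coe_sum, Finset.sum_apply, LinearMap.coe_comp, Function.comp_apply,
      LinearMap.proj_apply, Submodule.liftQ_apply, LinearMap.coe_single]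
    rw [← map_sum, Finset.univ_sum_single]
  exact Module.length_ne_top_iff.mpr (isFiniteLength_iff_isNoetherian_isArtinian.mpr
    ⟨inferInstance, isArtinian_of_surjective _ g hg⟩)

theorem sym_cancel {K : Type u} [Field K] (n x y w : K) (hw : w ≠ 0) (a b : ℕ) :
    n ^ (a * b) * (x * w ^ a) ^ b * ((y * w ^ b) ^ a)⁻¹ = n ^ (a * b) * x ^ b * (y ^ a)⁻¹ := by
  have hne : (w ^ b) ^ a ≠ 0 := pow_ne_zero _ (pow_ne_zero _ hw)
  rw [mul_pow, mul_pow, ← pow_mul w a b, ← pow_mul w b a, Nat.mul_comm a b, mul_inv]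
  rw [← pow_mul] at hne
  field_simp

variable {A : Type u} [CommRing A] [IsNoetherianRing A] [IsLocalRing A] [Ring.KrullDimLE 1 A]

theorem length_quot_ne_top {D M : Type u} [CommRing D] [AddCommGroup M] [Algebra A D] [Module A M] [Module D M]
    [IsScalarTower A D M] [Module.Finite A M] (N : Submodule D M) {d : A} (hd : d ∈ nonZeroDivisors A)
    (h : ∀ x : M, d • x ∈ N) : Module.length A (M ⧸ N) ≠ ⊤ := by
  haveI : Module.Finite A (M ⧸ N) := Module.Finite.of_surjective (N.mkQ.restrictScalars A) fun x => by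
    obtain ⟨y, hy⟩ := Submodule.mkQ_surjective N x
    exact ⟨y, hy⟩
  refine length_ne_top_of_smul_eq_zero hd fun x => ?_
  obtain ⟨c, rfl⟩ := Submodule.mkQ_surjective N x
  rw [← LinearMap.map_smul_of_tower, Submodule.mkQ_apply, Submodule.Quotient.mk_eq_zero]
  exact h c

theorem exists_pow_le_span {a : A} (ha : a ∈ nonZeroDivisors A) :
    ∃ n : ℕ, maximalIdeal A ^ n ≤ Ideal.span {a} := by
  have hrad : maximalIdeal A ≤ (Ideal.span {a}).radical := by
    rw [Ideal.radical_eq_sInf]
    refine le_sInf ?_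
    rintro P ⟨hIP, hP⟩
    rcases Ring.krullDimLE_one_iff.mp ‹Ring.KrullDimLE 1 A› P hP with h | h
    · exact absurd ha (Set.disjoint_left.mp (Ideal.disjoint_nonZeroDivisors_of_mem_minimalPrimes h)
        (hIP (Ideal.mem_span_singleton_self a)))
    · exact (eq_maximalIdeal h).ge
  obtain ⟨n, hn⟩ := (Ideal.span {a}).exists_radical_pow_le_of_fg (IsNoetherian.noetherian _)
  exact ⟨n, (Ideal.pow_right_mono hrad n).trans hn⟩

omit [IsNoetherianRing A] [Ring.KrullDimLE 1 A] in
theorem algebraMap_mem_of_mem {B : Type u} [CommRing B] [Algebra A B] [Module.Finite A B] (q : Ideal B) [q.IsMaximal]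
    {a : A} (ha : a ∈ maximalIdeal A) : algebraMap A B a ∈ q :=
  Ideal.mem_comap.1 ((IsLocalRing.eq_maximalIdeal (Ideal.isMaximal_comap_of_isIntegral_of_isMaximal (R := A) q)).symm ▸ ha)

variable {B : Type u} [CommRing B] [Algebra A B] [Module.Finite A B] {a₁ a₂ : A}

omit [IsNoetherianRing A] [Ring.KrullDimLE 1 A] in
theorem Data.π_mem (P : Data A B a₁ a₂) (h : a₁ * a₂ ∈ maximalIdeal A) (q : MaximalSpectrum B) :
    P.π q ∈ q.asIdeal :=
  (((P.h₁ q).mul (P.h₂ q)).ne_zero_exp (map_mul (algebraMap A B) a₁ a₂ ▸ algebraMap_mem_of_mem q.asIdeal h)).2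

omit [IsNoetherianRing A] [Ring.KrullDimLE 1 A] in
theorem Data.mem_nonZeroDivisors (P : Data A B a₁ a₂) : algebraMap A B (a₁ * a₂) ∈ nonZeroDivisors B :=
  mem_nonZeroDivisors_of_local fun m hm => by
    obtain ⟨v, hv⟩ := ((P.h₁ ⟨m, hm⟩).mul (P.h₂ ⟨m, hm⟩)).image
    rw [map_mul, hv]
    exact mul_mem v.isUnit.mem_nonZeroDivisors (pow_mem (P.reg ⟨m, hm⟩) _)

/-- The embedding of an extension into the ring of fractions. -/
theorem exists_embedding (hB : IsFinExt A B (maximalIdeal A)) {a : A} (ham : a ∈ maximalIdeal A)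
    (hab : algebraMap A B a ∈ nonZeroDivisors B) (L : Type u) [CommRing L] [Algebra A L]
    [IsLocalization.Away a L] : ∃ j : B →ₐ[A] L, Function.Injective j := by
  obtain ⟨hinj, -, n, hn⟩ := hB
  choose p hp using fun b : B => hn _ (Ideal.pow_mem_pow ham n) b
  obtain ⟨u, hu⟩ := ((IsLocalization.Away.algebraMap_isUnit (S := L) a).pow n)
  have key : ∀ (b : B) (x : A), algebraMap A B x = algebraMap A B a ^ n * b → p b = x := fun b x h =>
    hinj (by rw [hp b, h, Algebra.smul_def, map_pow])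
  have hmul : ∀ b c, p b * p c = a ^ n * p (b * c) := fun b c => hinj (by
    rw [map_mul, map_mul, hp, hp, hp, Algebra.smul_def, Algebra.smul_def, Algebra.smul_def, map_pow]; ring)
  let j : B →ₐ[A] L :=
    { toFun := fun b => algebraMap A L (p b) * ↑u⁻¹
      map_one' := by
        rw [key 1 (a ^ n) (by rw [map_pow, mul_one]), map_pow, ← hu, Units.mul_inv]
      map_mul' := fun b c => by
        have := congrArg (algebraMap A L) (hmul b c)
        rw [map_mul, map_mul, map_pow, ← hu] at this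
        calc algebraMap A L (p (b * c)) * ↑u⁻¹ = (↑u * algebraMap A L (p (b * c))) * (↑u⁻¹ * ↑u⁻¹) := by
              linear_combination (-(algebraMap A L (p (b * c)) * ↑u⁻¹)) * u.mul_inv
          _ = _ := by rw [← this]; ring
      map_zero' := by rw [key 0 0 (by simp), map_zero, zero_mul]
      map_add' := fun b c => by
        rw [key (b + c) (p b + p c) (by rw [map_add, hp, hp, Algebra.smul_def, Algebra.smul_def, map_pow]; ring),
          map_add, add_mul]
      commutes' := fun x => by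
        show algebraMap A L (p (algebraMap A B x)) * ↑u⁻¹ = algebraMap A L x
        rw [key (algebraMap A B x) (a ^ n * x) (by rw [map_mul, map_pow]), map_mul, map_pow, ← hu,
          mul_right_comm, Units.mul_inv, one_mul] }
  refine ⟨j, fun b c h => ?_⟩
  have h' : algebraMap A L (p b) = algebraMap A L (p c) := (Units.mul_left_inj u⁻¹).1 h
  obtain ⟨⟨_, k, rfl⟩, hk⟩ := (IsLocalization.eq_iff_exists (Submonoid.powers a) L).1 h'
  have hk' := congrArg (algebraMap A B) hk
  rw [map_mul, map_mul, map_pow, hp, hp, Algebra.smul_def, Algebra.smul_def, map_pow] at hk'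
  exact (mul_cancel_left_mem_nonZeroDivisors (pow_mem hab n)).1 ((mul_cancel_left_mem_nonZeroDivisors (pow_mem hab k)).1 hk')

/-- Finite extensions with a common parameter for finitely many regular elements, dominating given elements. -/
theorem exists_family {a : A} (ha : a ∈ nonZeroDivisors A) (ham : a ∈ maximalIdeal A) (L : Type u) [CommRing L]
    [Algebra A L] [IsLocalization.Away a L] (S : Set L) (hS : S.Finite) (hint : ∀ x ∈ S, IsIntegral A x)
    (F : Set A) (hF : F.Finite) :
    ∃ C : Subalgebra A L, Module.Finite A C ∧ IsFinExt A C (maximalIdeal A) ∧ S ⊆ C ∧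
      ∀ (q : Ideal C) [q.IsMaximal], ∃ π : C, π ∈ q ∧
        algebraMap C (Localization.AtPrime q) π ∈ nonZeroDivisors (Localization.AtPrime q) ∧
        (∃ e, 0 < e ∧ PowAt q π (algebraMap A C a) e) ∧
        (∀ f ∈ F, f ∈ nonZeroDivisors A → ∃ e, PowAt q π (algebraMap A C f) e) ∧
        ∀ x : C, (x : L) ∈ S → NilAt q x ∨ ∃ e, PowAt q π x e := by
  obtain ⟨C, hfin, hSC, -, hprep⟩ := exists_prep ha ham L (S ∪ (algebraMap A L) '' F) (hS.union (hF.image _))
    (by rintro x (hx | ⟨f, -, rfl⟩)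
        · exact hint x hx
        · exact isIntegral_algebraMap)
  have hiL : Function.Injective (algebraMap A L) :=
    IsLocalization.injective L (Submonoid.powers_le.mpr ha)
  have hreg : ∀ f ∈ nonZeroDivisors A, algebraMap A L f ∈ nonZeroDivisors L := fun f hf =>
    IsLocalization.map_nonZeroDivisors_le (Submonoid.powers a) L (Submonoid.mem_map_of_mem _ hf)
  have hinjC : Function.Injective (algebraMap A C) := fun x y h => hiL (congrArg Subtype.val h)
  refine ⟨C, hfin, ⟨hinjC, hfin, ?_⟩, fun x hx => hSC (Or.inl hx), fun q _ => ?_⟩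
  · obtain ⟨G, hG⟩ := Module.finite_def.1 hfin
    choose k y hky using fun x : C => exists_pow_mul a (x : L)
    obtain ⟨n, hn⟩ := exists_pow_le_span ha
    refine ⟨n * G.sup k, fun r hr b => ?_⟩
    have hr' : r ∈ Ideal.span {a ^ G.sup k} := by
      rw [← Ideal.span_singleton_pow]
      exact Ideal.pow_right_mono hn _ (by rwa [← pow_mul])
    obtain ⟨r', rfl⟩ := Ideal.mem_span_singleton'.1 hr'
    show (r' * a ^ G.sup k) • b ∈ LinearMap.range (Algebra.linearMap A C)
    rw [mul_smul]
    refine Submodule.smul_mem _ _ ?_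
    have hb : b ∈ Submodule.span A (G : Set C) := hG ▸ Submodule.mem_top
    induction hb using Submodule.span_induction with
    | mem x hx =>
      obtain ⟨d, hd⟩ := Nat.exists_eq_add_of_le (Finset.le_sup (f := k) hx)
      refine ⟨a ^ d * y x, Subtype.ext ?_⟩
      show algebraMap A L (a ^ d * y x) = ((a ^ G.sup k • x : C) : L)
      rw [hd, map_mul, ← hky x, Subalgebra.coe_smul, Algebra.smul_def, map_pow, map_pow, pow_add]
      ring
    | zero => simp
    | add x y _ _ hx hy => rw [smul_add]; exact add_mem hx hy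
    | smul r x _ hx => rw [smul_comm]; exact Submodule.smul_mem _ _ hx
  · obtain ⟨π, hπ, hπr, hπa, hπS⟩ := hprep q
    refine ⟨π, hπ, hπr, hπa, fun f hf hfn => ?_, fun x hx => hπS x (Or.inl hx)⟩
    refine (hπS (algebraMap A C f) (Or.inr ⟨f, hf, rfl⟩)).resolve_left (not_nilAt ?_)
    rw [mem_nonZeroDivisors_iff_right]
    intro z hz
    exact Subtype.ext ((mul_right_mem_nonZeroDivisors_eq_zero_iff (hreg f hfn)).1 (congrArg Subtype.val hz :))

omit [Module.Finite A B] in
/-- Comparison along a map of extensions. -/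
theorem Data.value_eq_of_map {D C : Type u} [CommRing D] [CommRing C] [Algebra A D] [Algebra A C]
    [Module.Finite A D] [Module.Finite A C] [Algebra D C] [IsScalarTower A D C]
    (hfinj : Function.Injective (algebraMap D C)) (ha : a₁ * a₂ ∈ nonZeroDivisors A)
    (ham : a₁ * a₂ ∈ maximalIdeal A) (hC : IsFinExt A C (maximalIdeal A))
    (Q : Data A C a₁ a₂) (R : Data A D a₁ a₂) (hπ : ∀ q, Q.π q ∈ q.asIdeal)
    (hS : ∀ (q : MaximalSpectrum D) (Q' : MaximalSpectrum C), Q'.asIdeal.comap (algebraMap D C) = q.asIdeal →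
      NilAt Q'.asIdeal (algebraMap D C (R.π q)) ∨ ∃ t, PowAt Q'.asIdeal (Q.π Q') (algebraMap D C (R.π q)) t) :
    Q.value = R.value := by
  have hlen : Module.length A (C ⧸ LinearMap.range (Algebra.linearMap D C)) ≠ ⊤ := by
    obtain ⟨-, -, n, hn⟩ := hC
    refine length_quot_ne_top (LinearMap.range (Algebra.linearMap D C)) (pow_mem ha n) fun c => ?_
    obtain ⟨y, hy⟩ := hn _ (Ideal.pow_mem_pow ham n) c
    exact ⟨algebraMap A D y, by
      rw [Algebra.linearMap_apply, ← IsScalarTower.algebraMap_apply]; exact hy⟩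
  refine Data.value_eq_of_refine hfinj hlen R Q (R.π_mem ham) hπ fun q Q' hQ => ?_
  refine (hS q Q' hQ).resolve_left ?_
  rintro ⟨t, ht, n, hn⟩
  obtain ⟨s, c, hs, hc, hsc⟩ := (R.h₁ q).mul (R.h₂ q)
  rw [← map_mul] at hsc
  set E := R.e₁ q + R.e₂ q
  have hsc' : algebraMap D C s * algebraMap A C (a₁ * a₂) = algebraMap D C c * algebraMap D C (R.π q) ^ E := by
    rw [IsScalarTower.algebraMap_apply A D C, ← map_mul (algebraMap D C) s, hsc, map_mul (algebraMap D C) c,
      map_pow (algebraMap D C)]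
  have hanz : algebraMap A C (a₁ * a₂) ∈ nonZeroDivisors C := Q.mem_nonZeroDivisors
  have hE : E ≠ 0 := ((R.h₁ q).mul (R.h₂ q)).ne_zero_exp
    (map_mul (algebraMap A D) a₁ a₂ ▸ algebraMap_mem_of_mem q.asIdeal ham) |>.1
  have hzero : (t ^ E * algebraMap D C s * algebraMap A C (a₁ * a₂)) ^ n = 0 := by
    rw [mul_assoc, hsc', show t ^ E * (algebraMap D C c * algebraMap D C (R.π q) ^ E) =
      algebraMap D C c * (t * algebraMap D C (R.π q)) ^ E by ring, mul_pow, ← pow_mul,
      mul_comm E, pow_mul, hn, zero_pow hE, mul_zero]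
  rw [mul_pow] at hzero
  have h0 := (mul_right_mem_nonZeroDivisors_eq_zero_iff (pow_mem hanz n)).1 hzero
  have hmem : t ^ E * algebraMap D C s ∈ Q'.asIdeal :=
    Q'.isMaximal.isPrime.mem_of_pow_mem n (h0 ▸ Q'.asIdeal.zero_mem)
  rcases Q'.isMaximal.isPrime.mem_or_mem hmem with h | h
  · exact ht (Q'.isMaximal.isPrime.mem_of_pow_mem E h)
  · exact hs (hQ ▸ Ideal.mem_comap.2 h)

/-- Two data have the same value. -/
theorem Data.value_eq {B' : Type u} [CommRing B'] [Algebra A B'] [Module.Finite A B']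
    (h₁ : a₁ ∈ nonZeroDivisors A) (h₂ : a₂ ∈ nonZeroDivisors A)
    (hB : IsFinExt A B (maximalIdeal A)) (hB' : IsFinExt A B' (maximalIdeal A))
    (P : Data A B a₁ a₂) (P' : Data A B' a₁ a₂) : P.value = P'.value := by
  classical
  by_cases hu : IsUnit a₁ ∧ IsUnit a₂
  · rw [P.value_of_isUnit hu.1 hu.2, P'.value_of_isUnit hu.1 hu.2]
  have ham : a₁ * a₂ ∈ maximalIdeal A := by
    rw [mem_maximalIdeal, mem_nonunits_iff, IsUnit.mul_iff]; exact hu
  have ha : a₁ * a₂ ∈ nonZeroDivisors A := mul_mem h₁ h₂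
  let L := Localization.Away (a₁ * a₂)
  obtain ⟨j, hj⟩ := exists_embedding hB ham P.mem_nonZeroDivisors L
  obtain ⟨j', hj'⟩ := exists_embedding hB' ham P'.mem_nonZeroDivisors L
  haveI := finite_maximalSpectrum A B
  haveI := finite_maximalSpectrum A B'
  obtain ⟨G, hG⟩ := Module.finite_def.1 ‹Module.Finite A B›
  obtain ⟨G', hG'⟩ := Module.finite_def.1 ‹Module.Finite A B'›
  let S : Set L := j '' (G : Set B) ∪ j' '' (G' : Set B') ∪ Set.range (fun q => j (P.π q)) ∪
    Set.range (fun q => j' (P'.π q))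
  have hS : S.Finite := (((G.finite_toSet.image _).union (G'.finite_toSet.image _)).union (Set.finite_range _)).union
    (Set.finite_range _)
  have hint : ∀ x ∈ S, IsIntegral A x := by
    rintro x (((⟨b, -, rfl⟩ | ⟨b, -, rfl⟩) | ⟨q, rfl⟩) | ⟨q, rfl⟩)
    all_goals exact (Algebra.IsIntegral.isIntegral _).map _
  obtain ⟨C, hfinC, hC, hSC, hπC⟩ := exists_family ha ham L S hS hint {a₁, a₂} (Set.toFinite _)
  haveI := hfinC
  choose π hπ hreg hπa hπF hπS using fun q : MaximalSpectrum C => hπC q.asIdeal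
  choose e₁ he₁ using fun q => hπF q a₁ (by simp) h₁
  choose e₂ he₂ using fun q => hπF q a₂ (by simp) h₂
  let Q : Data A C a₁ a₂ := ⟨π, hreg, e₁, e₂, he₁, he₂⟩
  suffices key : ∀ (D : Type u) [CommRing D] [Algebra A D] [Module.Finite A D] (i : D →ₐ[A] L),
      Function.Injective i → (∀ d, i d ∈ C) → ∀ R : Data A D a₁ a₂, (∀ q, i (R.π q) ∈ S) → Q.value = R.value by
    have hmem : ∀ (D : Type u) [CommRing D] [Algebra A D] (i : D →ₐ[A] L) (s : Finset D),
        Submodule.span A (s : Set D) = ⊤ → i '' (s : Set D) ⊆ C → ∀ d, i d ∈ C := by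
      intro D _ _ i s hs hsub d
      have : Submodule.span A (s : Set D) ≤ (Subalgebra.toSubmodule C).comap i.toLinearMap :=
        Submodule.span_le.2 fun x hx => hsub ⟨x, hx, rfl⟩
      exact this (hs ▸ Submodule.mem_top)
    rw [← key B j hj (hmem B j G hG (fun x hx => hSC (Or.inl (Or.inl (Or.inl hx))))) P
        (fun q => Or.inl (Or.inr ⟨q, rfl⟩)),
      key B' j' hj' (hmem B' j' G' hG' (fun x hx => hSC (Or.inl (Or.inl (Or.inr hx))))) P'
        (fun q => Or.inr ⟨q, rfl⟩)]
  intro D _ _ _ i hi hiC R hR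
  let f : D →ₐ[A] C := i.codRestrict C hiC
  letI : Algebra D C := f.toRingHom.toAlgebra
  haveI : IsScalarTower A D C := IsScalarTower.of_algebraMap_eq fun x => (f.commutes x).symm
  have hfinj : Function.Injective (algebraMap D C) := fun x y h => hi (congrArg Subtype.val h)
  exact Data.value_eq_of_map hfinj ha ham hC Q R (fun q => (hπ q)) fun q Q' _ => hπS Q' (algebraMap D C (R.π q)) (hR q)

omit [IsNoetherianRing A] [Ring.KrullDimLE 1 A] in
theorem norm_residue (q : MaximalSpectrum B) [IsLocalHom (algebraMap A (Localization.AtPrime q.asIdeal))] (y : B) :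
    Algebra.norm (ResidueField A) (residue (Localization.AtPrime q.asIdeal)
      (algebraMap B (Localization.AtPrime q.asIdeal) y)) = nrm q.asIdeal y := by
  rw [nrm_apply]
  letI : Algebra (A ⧸ maximalIdeal A) (ResidueField (Localization.AtPrime q.asIdeal)) :=
    inferInstanceAs (Algebra (ResidueField A) (ResidueField (Localization.AtPrime q.asIdeal)))
  let e : (B ⧸ q.asIdeal) ≃ₐ[A ⧸ maximalIdeal A] ResidueField (Localization.AtPrime q.asIdeal) :=
    { RingEquiv.ofBijective (algebraMap (B ⧸ q.asIdeal) q.asIdeal.ResidueField)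
        q.asIdeal.bijective_algebraMap_quotient_residueField with
      commutes' := fun x => by
        obtain ⟨x, rfl⟩ := Ideal.Quotient.mk_surjective x
        show algebraMap (B ⧸ q.asIdeal) q.asIdeal.ResidueField (Ideal.Quotient.mk _ (algebraMap A B x)) = _
        rfl }
  exact Algebra.norm_eq_of_algEquiv e (Ideal.Quotient.mk q.asIdeal y)

omit [IsNoetherianRing A] [Ring.KrullDimLE 1 A] in
/-- Data from tame data. -/
theorem exists_data (D : TameData A a₁ a₂) [Module.Finite A D.B] :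
    ∃ P : Data A D.B a₁ a₂, P.value = D.value := by
  classical
  choose x hx using fun q : MaximalSpectrum D.B => IsLocalization.surj q.asIdeal.primeCompl (D.π q)
  have htu := fun q : MaximalSpectrum D.B => IsLocalization.map_units (Localization.AtPrime q.asIdeal) (x q).2
  have hex : ∀ (q : MaximalSpectrum D.B) (a : A) (u : (Localization.AtPrime q.asIdeal)ˣ) (e : ℕ),
      algebraMap A (Localization.AtPrime q.asIdeal) a = u * D.π q ^ e →
      ∃ s c : D.B, s ∉ q.asIdeal ∧ c ∉ q.asIdeal ∧ s * algebraMap A D.B a = c * (x q).1 ^ e ∧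
        algebraMap D.B (Localization.AtPrime q.asIdeal) c * algebraMap D.B _ ((x q).2 : D.B) ^ e =
          algebraMap D.B _ s * u := by
    intro q a u e he
    obtain ⟨⟨c, s⟩, hcs⟩ := IsLocalization.surj q.asIdeal.primeCompl
      ((u : Localization.AtPrime q.asIdeal) * ↑((htu q).pow e).unit⁻¹)
    have hcq : c ∉ q.asIdeal := fun h => by
      have : IsUnit ((u : Localization.AtPrime q.asIdeal) * ↑((htu q).pow e).unit⁻¹ * algebraMap D.B _ (s : D.B)) :=
        (u.isUnit.mul (Units.isUnit _)).mul (IsLocalization.map_units _ s)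
      rw [hcs, IsLocalization.AtPrime.isUnit_to_map_iff _ q.asIdeal] at this
      exact this h
    have hval : algebraMap D.B (Localization.AtPrime q.asIdeal) c * algebraMap D.B _ ((x q).2 : D.B) ^ e =
        algebraMap D.B _ (s : D.B) * u := by
      rw [← hcs]
      calc _ = (algebraMap D.B _ (s : D.B) * (u : Localization.AtPrime q.asIdeal)) *
            (↑((htu q).pow e).unit⁻¹ * algebraMap D.B _ ((x q).2 : D.B) ^ e) := by ring
        _ = _ := by rw [IsUnit.val_inv_mul, mul_one]
    have heq : algebraMap D.B (Localization.AtPrime q.asIdeal) ((s : D.B) * algebraMap A D.B a) =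
        algebraMap D.B _ (c * (x q).1 ^ e) := by
      rw [map_mul, map_mul, map_pow, ← IsScalarTower.algebraMap_apply, he, ← hx q, mul_pow]
      linear_combination (-(D.π q ^ e)) * hval
    obtain ⟨t, ht⟩ := (IsLocalization.eq_iff_exists q.asIdeal.primeCompl _).1 heq
    refine ⟨t * s, t * c, fun h => (q.asIdeal.primeCompl.mul_mem t.2 s.2) h,
      fun h => (q.asIdeal.primeCompl.mul_mem t.2 hcq) h, by rw [mul_assoc, ht, mul_assoc], ?_⟩
    rw [map_mul, map_mul, mul_assoc, hval, mul_assoc]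
  choose s₁ c₁ hs₁ hc₁ hx₁ hv₁ using fun q => hex q a₁ (D.u₁ q) (D.e₁ q) (D.fac₁ q)
  choose s₂ c₂ hs₂ hc₂ hx₂ hv₂ using fun q => hex q a₂ (D.u₂ q) (D.e₂ q) (D.fac₂ q)
  have hreg : ∀ q, algebraMap D.B (Localization.AtPrime q.asIdeal) (x q).1 ∈ nonZeroDivisors _ := fun q =>
    hx q ▸ mul_mem (D.π_mem q) (htu q).mem_nonZeroDivisors
  let P : Data A D.B a₁ a₂ := ⟨fun q => (x q).1, hreg, D.e₁, D.e₂,
    fun q => ⟨_, _, hs₁ q, hc₁ q, hx₁ q⟩, fun q => ⟨_, _, hs₂ q, hc₂ q, hx₂ q⟩⟩
  refine ⟨P, finprod_congr fun q => ?_⟩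
  haveI := D.isLocalHom q
  have hN : ∀ y : D.B, Algebra.norm (ResidueField A) (residue (Localization.AtPrime q.asIdeal)
      (algebraMap D.B (Localization.AtPrime q.asIdeal) y)) = nrm q.asIdeal y := norm_residue q
  have hnu : ∀ (a : A) (u : (Localization.AtPrime q.asIdeal)ˣ) (e : ℕ) (s c : D.B) (h : PowAt q.asIdeal (x q).1 (algebraMap A D.B a) e),
      s ∉ q.asIdeal → s * algebraMap A D.B a = c * (x q).1 ^ e →
      algebraMap D.B (Localization.AtPrime q.asIdeal) c * algebraMap D.B _ ((x q).2 : D.B) ^ e = algebraMap D.B _ s * u →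
      Algebra.norm (ResidueField A) (residue (Localization.AtPrime q.asIdeal) (u : Localization.AtPrime q.asIdeal)) =
        h.nu * nrm q.asIdeal ((x q).2 : D.B) ^ e := by
    intro a u e s c h hs hx' hv
    have hh := congrArg (fun z => Algebra.norm (ResidueField A) (residue (Localization.AtPrime q.asIdeal) z)) hv
    simp only [map_mul, map_pow, hN] at hh
    rw [h.nu_eq (hreg q) s c hs hx', div_mul_eq_mul_div, hh, mul_div_cancel_left₀ _ (nrm_ne_zero _ hs)]
  have e1 := hnu a₁ (D.u₁ q) (D.e₁ q) _ _ (P.h₁ q) (hs₁ q) (hx₁ q) (hv₁ q)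
  have e2 := hnu a₂ (D.u₂ q) (D.e₂ q) _ _ (P.h₂ q) (hs₂ q) (hx₂ q) (hv₂ q)
  have em : Algebra.norm (ResidueField A) (-1 : ResidueField (Localization.AtPrime q.asIdeal)) = nrm q.asIdeal (-1) := by
    rw [← hN, map_neg (algebraMap D.B (Localization.AtPrime q.asIdeal)), map_one, map_neg (residue _), map_one]
  have hord : P.mult q = (Ring.ord (Localization.AtPrime q.asIdeal) (D.π q)).toNat := by
    rw [Data.mult, show P.π q = (x q).1 from rfl, ← hx q, Ring.ord_mul_of_isUnit_right (htu q)]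
  have einv : ∀ (z : ResidueField (Localization.AtPrime q.asIdeal)), z ≠ 0 →
      Algebra.norm (ResidueField A) z⁻¹ = (Algebra.norm (ResidueField A) z)⁻¹ := fun z hz =>
    eq_inv_of_mul_eq_one_left (by rw [← map_mul, inv_mul_cancel₀ hz, map_one])
  rw [TameData.localFactor, hord, map_mul, map_mul, map_pow, map_pow,
    einv _ (pow_ne_zero _ ((D.u₂ q).isUnit.map (residue _)).ne_zero), map_pow, e1, e2, em, Data.sym]
  congr 1
  have ht0 : nrm (A := A) q.asIdeal ((x q).2 : D.B) ≠ 0 := nrm_ne_zero _ (x q).2.2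
  simp only [P]
  exact (sym_cancel _ _ _ _ ht0 _ _).symm

/-- Tame data from data. -/
theorem nonempty_tameData (hB : IsFinExt A B (maximalIdeal A)) (P : Data A B a₁ a₂) :
    Nonempty (TameData A a₁ a₂) := by
  choose v₁ hv₁ using fun q => (P.h₁ q).image
  choose v₂ hv₂ using fun q => (P.h₂ q).image
  refine ⟨⟨B, hB, fun q => ?_, fun q => algebraMap B _ (P.π q), P.reg, v₁, v₂, P.e₁, P.e₂,
    fun q => by rw [IsScalarTower.algebraMap_apply A B]; exact hv₁ q,
    fun q => by rw [IsScalarTower.algebraMap_apply A B]; exact hv₂ q⟩⟩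
  refine ⟨fun x hx => by_contra fun hn => ?_⟩
  rw [IsScalarTower.algebraMap_apply A B] at hx
  exact (IsLocalization.AtPrime.isUnit_to_map_iff _ q.asIdeal (algebraMap A B x)).1 hx
    (algebraMap_mem_of_mem q.asIdeal hn)

/-- The tame symbol from any data. -/
theorem tameSymbol_eq_value (h₁ : a₁ ∈ nonZeroDivisors A) (h₂ : a₂ ∈ nonZeroDivisors A)
    (hB : IsFinExt A B (maximalIdeal A)) (P : Data A B a₁ a₂) : tameSymbol A a₁ a₂ = P.value := by
  have hne := nonempty_tameData hB P
  rw [tameSymbol, dif_pos hne]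
  haveI := (Classical.choice hne).isFinExt.2.1
  obtain ⟨P', hP'⟩ := exists_data (Classical.choice hne)
  rw [← hP']
  exact P'.value_eq h₁ h₂ (Classical.choice hne).isFinExt hB P

omit [IsLocalRing A] [IsNoetherianRing A] [Ring.KrullDimLE 1 A] in
theorem algebraMap_self_apply (a : A) : algebraMap A A a = a := rfl

/-- Common data for a family. -/
theorem exists_common (F : Finset A) (hF : ∀ f ∈ F, f ∈ nonZeroDivisors A) :
    ∃ (C : Type u) (_ : CommRing C) (_ : Algebra A C), Module.Finite A C ∧ IsFinExt A C (maximalIdeal A) ∧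
      ∀ q : MaximalSpectrum C, ∃ π : C,
        algebraMap C (Localization.AtPrime q.asIdeal) π ∈ nonZeroDivisors (Localization.AtPrime q.asIdeal) ∧
        ∀ f ∈ F, ∃ e, PowAt q.asIdeal π (algebraMap A C f) e := by
  classical
  by_cases hu : ∀ f ∈ F, IsUnit f
  · refine ⟨A, inferInstance, Algebra.id A, inferInstance, ⟨fun x y h => h, inferInstance, 0, fun r _ b => ⟨r * b, rfl⟩⟩,
      fun q => ⟨1, by simp, fun f hf => ⟨0, PowAt.of_isUnit 1 ((hu f hf).map _)⟩⟩⟩
  push Not at hu
  obtain ⟨f₀, hf₀, hf₀u⟩ := hu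
  obtain ⟨C, hfin, hC, -, hπ⟩ := exists_family (hF f₀ hf₀) ((mem_maximalIdeal _).2 hf₀u) (Localization.Away f₀)
    ∅ Set.finite_empty (by simp) (F : Set A) F.finite_toSet
  exact ⟨C, inferInstance, inferInstance, hfin, hC, fun q => by
    obtain ⟨π, -, hreg, -, hfac, -⟩ := hπ q.asIdeal
    exact ⟨π, hreg, fun f hf => hfac f hf (hF f hf)⟩⟩

end GrothLib.Tame
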