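import Groth.Agent.Lib.NormFib.KrullAkizuki
import Mathlib.RingTheory.IntegralClosure.IntegrallyClosed
import Mathlib.RingTheory.DiscreteValuationRing.TFAE
import Mathlib.RingTheory.Localization.Integral
import Mathlib.RingTheory.Polynomial.ScaleRoots
import Mathlib.RingTheory.KrullDimension.Basic
import Mathlib.RingTheory.Ideal.GoingUp
import Mathlib.RingTheory.Localization.Submodule

/-!
The integral closure of a one-dimensional noetherian local ring in its ring of fractions is, at
each maximal ideal, a discrete valuation ring up to nilpotents.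
-/

set_option autoImplicit false
set_option quotPrecheck false
universe u

namespace GrothLib.Tame

open IsLocalRing Polynomial

/-- In an artinian ring every element is a unit plus an idempotent. -/
theorem exists_idem {L : Type u} [CommRing L] [IsArtinianRing L] (c : L) :
    ∃ e : L, e * e = e ∧ IsNilpotent (c * e) ∧ IsUnit (c + e) := by
  obtain ⟨n, w, hw⟩ := IsArtinian.exists_pow_succ_smul_dvd c (1 : L)
  have h1 : c ^ n = c ^ (n + 1) * w := by simpa [smul_eq_mul] using hw.symm
  have h2 : ∀ k, c ^ n = c ^ (n + k) * w ^ k := by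
    intro k
    induction k with
    | zero => simp
    | succ k ih =>
      rw [ih, pow_add, h1]; ring
  have h3 : c ^ n = c ^ (n + n) * w ^ n := h2 n
  refine ⟨1 - c ^ n * w ^ n, by linear_combination (w ^ n) * (-h3), ?_, ?_⟩
  · rcases n with _ | n
    · exact ⟨1, by rw [pow_one]; linear_combination c * h3⟩
    · refine ⟨n + 1, ?_⟩
      have he : (1 - c ^ (n + 1) * w ^ (n + 1)) ^ (n + 1) = 1 - c ^ (n + 1) * w ^ (n + 1) :=
        (show IsIdempotentElem (1 - c ^ (n + 1) * w ^ (n + 1)) by
          unfold IsIdempotentElem; linear_combination (w ^ (n + 1)) * (-h3)).pow_succ_eq n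
      rw [mul_pow, he]
      linear_combination h3
  · by_contra hu
    obtain ⟨P, hP, hcP⟩ := exists_max_ideal_of_mem_nonunits hu
    by_cases hc : c ∈ P
    · have he : (1 : L) - c ^ n * w ^ n ∈ P := by
        have := P.sub_mem hcP hc
        simpa using this
      rcases n with _ | n
      · have h0 : (1 : L) - c ^ 0 * w ^ 0 = 0 := by simp
        rw [h0] at hcP
        rw [add_zero] at hcP
        have hcu : IsUnit c := IsUnit.of_mul_eq_one w (by simpa using h1.symm)
        exact hP.ne_top (P.eq_top_of_isUnit_mem hcP hcu)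
      · have hm : c ^ (n + 1) * w ^ (n + 1) ∈ P :=
          P.mul_mem_right _ (P.pow_mem_of_mem hc _ n.succ_pos)
        exact hP.ne_top ((Ideal.eq_top_iff_one P).2 (by simpa using P.add_mem he hm))
    · have h0 : c ^ n * (1 - c ^ n * w ^ n) = 0 := by linear_combination h3
      have he : (1 : L) - c ^ n * w ^ n ∈ P :=
        (hP.isPrime.mem_or_mem (h0 ▸ P.zero_mem : c ^ n * (1 - c ^ n * w ^ n) ∈ P)).resolve_left
          fun h => hc (hP.isPrime.mem_of_pow_mem _ h)
      exact hc (by simpa using P.sub_mem hcP he)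

/-- The quotient by a prime nilradical. -/
theorem exists_domain_quot (R : Type u) [CommRing R] (h : (nilradical R).IsPrime) :
    ∃ (D : Type u) (_ : CommRing D) (_ : IsDomain D) (mk : R →+* D), Function.Surjective mk ∧
      ∀ r, mk r = 0 ↔ IsNilpotent r :=
  haveI := h
  ⟨R ⧸ nilradical R, inferInstance, Ideal.Quotient.isDomain _, Ideal.Quotient.mk _,
    Ideal.Quotient.mk_surjective, fun _ => Ideal.Quotient.eq_zero_iff_mem.trans mem_nilradical⟩

section

variable {A : Type u} [CommRing A] [IsNoetherianRing A] [IsLocalRing A] [Ring.KrullDimLE 1 A]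
  {a : A} (ha : a ∈ nonZeroDivisors A) (ham : a ∈ maximalIdeal A)
  (L : Type u) [CommRing L] [Algebra A L] [IsLocalization.Away a L]

include ham in
/-- The ring of fractions is artinian. -/
theorem isArtinianRing_away : IsArtinianRing L := by
  haveI : IsNoetherianRing L := IsLocalization.isNoetherianRing (Submonoid.powers a) L inferInstance
  rw [isArtinianRing_iff_krullDimLE_zero, Ring.krullDimLE_zero_iff]
  intro P hP
  obtain ⟨M, hM, hPM⟩ := Ideal.exists_le_maximal P hP.ne_top
  have hp := (IsLocalization.isPrime_iff_isPrime_disjoint (Submonoid.powers a) L P).1 hP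
  have hm := (IsLocalization.isPrime_iff_isPrime_disjoint (Submonoid.powers a) L M).1 hM.isPrime
  have hle : P.comap (algebraMap A L) ≤ M.comap (algebraMap A L) := Ideal.comap_mono hPM
  have hne : M.comap (algebraMap A L) ∈ minimalPrimes A := by
    rcases Ring.krullDimLE_one_iff.mp ‹Ring.KrullDimLE 1 A› _ hm.1 with h | h
    · exact h
    · exact absurd (Set.disjoint_left.mp hm.2 (Submonoid.mem_powers a)
        ((IsLocalRing.eq_maximalIdeal h).symm ▸ ham)) id
  have heq : P.comap (algebraMap A L) = M.comap (algebraMap A L) :=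
    le_antisymm hle (hne.2 ⟨hp.1, bot_le⟩ hle)
  rw [← IsLocalization.map_comap (Submonoid.powers a) L P, show
    Ideal.under A P = Ideal.under A M from heq, IsLocalization.map_comap (Submonoid.powers a) L M]
  exact hM

variable {L}

/-- A power of `a` multiplies any element of the fraction ring into `A`. -/
theorem exists_pow_mul (a : A) [IsLocalization.Away a L] (x : L) :
    ∃ (k : ℕ) (y : A), algebraMap A L a ^ k * x = algebraMap A L y := by
  obtain ⟨⟨y, ⟨_, k, rfl⟩⟩, h⟩ := IsLocalization.surj (Submonoid.powers a) x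
  exact ⟨k, y, by rw [← h, map_pow]; ring⟩

variable (L)

local notation "A'" => integralClosure A L

include ha in
theorem aA_mem_nzd : algebraMap A A' a ∈ nonZeroDivisors A' := by
  have hu : IsUnit (algebraMap A L a) := IsLocalization.Away.algebraMap_isUnit a
  rw [mem_nonZeroDivisors_iff_right]
  intro x hx
  have h := congrArg Subtype.val hx
  simp only [MulMemClass.coe_mul, ZeroMemClass.coe_zero, SubalgebraClass.coe_algebraMap] at h
  exact Subtype.ext (hu.mul_left_eq_zero.1 h)

variable (Q : Ideal (integralClosure A L)) [Q.IsMaximal]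

local notation "RQ" => Localization.AtPrime Q
local notation "aR" => algebraMap A' (Localization.AtPrime Q) (algebraMap A A' a)

include ha in
theorem aR_mem_nzd : aR ∈ nonZeroDivisors RQ :=
  IsLocalization.map_nonZeroDivisors_le Q.primeCompl RQ (Submonoid.mem_map_of_mem _ (aA_mem_nzd ha L))

include ham in
theorem aR_mem_maximalIdeal : aR ∈ maximalIdeal RQ := by
  have h : algebraMap A A' a ∈ Q := by
    have := IsLocalRing.eq_maximalIdeal (Ideal.isMaximal_comap_of_isIntegral_of_isMaximal (R := A) Q)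
    exact Ideal.mem_comap.1 (this.symm ▸ ham)
  exact (IsLocalization.AtPrime.to_map_mem_maximal_iff RQ Q _ inferInstance).2 h

include ham in
/-- Every element of the local ring is nilpotent or divides a power of `a`. -/
theorem nilpotent_or_dvd (r : RQ) : IsNilpotent r ∨ ∃ k, r ∣ aR ^ k := by
  haveI := isArtinianRing_away ham L
  obtain ⟨⟨c, s⟩, hcs⟩ := IsLocalization.surj Q.primeCompl r
  have hs : IsUnit (algebraMap A' RQ s) := IsLocalization.map_units RQ s
  obtain ⟨e, hee, hnil, hu⟩ := exists_idem (c : L)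
  have he : e ∈ integralClosure A L := by
    refine ⟨X ^ 2 - X, monic_X_pow_sub (by rw [degree_X]; exact_mod_cast Nat.one_lt_two), ?_⟩
    simp [sq, hee]
  set e' : A' := ⟨e, he⟩
  have hee' : e' * e' = e' := Subtype.ext hee
  by_cases heQ : e' ∈ Q
  · refine Or.inr ?_
    obtain ⟨v, hv⟩ := isUnit_iff_exists_inv.1 hu
    obtain ⟨k, y, hy⟩ := exists_pow_mul a v
    have h : (c + e') * algebraMap A A' y = algebraMap A A' a ^ k := Subtype.ext (by
      simp only [MulMemClass.coe_mul, AddMemClass.coe_add, SubmonoidClass.coe_pow,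
        SubalgebraClass.coe_algebraMap, ← hy]
      show ((c : L) + e) * _ = _
      linear_combination (algebraMap A L a ^ k) * hv)
    have h0 : algebraMap A' RQ e' = 0 := by
      have hu' : IsUnit (algebraMap A' RQ (1 - e')) := IsLocalization.map_units RQ
        (⟨1 - e', fun h1 => Ideal.IsPrime.ne_top inferInstance ((Ideal.eq_top_iff_one Q).2
          (by simpa using Q.add_mem h1 heQ))⟩ : Q.primeCompl)
      exact hu'.mul_left_eq_zero.1 (by rw [← map_mul, mul_sub, mul_one, hee', sub_self, map_zero])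
    refine ⟨k, algebraMap A' RQ s * algebraMap A' RQ (algebraMap A A' y), ?_⟩
    rw [← map_pow, ← h, map_mul, map_add, h0, add_zero, ← hcs]
    ring
  · refine Or.inl ?_
    have hu' : IsUnit (algebraMap A' RQ e') := IsLocalization.map_units RQ (⟨e', heQ⟩ : Q.primeCompl)
    have hn : IsNilpotent (c * e') := by
      obtain ⟨n, hn⟩ := hnil
      exact ⟨n, Subtype.ext (by simpa using hn)⟩
    have hn' : IsNilpotent (r * (algebraMap A' RQ s * algebraMap A' RQ e')) := by
      rw [← mul_assoc, hcs, ← map_mul]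
      exact hn.map _
    obtain ⟨n, hn'⟩ := hn'
    rw [mul_pow] at hn'
    exact ⟨n, ((hs.mul hu').pow n).mul_left_eq_zero.1 hn'⟩

include ha ham in
theorem isPrime_nilradical : (nilradical RQ).IsPrime := by
  have hpow : ∀ k, ¬ IsNilpotent (aR ^ k) := fun k ⟨n, hn⟩ => by
    have := pow_mem (pow_mem (aR_mem_nzd ha L Q) k) n
    rw [hn] at this
    exact zero_notMem_nonZeroDivisors this
  refine ⟨fun h => hpow 0 ?_, fun {x y} hxy => ?_⟩
  · exact mem_nilradical.1 ((Ideal.eq_top_iff_one _).1 h |> fun h1 => by simpa using h1)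
  · rw [mem_nilradical] at hxy ⊢
    rw [mem_nilradical]
    by_contra! hc
    obtain ⟨hx, hy⟩ := hc
    obtain ⟨k, z, hz⟩ := (nilpotent_or_dvd ham L Q x).resolve_left hx
    obtain ⟨l, w, hw⟩ := (nilpotent_or_dvd ham L Q y).resolve_left hy
    refine hpow (k + l) ?_
    rw [pow_add, hz, hw, show x * z * (y * w) = z * w * (x * y) by ring]
    exact Commute.isNilpotent_mul_left (Commute.all _ _) hxy

include ha in
/-- Nilpotents are divisible by every power of `a`. -/
theorem pow_dvd_of_isNilpotent (r : RQ) (hr : IsNilpotent r) (k : ℕ) : aR ^ k ∣ r := by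
  obtain ⟨⟨c, s⟩, hcs⟩ := IsLocalization.surj Q.primeCompl r
  obtain ⟨n, hn⟩ := hr
  have h0 : algebraMap A' RQ (c ^ n) = 0 := by rw [map_pow, ← hcs, mul_pow, hn, zero_mul]
  obtain ⟨t, ht⟩ := (IsLocalization.map_eq_zero_iff Q.primeCompl RQ _).1 h0
  obtain ⟨v, hv⟩ := isUnit_iff_exists_inv.1 ((IsLocalization.Away.algebraMap_isUnit (S := L) a).pow k)
  let q : L := ((t : A') : L) * (c : L) * v
  have hq : IsNilpotent q := by
    refine ⟨n + 1, ?_⟩
    have h1 : ((t : A') : L) * (c : L) ^ n = 0 := by
      have := congrArg Subtype.val ht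
      simpa using this
    calc q ^ (n + 1) = (((t : A') : L) * (c : L) ^ n) * (((t : A') : L) ^ n * (c : L) * v ^ (n + 1)) := by
          simp only [q]; ring
      _ = 0 := by rw [h1, zero_mul]
  have hqi : q ∈ integralClosure A L := by
    obtain ⟨N, hN⟩ := hq
    exact ⟨X ^ (N + 1), monic_X_pow _, by simp [pow_succ, hN]⟩
  have h : (t : A') * c = algebraMap A A' a ^ k * ⟨q, hqi⟩ := Subtype.ext (by
    simp only [MulMemClass.coe_mul, SubmonoidClass.coe_pow, SubalgebraClass.coe_algebraMap, q]
    linear_combination (-(((t : A') : L) * (c : L))) * hv)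
  have hu : IsUnit (algebraMap A' RQ (t : A') * algebraMap A' RQ (s : A')) :=
    (IsLocalization.map_units RQ t).mul (IsLocalization.map_units RQ s)
  rw [← hu.dvd_mul_right]
  refine ⟨algebraMap A' RQ ⟨q, hqi⟩, ?_⟩
  rw [← map_pow, ← map_mul (algebraMap A' RQ) (algebraMap A A' a ^ k), ← h, map_mul, ← hcs]
  ring

include ha in
/-- The local ring is integrally closed where `a` is inverted. -/
theorem dvd_of_integral_eq (r : RQ) (k : ℕ) (P : Polynomial RQ) (hP : P.Monic)
    (hev : IsNilpotent ((P.scaleRoots (aR ^ k)).eval r)) : aR ^ k ∣ r := by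
  let M := Q.primeCompl
  let T := Localization (Algebra.algebraMapSubmonoid L M)
  letI : Algebra RQ T := localizationAlgebra M L
  haveI : IsScalarTower A' RQ T :=
    IsScalarTower.of_algebraMap_eq fun x => (IsLocalization.map_eq
      (show M ≤ (Algebra.algebraMapSubmonoid L M).comap (algebraMap A' L) from M.le_comap_map) x).symm
  have hu : IsUnit (algebraMap RQ T (aR ^ k)) := by
    rw [map_pow, ← IsScalarTower.algebraMap_apply A' RQ T, IsScalarTower.algebraMap_apply A' L T]
    exact (((IsLocalization.Away.algebraMap_isUnit (S := L) a).map (algebraMap L T))).pow k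
  obtain ⟨v, hv⟩ := isUnit_iff_exists_inv.1 hu
  obtain ⟨n, hn⟩ := hev
  have hxint : IsIntegral RQ (algebraMap RQ T r * v) := by
    refine ⟨P ^ (n + 1), hP.pow _, ?_⟩
    rw [eval₂_pow]
    have h1 : eval₂ (algebraMap RQ T) (algebraMap RQ T (aR ^ k) * (algebraMap RQ T r * v)) (P.scaleRoots (aR ^ k))
        = algebraMap RQ T (aR ^ k) ^ P.natDegree * eval₂ (algebraMap RQ T) (algebraMap RQ T r * v) P :=
      scaleRoots_eval₂_mul _ _ _
    rw [show algebraMap RQ T (aR ^ k) * (algebraMap RQ T r * v) = algebraMap RQ T r by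
      linear_combination (algebraMap RQ T r) * hv, ← show algebraMap RQ T r = (RingHom.id RQ |> fun _ => algebraMap RQ T) r from rfl] at h1
    exact (((hu.pow P.natDegree).pow (n + 1)).mul_right_eq_zero).1 (by
      rw [← mul_pow, ← h1, eval₂_at_apply, ← map_pow, pow_succ, hn, zero_mul, map_zero])
  obtain ⟨m, hm⟩ := IsIntegral.exists_multiple_integral_of_isLocalization M _ hxint
  obtain ⟨⟨c, s⟩, hcs⟩ := IsLocalization.surj M r
  obtain ⟨v', hv'⟩ := isUnit_iff_exists_inv.1 ((IsLocalization.Away.algebraMap_isUnit (S := L) a).pow k)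
  let q : L := ((m : A') : L) * (c : L) * v'
  have hcs' : algebraMap RQ T r * algebraMap A' T s = algebraMap A' T c := by
    rw [IsScalarTower.algebraMap_apply A' RQ T, IsScalarTower.algebraMap_apply A' RQ T, ← map_mul, hcs]
  have hq : IsIntegral A' (algebraMap L T q) := by
    have hs : algebraMap L T q = algebraMap A' T (s : A') * ((m : A') • (algebraMap RQ T r * v)) := by
      have hvv : v = algebraMap L T v' := by
        have h2 : algebraMap RQ T (aR ^ k) * algebraMap L T v' = 1 := by
          rw [map_pow, ← IsScalarTower.algebraMap_apply A' RQ T, IsScalarTower.algebraMap_apply A' L T,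
            ← map_pow, ← map_mul]
          exact (congrArg (algebraMap L T) hv').trans (map_one _)
        exact hu.mul_left_cancel (hv.trans h2.symm)
      rw [Algebra.smul_def, hvv, show algebraMap A' T (s : A') * (algebraMap A' T (m : A') *
        (algebraMap RQ T r * algebraMap L T v')) = algebraMap A' T (m : A') *
        (algebraMap RQ T r * algebraMap A' T (s : A')) * algebraMap L T v' by ring, hcs']
      simp only [q, map_mul, IsScalarTower.algebraMap_apply A' L T]
      rfl
    rw [hs]
    exact isIntegral_algebraMap.mul hm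
  obtain ⟨F, hF, hFe⟩ := hq
  rw [IsScalarTower.algebraMap_eq A' L T, ← hom_eval₂] at hFe
  obtain ⟨⟨_, t, htM, rfl⟩, ht⟩ := (IsLocalization.map_eq_zero_iff (Algebra.algebraMapSubmonoid L M) T _).1 hFe
  rcases Nat.eq_zero_or_pos F.natDegree with hd | hd
  · exfalso
    rw [hF.natDegree_eq_zero.1 hd, eval₂_one, mul_one] at ht
    exact htM (by rw [show t = 0 from Subtype.ext ht]; exact Q.zero_mem)
  have htq : IsIntegral A' (algebraMap A' L t * q) := by
    refine ⟨F.scaleRoots t, (monic_scaleRoots_iff t).2 hF, ?_⟩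
    rw [scaleRoots_eval₂_mul, show F.natDegree = F.natDegree - 1 + 1 by omega, pow_succ, mul_assoc,
      show algebraMap A' L t * eval₂ (algebraMap A' L) q F = 0 from ht, mul_zero]
  have htq' : algebraMap A' L t * q ∈ integralClosure A L := isIntegral_trans (R := A) _ htq
  have h : t * (m : A') * c = algebraMap A A' a ^ k * ⟨_, htq'⟩ := Subtype.ext (by
    simp only [MulMemClass.coe_mul, SubmonoidClass.coe_pow, SubalgebraClass.coe_algebraMap, q]
    show (t : L) * _ * _ = _ * ((t : L) * _)
    linear_combination (-((t : L) * ((m : A') : L) * (c : L))) * hv')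
  have hun : IsUnit (algebraMap A' RQ t * algebraMap A' RQ (m : A') * algebraMap A' RQ (s : A')) :=
    ((IsLocalization.map_units RQ (⟨t, htM⟩ : M)).mul (IsLocalization.map_units RQ m)).mul
      (IsLocalization.map_units RQ s)
  rw [← hun.dvd_mul_right]
  refine ⟨algebraMap A' RQ ⟨_, htq'⟩, ?_⟩
  rw [← map_pow, ← map_mul (algebraMap A' RQ) (algebraMap A A' a ^ k), ← h, map_mul, map_mul, ← hcs]
  ring

include ha ham in
theorem exists_uniformizer_aux {D : Type u} [CommRing D] [IsDomain D] [IsLocalRing D]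
    (K : Type u) [Field K] [Algebra D K] [IsFractionRing D K] (mk : RQ →+* D)
    (hmk : Function.Surjective mk) (hmk0 : ∀ r, mk r = 0 ↔ IsNilpotent r) :
    ∃ π : RQ, π ∈ nonZeroDivisors RQ ∧ ¬ IsUnit π ∧
      ∀ r : RQ, IsNilpotent r ∨ ∃ (v : (RQ)ˣ) (e : ℕ), r = v * π ^ e := by
  have hp := isPrime_nilradical ha ham L Q
  have hmku : ∀ r, IsUnit (mk r) → IsUnit r := fun r hr => by
    by_contra h
    have hle : nilradical RQ ≤ maximalIdeal RQ := nilradical_le_prime _
    obtain ⟨w, hw⟩ := hmk (hr.unit⁻¹.1)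
    have h1 : mk (r * w - 1) = 0 := by
      rw [map_sub, map_mul, map_one, hw, IsUnit.mul_val_inv, sub_self]
    exact (Ideal.IsMaximal.ne_top (maximalIdeal.isMaximal RQ)) ((Ideal.eq_top_iff_one _).2 (by
      simpa using Ideal.sub_mem _ (Ideal.mul_mem_right w _ ((mem_maximalIdeal _).2 h))
        (hle (mem_nilradical.2 ((hmk0 _).1 h1)))))
  set aD : D := mk aR with haD
  have haD0 : aD ≠ 0 := fun h => by
    obtain ⟨n, hn⟩ := (hmk0 _).1 h
    have := pow_mem (aR_mem_nzd ha L Q) n
    rw [hn] at this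
    exact zero_notMem_nonZeroDivisors this
  have haDu : ¬ IsUnit aD := fun h => aR_mem_maximalIdeal ham L Q (hmku _ h)
  have hdvd : ∀ d : D, d ≠ 0 → ∃ k, d ∣ aD ^ k := fun d hd => by
    obtain ⟨r, rfl⟩ := hmk d
    obtain ⟨k, hk⟩ := (nilpotent_or_dvd ham L Q r).resolve_left fun h => hd ((hmk0 r).2 h)
    exact ⟨k, by rw [haD, ← map_pow]; exact map_dvd mk hk⟩
  -- the base
  let f : A →+* D := (mk.comp (algebraMap A' RQ)).comp (algebraMap A A')
  let R0 := A ⧸ RingHom.ker f
  haveI : (RingHom.ker f).IsPrime := RingHom.ker_isPrime f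
  haveI : Ring.DimensionLEOne R0 := ⟨fun {P} hP0 hP => by
    rcases Ring.krullDimLE_one_iff.mp ‹Ring.KrullDimLE 1 A› _ (Ideal.comap_isPrime (Ideal.Quotient.mk (RingHom.ker f)) P) with h | h
    · refine absurd ?_ hP0
      have hle : RingHom.ker f ≤ P.comap (Ideal.Quotient.mk (RingHom.ker f)) := fun x hx => by
        rw [Ideal.mem_comap, Ideal.Quotient.eq_zero_iff_mem.2 hx]; exact P.zero_mem
      have := h.2 ⟨inferInstance, bot_le⟩ hle
      refine eq_bot_iff.2 fun x hx => ?_
      obtain ⟨x, rfl⟩ := Ideal.Quotient.mk_surjective x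
      exact Ideal.mem_bot.2 (Ideal.Quotient.eq_zero_iff_mem.2 (this hx))
    · rw [← Ideal.map_comap_of_surjective _ Ideal.Quotient.mk_surjective P]
      exact (Ideal.map_eq_top_or_isMaximal_of_surjective _ Ideal.Quotient.mk_surjective h).resolve_left
        (by rw [Ideal.map_comap_of_surjective _ Ideal.Quotient.mk_surjective P]; exact hP.ne_top)⟩
  let g : R0 →+* D := Ideal.Quotient.lift (RingHom.ker f) f fun x hx => hx
  have hg : Function.Injective g := RingHom.lift_injective_of_ker_le_ideal _ (fun x hx => hx) le_rfl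
  letI alg0 : Algebra R0 D := g.toAlgebra
  letI algK : Algebra R0 K := ((algebraMap D K).comp g).toAlgebra
  haveI : IsScalarTower R0 D K := IsScalarTower.of_algebraMap_eq fun _ => rfl
  have hinjK : Function.Injective (algebraMap D K) := IsFractionRing.injective D K
  haveI : FaithfulSMul R0 K := (faithfulSMul_iff_algebraMap_injective R0 K).2
    (hinjK.comp hg)
  have hrep : ∀ d : D, ∃ x y : A, f y ≠ 0 ∧ d * f y = f x := fun d => by
    obtain ⟨r, rfl⟩ := hmk d
    obtain ⟨⟨c, s⟩, hcs⟩ := IsLocalization.surj Q.primeCompl r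
    obtain ⟨k, x, hx⟩ := exists_pow_mul a (c : L)
    obtain ⟨l, y, hy⟩ := exists_pow_mul a ((s : A') : L)
    have hc : algebraMap A A' a ^ k * c = algebraMap A A' x := Subtype.ext (by simpa using hx)
    have hs : algebraMap A A' a ^ l * (s : A') = algebraMap A A' y := Subtype.ext (by simpa using hy)
    have hfa : f a = aD := rfl
    have hfy : f y = aD ^ l * mk (algebraMap A' RQ s) := by
      show mk (algebraMap A' RQ (algebraMap A A' y)) = _
      rw [← hs, map_mul, map_mul, map_pow, map_pow]
    have hfx : f x = aD ^ k * mk (algebraMap A' RQ c) := by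
      show mk (algebraMap A' RQ (algebraMap A A' x)) = _
      rw [← hc, map_mul, map_mul, map_pow, map_pow]
    refine ⟨a ^ l * x, a ^ k * y, ?_, ?_⟩
    · rw [map_mul, map_pow, hfa, hfy]
      exact mul_ne_zero (pow_ne_zero _ haD0) (mul_ne_zero (pow_ne_zero _ haD0)
        ((IsLocalization.map_units RQ s).map mk).ne_zero)
    · rw [map_mul, map_mul, map_pow, map_pow, hfa, hfy, hfx, ← hcs, map_mul]
      ring
  haveI : IsFractionRing R0 K := by
    refine IsFractionRing.of_field R0 K fun z => ?_
    obtain ⟨d, d', hd', rfl⟩ := IsFractionRing.div_surjective (A := D) z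
    obtain ⟨x, y, hy, hxy⟩ := hrep d
    obtain ⟨x', y', hy', hxy'⟩ := hrep d'
    refine ⟨Ideal.Quotient.mk _ (x * y'), Ideal.Quotient.mk _ (x' * y), ?_⟩
    show _ = algebraMap D K (f (x * y')) / algebraMap D K (f (x' * y))
    rw [map_mul f, map_mul f, ← hxy, ← hxy', div_eq_div_iff (by simpa using nonZeroDivisors.ne_zero hd')]
    · simp only [map_mul]; ring
    · exact (map_ne_zero_iff _ hinjK).2 (mul_ne_zero (mul_ne_zero (nonZeroDivisors.ne_zero hd') hy') hy)
  haveI : IsNoetherianRing D := NormFib.isNoetherianRing_of_injective R0 (K := K) hinjK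
  -- one nonzero prime
  have huniq : ∀ P : Ideal D, P ≠ ⊥ → P.IsPrime → P = maximalIdeal D := by
    intro P hP hPp
    obtain ⟨d, hdP, hd⟩ := Submodule.exists_mem_ne_zero_of_ne_bot hP
    obtain ⟨k, hk⟩ := hdvd d hd
    have haP : aD ∈ P := hPp.mem_of_pow_mem k (P.mem_of_dvd hk hdP)
    have ha0 : Ideal.Quotient.mk (RingHom.ker f) a ≠ 0 := fun h => haD0 (Ideal.Quotient.eq_zero_iff_mem.1 h)
    have hfin := NormFib.isFiniteLength_quotient (R := R0) (K := K) hinjK ha0
    obtain ⟨_, _⟩ := isFiniteLength_iff_isNoetherian_isArtinian.mp hfin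
    let I : Ideal D := Ideal.span {algebraMap R0 D (Ideal.Quotient.mk (RingHom.ker f) a)}
    haveI : IsArtinianRing (D ⧸ I) := isArtinian_of_tower R0 inferInstance
    have hle : I ≤ P := (Ideal.span_singleton_le_iff_mem P).2 haP
    haveI := Ideal.isPrime_map_quotientMk_of_isPrime hle
    have hq : (P.map (Ideal.Quotient.mk I)).IsMaximal :=
      IsArtinianRing.isMaximal_of_isPrime _
    have := Ideal.comap_isMaximal_of_surjective (Ideal.Quotient.mk I) Ideal.Quotient.mk_surjective (H := hq)
    rw [Ideal.comap_map_mk hle] at this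
    exact IsLocalRing.eq_maximalIdeal this
  -- integrally closed
  have hic : IsIntegrallyClosed D := by
    rw [isIntegrallyClosed_iff K]
    intro x hx
    obtain ⟨d, d', hd', rfl⟩ := IsFractionRing.div_surjective (A := D) x
    obtain ⟨k, w, hw⟩ := hdvd d' (nonZeroDivisors.ne_zero hd')
    have hxk : algebraMap D K (aD ^ k) * (algebraMap D K d / algebraMap D K d') = algebraMap D K (d * w) := by
      have : algebraMap D K d' ≠ 0 := (map_ne_zero_iff _ hinjK).2 (nonZeroDivisors.ne_zero hd')
      rw [hw, map_mul, map_mul]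
      field_simp
    obtain ⟨P, hP, hPe⟩ := hx
    obtain ⟨r, hr⟩ := hmk (d * w)
    obtain ⟨P', hP', hdeg, hP'm⟩ := lifts_and_natDegree_eq_and_monic
      (Polynomial.map_surjective mk hmk P |> fun ⟨p, hp⟩ => ⟨p, hp⟩) hP
    have hev : IsNilpotent ((P'.scaleRoots (aR ^ k)).eval r) := by
      rw [← hmk0]
      refine hinjK ?_
      rw [map_zero]
      have h1 := scaleRoots_eval₂_mul (p := P) (algebraMap D K) (algebraMap D K d / algebraMap D K d') (aD ^ k)
      rw [hPe, mul_zero, hxk, ← hr, eval₂_at_apply] at h1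
      rw [← Polynomial.eval₂_at_apply, ← Polynomial.eval_map, map_scaleRoots _ _ _ (by
        rw [hP'm.leadingCoeff, map_one]; exact one_ne_zero), hP']
      rw [map_pow]
      exact h1
    obtain ⟨z, hz⟩ := dvd_of_integral_eq ha L Q r k P' hP'm hev
    refine ⟨mk z, ?_⟩
    have h2 : d * w = aD ^ k * mk z := by rw [← hr, haD, ← map_pow, ← map_mul, ← hz]
    rw [h2, map_mul] at hxk
    exact (mul_left_cancel₀ ((map_ne_zero_iff _ hinjK).2 (pow_ne_zero _ haD0)) hxk).symm
  have hnf : ¬ IsField D := fun h => haDu (by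
    obtain ⟨b, hb⟩ := h.mul_inv_cancel haD0
    exact IsUnit.of_mul_eq_one b hb)
  have h4 : IsIntegrallyClosed D ∧ ∃! P : Ideal D, P ≠ ⊥ ∧ P.IsPrime :=
    ⟨hic, maximalIdeal D, ⟨fun h => hnf (isField_iff_maximalIdeal_eq.2 h), inferInstance⟩,
      fun P ⟨h1, h2⟩ => huniq P h1 h2⟩
  haveI : IsDiscreteValuationRing D := ((IsDiscreteValuationRing.TFAE D hnf).out 0 3).2 h4
  obtain ⟨ϖ, hϖ⟩ := IsDiscreteValuationRing.exists_irreducible D
  obtain ⟨π, rfl⟩ := hmk ϖ
  have hπu : ¬ IsUnit π := fun h => hϖ.not_isUnit (h.map mk)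
  have hπ : π ∈ nonZeroDivisors RQ := by
    obtain ⟨e, u, hu⟩ := IsDiscreteValuationRing.eq_unit_mul_pow_irreducible haD0 hϖ
    obtain ⟨u', hu'⟩ := hmk (u : D)
    have h1 : IsUnit u' := hmku u' (by rw [show mk u' = (u : D) from hu']; exact u.isUnit)
    have h2 : IsNilpotent (aR - u' * π ^ e) := by
      rw [← hmk0, map_sub, map_mul, map_pow, show mk u' = (u : D) from hu', ← hu, haD, sub_self]
    obtain ⟨z, hz⟩ := pow_dvd_of_isNilpotent ha L Q _ h2 2
    have he : e ≠ 0 := by
      rintro rfl
      rw [pow_zero, mul_one] at hu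
      exact haDu (by rw [hu]; exact u.isUnit)
    have h3 : aR * (1 - aR * z) = u' * π ^ e := by linear_combination hz
    have hu3 : IsUnit (1 - aR * z) := by
      refine (IsLocalRing.isUnit_or_isUnit_one_sub_self (aR * z)).resolve_left fun h => ?_
      exact (mem_maximalIdeal _).1 (Ideal.mul_mem_right z _ (aR_mem_maximalIdeal ham L Q)) h
    have h4 : u' * π ^ e ∈ nonZeroDivisors RQ :=
      h3 ▸ mul_mem (aR_mem_nzd ha L Q) (hu3.mem_nonZeroDivisors)
    obtain ⟨e', rfl⟩ : ∃ e', e = e' + 1 := ⟨e - 1, by omega⟩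
    rw [pow_succ, ← mul_assoc] at h4
    exact (mul_mem_nonZeroDivisors.1 h4).2
  refine ⟨π, hπ, hπu, fun r => ?_⟩
  refine or_iff_not_imp_left.2 fun hr => ?_
  obtain ⟨e, u, hu⟩ := IsDiscreteValuationRing.eq_unit_mul_pow_irreducible (mt (hmk0 r).1 hr) hϖ
  obtain ⟨u', hu'⟩ := hmk (u : D)
  have h1 : IsUnit u' := hmku u' (by rw [show mk u' = (u : D) from hu']; exact u.isUnit)
  have h2 : IsNilpotent (r - u' * π ^ e) := by
    rw [← hmk0, map_sub, map_mul, map_pow, show mk u' = (u : D) from hu', ← hu, sub_self]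
  obtain ⟨j, hj⟩ := (nilpotent_or_dvd ham L Q (π ^ e)).resolve_left fun ⟨n, hn⟩ => by
    have := pow_mem (pow_mem hπ e) n
    rw [hn] at this
    exact zero_notMem_nonZeroDivisors this
  obtain ⟨z, hz⟩ := hj.trans (pow_dvd_of_isNilpotent ha L Q _ h2 j)
  have hzn : IsNilpotent z := by
    obtain ⟨n, hn⟩ := h2
    rw [hz, mul_pow] at hn
    exact ⟨n, (mul_right_mem_nonZeroDivisors_eq_zero_iff (pow_mem (pow_mem hπ e) n)).1 (by rw [mul_comm]; exact hn)⟩
  exact ⟨(hzn.isUnit_add_left_of_commute h1 (Commute.all _ _)).unit, e, by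
    rw [IsUnit.unit_spec]; linear_combination hz⟩

include ha ham in
/-- Up to nilpotents the local ring is a discrete valuation ring. -/
theorem exists_uniformizer : ∃ π : RQ, π ∈ nonZeroDivisors RQ ∧ ¬ IsUnit π ∧
    ∀ r : RQ, IsNilpotent r ∨ ∃ (v : (RQ)ˣ) (e : ℕ), r = v * π ^ e := by
  have hp := isPrime_nilradical ha ham L Q
  obtain ⟨D, iD, iDom, mk, hmk, hmk0⟩ := exists_domain_quot RQ hp
  haveI : IsLocalRing D := IsLocalRing.of_surjective' mk hmk
  exact exists_uniformizer_aux ha ham L Q (FractionRing D) mk hmk hmk0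

end

end GrothLib.Tame
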