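import Groth.Prelude.Def_Tame
import Groth.Agent.Lib.Tame.Prep
import Groth.Agent.Lib.Tame.Fibre
import Groth.Agent.Lib.Dim.Ring
import Mathlib.RingTheory.Norm.Transitivity
import Mathlib.RingTheory.Norm.Basic
import Mathlib.RingTheory.KrullDimension.Basic
import Mathlib.RingTheory.Ideal.Height
import Mathlib.Data.ENat.BigOperators

/-!
The value attached to parameters and exponents in a finite extension, computed in the residue field.
-/

set_option autoImplicit false
universe u

namespace GrothLib.Tame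

open IsLocalRing GrothLib.LengthDet

variable {A : Type u} [CommRing A] [IsLocalRing A] {B : Type u} [CommRing B] [Algebra A B]

instance liesOver_max [Algebra.IsIntegral A B] (q : Ideal B) [q.IsMaximal] : q.LiesOver (maximalIdeal A) :=
  ⟨(IsLocalRing.eq_maximalIdeal (Ideal.isMaximal_comap_of_isIntegral_of_isMaximal (R := A) q)).symm⟩

section nrm

variable [Module.Finite A B] (q : Ideal B) [q.IsMaximal]

/-- The norm to the residue field of the class of an element at `q`. -/
noncomputable def nrm : B →* ResidueField A :=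
  (Algebra.norm (A ⧸ maximalIdeal A) (S := B ⧸ q)).comp (Ideal.Quotient.mk q).toMonoidHom

theorem nrm_apply (y : B) : nrm (A := A) q y = Algebra.norm (A ⧸ maximalIdeal A) (Ideal.Quotient.mk q y) := rfl

theorem finite_quot : Module.Finite (A ⧸ maximalIdeal A) (B ⧸ q) :=
  Module.Finite.of_restrictScalars_finite A _ _

theorem nrm_ne_zero {y : B} (hy : y ∉ q) : nrm (A := A) q y ≠ 0 := by
  letI : Field (A ⧸ maximalIdeal A) := Ideal.Quotient.field _
  letI : Field (B ⧸ q) := Ideal.Quotient.field _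
  haveI := finite_quot (A := A) q
  show (Algebra.norm (A ⧸ maximalIdeal A) (Ideal.Quotient.mk q y) : A ⧸ maximalIdeal A) ≠ 0
  exact Algebra.norm_ne_zero_iff.2 fun h => hy (Ideal.Quotient.eq_zero_iff_mem.1 h)

theorem nrm_congr {y z : B} (h : y - z ∈ q) : nrm (A := A) q y = nrm (A := A) q z := by
  rw [nrm_apply, nrm_apply, Ideal.Quotient.eq.2 h]

theorem nrm_algebraMap (a : A) :
    nrm (A := A) q (algebraMap A B a) = residue A a ^ Module.finrank (A ⧸ maximalIdeal A) (B ⧸ q) := by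
  letI : Field (A ⧸ maximalIdeal A) := Ideal.Quotient.field _
  haveI := finite_quot (A := A) q
  rw [nrm_apply, show Ideal.Quotient.mk q (algebraMap A B a) =
    algebraMap (A ⧸ maximalIdeal A) (B ⧸ q) (Ideal.Quotient.mk _ a) from rfl, Algebra.norm_algebraMap]
  rfl

theorem nrm_tower {C : Type u} [CommRing C] [Algebra A C] [Module.Finite A C] [Algebra B C] [IsScalarTower A B C]
    [Module.Finite B C] (Q : Ideal C) [Q.IsMaximal] (hQ : Q.comap (algebraMap B C) = q) (y : B) :
    nrm (A := A) Q (algebraMap B C y) = nrm (A := A) q y ^ (Module.length B (C ⧸ Q)).toNat := by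
  haveI : Q.LiesOver q := ⟨hQ.symm⟩
  letI : Field (A ⧸ maximalIdeal A) := Ideal.Quotient.field _
  letI : Field (B ⧸ q) := Ideal.Quotient.field _
  haveI : IsScalarTower (A ⧸ maximalIdeal A) (B ⧸ q) (C ⧸ Q) := IsScalarTower.of_algebraMap_eq fun x => by
    obtain ⟨x, rfl⟩ := Ideal.Quotient.mk_surjective x
    show Ideal.Quotient.mk Q (algebraMap A C x) = Ideal.Quotient.mk Q (algebraMap B C (algebraMap A B x))
    rw [← IsScalarTower.algebraMap_apply]
  haveI := finite_quot (A := A) q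
  haveI : Module.Finite (B ⧸ q) (C ⧸ Q) := Module.Finite.of_restrictScalars_finite B _ _
  have hlen : Module.length B (C ⧸ Q) = Module.finrank (B ⧸ q) (C ⧸ Q) := by
    rw [Module.length_eq_of_surjective (S := B) (R := B ⧸ q) Ideal.Quotient.mk_surjective, Module.length_eq_finrank]
  rw [nrm_apply, show Ideal.Quotient.mk Q (algebraMap B C y) = algebraMap (B ⧸ q) (C ⧸ Q) (Ideal.Quotient.mk q y) from rfl,
    ← Algebra.norm_norm (S := B ⧸ q), Algebra.norm_algebraMap, map_pow, hlen, ENat.toNat_coe]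
  rfl

end nrm

theorem powAt_unique {q : Ideal B} [q.IsPrime] {π x : B} {e e' : ℕ} (hπq : π ∈ q)
    (hreg : algebraMap B (Localization.AtPrime q) π ∈ nonZeroDivisors (Localization.AtPrime q))
    (h : PowAt q π x e) (h' : PowAt q π x e') : e = e' := by
  wlog hle : e ≤ e' generalizing e e'
  · exact (this h' h (Nat.le_of_not_le hle)).symm
  obtain ⟨v, hv⟩ := h.image
  obtain ⟨v', hv'⟩ := h'.image
  obtain ⟨d, rfl⟩ := Nat.exists_eq_add_of_le hle
  rcases d with _ | d
  · rfl
  exfalso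
  rw [hv, pow_add, mul_left_comm (v' : Localization.AtPrime q), mul_comm (v : Localization.AtPrime q)] at hv'
  have hm := (mul_cancel_left_mem_nonZeroDivisors (pow_mem hreg e)).1 hv'
  have hu : IsUnit (algebraMap B (Localization.AtPrime q) π) := by
    have : IsUnit ((v' : Localization.AtPrime q) * algebraMap B (Localization.AtPrime q) π ^ (d + 1)) := hm ▸ v.isUnit
    exact (isUnit_pow_iff d.succ_ne_zero).1 (isUnit_of_mul_isUnit_right this)
  exact (IsLocalization.AtPrime.isUnit_to_map_iff (Localization.AtPrime q) q π).1 hu hπq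

variable [Module.Finite A B]

/-- The norm of the unit in a factorization. -/
noncomputable def PowAt.nu {q : Ideal B} [q.IsMaximal] {π x : B} {e : ℕ} (h : PowAt q π x e) : ResidueField A :=
  nrm q h.choose_spec.choose / nrm q h.choose

theorem PowAt.nu_ne_zero {q : Ideal B} [q.IsMaximal] {π x : B} {e : ℕ} (h : PowAt q π x e) :
    h.nu (A := A) ≠ 0 :=
  div_ne_zero (nrm_ne_zero q h.choose_spec.choose_spec.2.1) (nrm_ne_zero q h.choose_spec.choose_spec.1)

theorem PowAt.nu_eq {q : Ideal B} [q.IsMaximal] {π x : B} {e : ℕ} (h : PowAt q π x e)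
    (hreg : algebraMap B (Localization.AtPrime q) π ∈ nonZeroDivisors (Localization.AtPrime q))
    (s c : B) (hs : s ∉ q) (hx : s * x = c * π ^ e) : h.nu (A := A) = nrm q c / nrm q s := by
  unfold PowAt.nu
  set s' := h.choose
  set c' := h.choose_spec.choose
  obtain ⟨hs', hc', hx'⟩ := h.choose_spec.choose_spec
  rw [div_eq_div_iff (nrm_ne_zero q hs') (nrm_ne_zero q hs), ← map_mul, ← map_mul]
  have heq : algebraMap B (Localization.AtPrime q) (c' * s) = algebraMap B (Localization.AtPrime q) (c * s') := by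
    refine (mul_cancel_right_mem_nonZeroDivisors (pow_mem hreg e)).1 ?_
    rw [← map_pow, ← map_mul, ← map_mul]
    refine congrArg _ ?_
    linear_combination s' * hx - s * hx'
  obtain ⟨⟨t, ht⟩, heq⟩ := (IsLocalization.eq_iff_exists q.primeCompl _).1 heq
  have := congrArg (nrm (A := A) q) heq
  rw [map_mul, map_mul (nrm q) t] at this
  exact mul_left_cancel₀ (nrm_ne_zero q ht) this

/-- Parameters and exponents at each maximal ideal. -/
structure Data (A B : Type u) [CommRing A] [IsLocalRing A] [CommRing B] [Algebra A B] (a₁ a₂ : A) where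
  π : MaximalSpectrum B → B
  reg : ∀ q, algebraMap B (Localization.AtPrime q.asIdeal) (π q) ∈ nonZeroDivisors (Localization.AtPrime q.asIdeal)
  e₁ : MaximalSpectrum B → ℕ
  e₂ : MaximalSpectrum B → ℕ
  h₁ : ∀ q, PowAt q.asIdeal (π q) (algebraMap A B a₁) (e₁ q)
  h₂ : ∀ q, PowAt q.asIdeal (π q) (algebraMap A B a₂) (e₂ q)

variable {a₁ a₂ : A}

/-- The symbol before taking multiplicities. -/
noncomputable def Data.sym (P : Data A B a₁ a₂) (q : MaximalSpectrum B) : ResidueField A :=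
  nrm q.asIdeal (-1) ^ (P.e₁ q * P.e₂ q) * (P.h₁ q).nu ^ P.e₂ q * ((P.h₂ q).nu ^ P.e₁ q)⁻¹

/-- The local multiplicity. -/
noncomputable def Data.mult (P : Data A B a₁ a₂) (q : MaximalSpectrum B) : ℕ :=
  (Ring.ord (Localization.AtPrime q.asIdeal) (algebraMap B (Localization.AtPrime q.asIdeal) (P.π q))).toNat

/-- The value of the data. -/
noncomputable def Data.value (P : Data A B a₁ a₂) : ResidueField A :=
  ∏ᶠ q : MaximalSpectrum B, P.sym q ^ P.mult q

theorem Data.sym_ne_zero (P : Data A B a₁ a₂) (q : MaximalSpectrum B) : P.sym q ≠ 0 :=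
  mul_ne_zero (mul_ne_zero (pow_ne_zero _ (nrm_ne_zero q.asIdeal fun h =>
    q.isMaximal.ne_top ((Ideal.eq_top_iff_one _).2 (by simpa using h))))
    (pow_ne_zero _ (P.h₁ q).nu_ne_zero)) (inv_ne_zero (pow_ne_zero _ (P.h₂ q).nu_ne_zero))

theorem Data.value_ne_zero [IsNoetherianRing A] (P : Data A B a₁ a₂) : P.value ≠ 0 := by
  haveI := finite_maximalSpectrum A B
  haveI := Fintype.ofFinite (MaximalSpectrum B)
  rw [Data.value, finprod_eq_prod_of_fintype]
  exact Finset.prod_ne_zero_iff.2 fun q _ => pow_ne_zero _ (P.sym_ne_zero q)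

/-- Data with units everywhere have trivial value. -/
theorem Data.value_of_isUnit (P : Data A B a₁ a₂) (h₁ : IsUnit a₁) (h₂ : IsUnit a₂) : P.value = 1 := by
  refine finprod_eq_one_of_forall_eq_one fun q => ?_
  by_cases hπ : P.π q ∈ q.asIdeal
  · have he : ∀ {x : B} {e : ℕ}, PowAt q.asIdeal (P.π q) x e → IsUnit x → e = 0 := by
      rintro x e ⟨s, c, hs, -, h⟩ hx
      by_contra he
      have : s * x ∈ q.asIdeal := h ▸ q.asIdeal.mul_mem_left c (q.asIdeal.pow_mem_of_mem hπ e (Nat.pos_of_ne_zero he))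
      exact hs (((q.isMaximal.isPrime.mem_or_mem this).resolve_right fun hm =>
        q.isMaximal.ne_top (q.asIdeal.eq_top_of_isUnit_mem hm hx)))
    have e1 := he (P.h₁ q) (h₁.map _)
    have e2 := he (P.h₂ q) (h₂.map _)
    simp [Data.sym, e1, e2]
  · rw [Data.mult, Ring.ord_of_isUnit (IsLocalization.map_units (Localization.AtPrime q.asIdeal)
      (⟨P.π q, hπ⟩ : q.asIdeal.primeCompl))]
    simp

theorem krullDimLE_localization [Ring.KrullDimLE 1 A] (q : Ideal B) [q.IsPrime] :
    Ring.KrullDimLE 1 (Localization.AtPrime q) := by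
  rw [Ring.krullDimLE_iff, IsLocalization.AtPrime.ringKrullDim_eq_height q (Localization.AtPrime q)]
  exact (Ideal.height_le_ringKrullDim_of_ne_top (Ideal.IsPrime.ne_top ‹_›)).trans
    ((GrothLib.Dim.ringKrullDim_le_of_isIntegral A B).trans (Ring.krullDimLE_iff.1 ‹_›))

theorem exponent_mul_eq {C : Type u} [CommRing C] [Algebra A C] [Algebra B C] [IsScalarTower A B C]
    (Q : Ideal C) [Q.IsPrime] {π : B} {π' : C} {q : Ideal B} (hQq : Q.comap (algebraMap B C) = q) {a : A} {t e : ℕ}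
    (ht : PowAt Q π' (algebraMap B C π) t) (h : PowAt q π (algebraMap A B a) e) :
    ∃ (sπ cπ : C) (s c : B), sπ ∉ Q ∧ cπ ∉ Q ∧ s ∉ q ∧ c ∉ q ∧ sπ * algebraMap B C π = cπ * π' ^ t ∧
      s * algebraMap A B a = c * π ^ e ∧
      algebraMap B C s * sπ ^ e * algebraMap A C a = algebraMap B C c * cπ ^ e * π' ^ (t * e) ∧
      algebraMap B C s * sπ ^ e ∉ Q ∧ algebraMap B C c * cπ ^ e ∉ Q := by
  obtain ⟨sπ, cπ, hsπ, hcπ, hπ⟩ := ht
  obtain ⟨s, c, hs, hc, hx⟩ := h
  refine ⟨sπ, cπ, s, c, hsπ, hcπ, hs, hc, hπ, hx, ?_, ?_, ?_⟩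
  · have h1 := congrArg (algebraMap B C) hx
    rw [map_mul, map_mul, map_pow, ← IsScalarTower.algebraMap_apply] at h1
    calc algebraMap B C s * sπ ^ e * algebraMap A C a = sπ ^ e * (algebraMap B C s * algebraMap A C a) := by ring
      _ = algebraMap B C c * (sπ * algebraMap B C π) ^ e := by rw [h1]; ring
      _ = _ := by rw [hπ, mul_pow, pow_mul]; ring
  all_goals
    intro hmem
    rcases Ideal.IsPrime.mem_or_mem ‹Q.IsPrime› hmem with h | h
  · exact hs (hQq ▸ Ideal.mem_comap.2 h)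
  · exact hsπ (Ideal.IsPrime.mem_of_pow_mem ‹_› _ h)
  · exact hc (hQq ▸ Ideal.mem_comap.2 h)
  · exact hcπ (Ideal.IsPrime.mem_of_pow_mem ‹_› _ h)

theorem sym_algebra {K : Type u} [Field K] (n x y w : K) (hw : w ≠ 0) (f t e₁ e₂ : ℕ) :
    (n ^ f) ^ (t * (e₁ * e₂)) * (x ^ f * w ^ e₁) ^ (t * e₂) * ((y ^ f * w ^ e₂) ^ (t * e₁))⁻¹ =
      (n ^ (e₁ * e₂) * x ^ e₂ * (y ^ e₁)⁻¹) ^ (f * t) := by
  have hw' : (w ^ e₁) ^ (t * e₂) = (w ^ e₂) ^ (t * e₁) := by
    rw [← pow_mul, ← pow_mul]; congr 1; ring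
  have hne : (w ^ e₂) ^ (t * e₁) ≠ 0 := pow_ne_zero _ (pow_ne_zero _ hw)
  rw [mul_pow (x ^ f), mul_pow (y ^ f), hw', mul_inv, mul_pow, mul_pow, inv_pow]
  calc _ = (n ^ f) ^ (t * (e₁ * e₂)) * (x ^ f) ^ (t * e₂) * ((y ^ f) ^ (t * e₁))⁻¹ *
        ((w ^ e₂) ^ (t * e₁) * ((w ^ e₂) ^ (t * e₁))⁻¹) := by ring
    _ = _ := by rw [mul_inv_cancel₀ hne, mul_one]; simp only [← pow_mul]; ring_nf

/-- Invariance under refinement. -/
theorem Data.value_eq_of_refine [IsNoetherianRing A] [Ring.KrullDimLE 1 A] {C : Type u} [CommRing C] [Algebra A C]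
    [Module.Finite A C] [Algebra B C] [IsScalarTower A B C] (hinj : Function.Injective (algebraMap B C))
    (hfin : Module.length A (C ⧸ LinearMap.range (Algebra.linearMap B C)) ≠ ⊤)
    (P : Data A B a₁ a₂) (P' : Data A C a₁ a₂) (hπ : ∀ q, P.π q ∈ q.asIdeal) (hπ' : ∀ Q, P'.π Q ∈ Q.asIdeal)
    (hpow : ∀ (q : MaximalSpectrum B) (Q : MaximalSpectrum C), Q.asIdeal.comap (algebraMap B C) = q.asIdeal →
      ∃ t, PowAt Q.asIdeal (P'.π Q) (algebraMap B C (P.π q)) t) : P'.value = P.value := by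
  classical
  haveI : Module.Finite B C := Module.Finite.of_restrictScalars_finite A B C
  haveI : IsNoetherianRing B := IsNoetherianRing.of_finite A B
  haveI : IsNoetherianRing C := IsNoetherianRing.of_finite A C
  haveI := finite_maximalSpectrum A B
  haveI := finite_maximalSpectrum A C
  haveI := Fintype.ofFinite (MaximalSpectrum B)
  haveI := Fintype.ofFinite (MaximalSpectrum C)
  let down : MaximalSpectrum C → MaximalSpectrum B := fun Q =>
    ⟨Q.asIdeal.comap (algebraMap B C), Ideal.isMaximal_comap_of_isIntegral_of_isMaximal Q.asIdeal⟩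
  rw [Data.value, Data.value, finprod_eq_prod_of_fintype, finprod_eq_prod_of_fintype,
    ← Finset.prod_fiberwise (Finset.univ) down]
  refine Finset.prod_congr rfl fun q _ => ?_
  have hsym : ∀ Q ∈ Finset.univ.filter (fun Q => down Q = q), ∃ t,
      P'.sym Q = P.sym q ^ ((Module.length B (C ⧸ Q.asIdeal)).toNat * t) ∧
      locLen (pt Q.asIdeal) (C ⧸ Ideal.span {algebraMap B C (P.π q)}) =
        (t : ℕ∞) * (P'.mult Q : ℕ∞) ∧
      algebraMap C (Localization.AtPrime Q.asIdeal) (algebraMap B C (P.π q)) ∈ nonZeroDivisors _ := by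
    intro Q hQ
    have hQq : Q.asIdeal.comap (algebraMap B C) = q.asIdeal := congrArg MaximalSpectrum.asIdeal (Finset.mem_filter.1 hQ).2
    obtain ⟨t, ht⟩ := hpow q Q hQq
    haveI := krullDimLE_localization (A := A) Q.asIdeal
    haveI : IsNoetherianRing (Localization.AtPrime Q.asIdeal) := IsLocalization.isNoetherianRing Q.asIdeal.primeCompl _ inferInstance
    obtain ⟨v, hv⟩ := ht.image
    refine ⟨t, ?_, ?_, hv ▸ mul_mem v.isUnit.mem_nonZeroDivisors (pow_mem (P'.reg Q) t)⟩
    · set f := (Module.length B (C ⧸ Q.asIdeal)).toNat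
      obtain ⟨sπ, cπ, s₁, c₁, hsπ, hcπ, hs₁, -, hπeq, hx₁, hy₁, hS₁, hC₁⟩ := exponent_mul_eq Q.asIdeal hQq ht (P.h₁ q)
      obtain ⟨sπ', cπ', s₂, c₂, hsπ', hcπ', hs₂, -, hπeq', hx₂, hy₂, hS₂, hC₂⟩ := exponent_mul_eq Q.asIdeal hQq ht (P.h₂ q)
      have he₁ := powAt_unique (hπ' Q) (P'.reg Q) (P'.h₁ Q) ⟨_, _, hS₁, hC₁, hy₁⟩
      have he₂ := powAt_unique (hπ' Q) (P'.reg Q) (P'.h₂ Q) ⟨_, _, hS₂, hC₂, hy₂⟩
      have hn₁ : (P'.h₁ Q).nu = (P.h₁ q).nu (A := A) ^ f * (nrm (A := A) Q.asIdeal cπ / nrm Q.asIdeal sπ) ^ P.e₁ q := by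
        rw [(P'.h₁ Q).nu_eq (P'.reg Q) _ _ hS₁ (by rw [hy₁, he₁]), (P.h₁ q).nu_eq (P.reg q) _ _ hs₁ hx₁,
          map_mul, map_mul, map_pow, map_pow, nrm_tower q.asIdeal Q.asIdeal hQq, nrm_tower q.asIdeal Q.asIdeal hQq,
          div_pow, div_pow, mul_div_mul_comm]
      have hn₂ : (P'.h₂ Q).nu = (P.h₂ q).nu (A := A) ^ f * (nrm (A := A) Q.asIdeal cπ / nrm Q.asIdeal sπ) ^ P.e₂ q := by
        have hw : nrm (A := A) Q.asIdeal cπ' / nrm Q.asIdeal sπ' = nrm (A := A) Q.asIdeal cπ / nrm Q.asIdeal sπ := by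
          rw [← ht.nu_eq (P'.reg Q) _ _ hsπ hπeq, ← ht.nu_eq (P'.reg Q) _ _ hsπ' hπeq']
        rw [(P'.h₂ Q).nu_eq (P'.reg Q) _ _ hS₂ (by rw [hy₂, he₂]), (P.h₂ q).nu_eq (P.reg q) _ _ hs₂ hx₂,
          map_mul, map_mul, map_pow, map_pow, nrm_tower q.asIdeal Q.asIdeal hQq, nrm_tower q.asIdeal Q.asIdeal hQq,
          ← hw, div_pow, div_pow, mul_div_mul_comm]
      have hneg : nrm (A := A) Q.asIdeal (-1) = nrm (A := A) q.asIdeal (-1) ^ f := by
        rw [← nrm_tower q.asIdeal Q.asIdeal hQq, map_neg (algebraMap B C), map_one]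
      have hsq : ∀ k, (nrm (A := A) q.asIdeal (-1) ^ f) ^ (2 * k) = 1 := fun k => by
        rw [← pow_mul, mul_comm, mul_assoc, pow_mul, ← map_pow, neg_one_sq, map_one, one_pow]
      have hw0 : nrm (A := A) Q.asIdeal cπ / nrm Q.asIdeal sπ ≠ 0 :=
        div_ne_zero (nrm_ne_zero _ hcπ) (nrm_ne_zero _ hsπ)
      have hpar : ∀ m : ℕ, (nrm (A := A) q.asIdeal (-1) ^ f) ^ (t * t * m) = (nrm (A := A) q.asIdeal (-1) ^ f) ^ (t * m) := by
        intro m
        rcases Nat.eq_zero_or_pos t with rfl | htpos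
        · simp
        obtain ⟨k, hk⟩ := (Nat.even_mul_pred_self t).mul_right m
        rw [show t * t * m = t * m + 2 * k from by
          obtain ⟨t', rfl⟩ : ∃ t', t = t' + 1 := ⟨t - 1, by omega⟩
          rw [Nat.add_sub_cancel] at hk
          rw [two_mul, ← hk]; ring, pow_add, hsq, mul_one]
      rw [Data.sym, hn₁, hn₂, he₁, he₂, hneg, show t * P.e₁ q * (t * P.e₂ q) = t * t * (P.e₁ q * P.e₂ q) by ring, hpar,
        Data.sym]
      exact sym_algebra _ _ _ _ hw0 f t (P.e₁ q) (P.e₂ q)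
    · rw [locLen_eq_ord', hv, Ring.ord_mul_of_isUnit_left v.isUnit, Ring.ord_pow (P'.reg Q), nsmul_eq_mul, Data.mult,
        ENat.natCast_toNat (Ring.ord_ne_top (P'.reg Q))]
  choose! t htsym htlen htreg using hsym
  have hmult : P.mult q = ∑ Q ∈ Finset.univ.filter (fun Q => down Q = q),
      (Module.length B (C ⧸ Q.asIdeal)).toNat * (t Q * P'.mult Q) := by
    let T : Finset (PrimeSpectrum C) := (Finset.univ.filter (fun Q => down Q = q)).image fun Q => pt Q.asIdeal
    have hT : ∀ Q, Q ∈ T ↔ Q.asIdeal.comap (algebraMap B C) = q.asIdeal := by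
      intro Q
      simp only [T, Finset.mem_image, Finset.mem_filter, Finset.mem_univ, true_and]
      constructor
      · rintro ⟨Q', h, rfl⟩
        exact congrArg MaximalSpectrum.asIdeal h
      · intro h
        have : Q.asIdeal.IsMaximal :=
          Ideal.isMaximal_of_isIntegral_of_isMaximal_comap Q.asIdeal (h ▸ q.isMaximal)
        exact ⟨⟨Q.asIdeal, this⟩, MaximalSpectrum.ext h, rfl⟩
    have hfinB : locLen (pt q.asIdeal) (C ⧸ LinearMap.range (Algebra.linearMap B C)) ≠ ⊤ := by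
      haveI : Module.Finite B (C ⧸ LinearMap.range (Algebra.linearMap B C)) := inferInstance
      have hB : Module.length B (C ⧸ LinearMap.range (Algebra.linearMap B C)) ≠ ⊤ :=
        ne_top_of_le_ne_top hfin (by
          have h := Submodule.length_le_length_restrictScalars A
            (⊤ : Submodule B (C ⧸ LinearMap.range (Algebra.linearMap B C)))
          rwa [Submodule.restrictScalars_top, Module.length_top, Module.length_top] at h)
      have hm := isMaximal_of_mem_support hB.lt_top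
      refine ne_top_of_le_ne_top hB ?_
      rw [length_eq_sum (A := B) (M := C ⧸ LinearMap.range (Algebra.linearMap B C))
        (Finset.univ.image fun q : MaximalSpectrum B => pt q.asIdeal)
        (by intro p hp; obtain ⟨q, -, rfl⟩ := Finset.mem_image.1 hp; exact q.isMaximal)
        (fun p hp => Finset.mem_image.2 ⟨⟨p.asIdeal, hm p hp⟩, Finset.mem_univ _, rfl⟩)]
      exact Finset.single_le_sum (f := fun p => locLen p _) (fun _ _ => zero_le) (Finset.mem_image_of_mem _ (Finset.mem_univ q))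
    have hcmp : locLen (pt q.asIdeal) (C ⧸ Ideal.span {algebraMap B C (P.π q)}) = locLen (pt q.asIdeal) (B ⧸ Ideal.span {P.π q}) :=
      locLen_compare q.asIdeal hinj hfinB (P.π q) fun Q _ hQ => by
        have hQm : Q.IsMaximal := Ideal.isMaximal_of_isIntegral_of_isMaximal_comap Q (hQ ▸ q.isMaximal)
        exact htreg ⟨Q, hQm⟩ (Finset.mem_filter.2 ⟨Finset.mem_univ _, MaximalSpectrum.ext hQ⟩)
    have hall : ∀ p ∈ Module.support C (C ⧸ Ideal.span {algebraMap B C (P.π q)}),
        p.asIdeal.comap (algebraMap B C) ≤ q.asIdeal → p.asIdeal.IsMaximal := by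
      intro p hp hpq
      have hxp : algebraMap B C (P.π q) ∈ p.asIdeal := by
        rw [Module.support_eq_zeroLocus, Ideal.annihilator_quotient] at hp
        exact hp (Ideal.mem_span_singleton_self _)
      obtain ⟨Q, hpQ, hQ, hQc⟩ := Ideal.exists_ideal_over_prime_of_isIntegral q.asIdeal p.asIdeal hpq
      have hQm : Q.IsMaximal := Ideal.isMaximal_of_isIntegral_of_isMaximal_comap Q (hQc ▸ q.isMaximal)
      rcases eq_or_ne p.asIdeal Q with h | h
      · exact h ▸ hQm
      exfalso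
      haveI := krullDimLE_localization (A := A) Q
      have hd : Disjoint (Q.primeCompl : Set C) p.asIdeal :=
        Set.disjoint_left.2 fun x hx hxp => hx (hpQ hxp)
      haveI hpr := IsLocalization.isPrime_of_isPrime_disjoint Q.primeCompl (Localization.AtPrime Q) p.asIdeal p.isPrime hd
      have hcomap := IsLocalization.under_map_of_isPrime_disjoint Q.primeCompl (Localization.AtPrime Q) p.isPrime hd
      rcases Ring.krullDimLE_one_iff.mp ‹Ring.KrullDimLE 1 (Localization.AtPrime Q)› _ hpr with hmin | hmx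
      · exact Set.disjoint_left.mp (Ideal.disjoint_nonZeroDivisors_of_mem_minimalPrimes hmin)
          (Ideal.mem_map_of_mem _ hxp) (htreg ⟨Q, hQm⟩ (Finset.mem_filter.2 ⟨Finset.mem_univ _, MaximalSpectrum.ext hQc⟩))
      · rw [IsLocalRing.eq_maximalIdeal hmx] at hcomap
        exact h (hcomap.symm.trans (IsLocalization.AtPrime.under_maximalIdeal (Localization.AtPrime Q) Q))
    have hsum := locLen_fibre q.asIdeal (C ⧸ Ideal.span {algebraMap B C (P.π q)}) hall T hT
    rw [hcmp, locLen_eq_ord'] at hsum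
    have hlenQ : ∀ Q : MaximalSpectrum C, down Q = q → Module.length B (C ⧸ Q.asIdeal) ≠ ⊤ := fun Q hQ => by
      haveI : Q.asIdeal.LiesOver q.asIdeal := ⟨(congrArg MaximalSpectrum.asIdeal hQ).symm⟩
      letI : Field (B ⧸ q.asIdeal) := Ideal.Quotient.field _
      haveI : Module.Finite (B ⧸ q.asIdeal) (C ⧸ Q.asIdeal) := Module.Finite.of_restrictScalars_finite B _ _
      rw [Module.length_eq_of_surjective (S := B) (R := B ⧸ q.asIdeal) Ideal.Quotient.mk_surjective,
        Module.length_eq_finrank]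
      exact ENat.natCast_ne_top _
    rw [Data.mult, hsum, Finset.sum_image (fun x _ y _ h => MaximalSpectrum.ext (congrArg PrimeSpectrum.asIdeal h)),
      ENat.toNat_sum fun Q hQ => ?_]
    · refine Finset.sum_congr rfl fun Q hQ => ?_
      rw [htlen Q hQ, ENat.toNat_mul, ENat.toNat_mul, ENat.toNat_coe, ENat.toNat_coe, mul_comm]
    · rw [htlen Q hQ]
      exact WithTop.mul_ne_top (WithTop.mul_ne_top (ENat.natCast_ne_top _) (ENat.natCast_ne_top _))
        (hlenQ Q (Finset.mem_filter.1 hQ).2)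
  rw [hmult, ← Finset.prod_pow_eq_pow_sum]
  exact Finset.prod_congr rfl fun Q hQ => by rw [htsym Q hQ, ← pow_mul, mul_assoc]

end GrothLib.Tame
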